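import Mathlib

/-!
A proper subgroup of a symmetric group containing all stabilisers of relations invariant under a
`2`-group forces degree `2 ^ m + 1`.
-/

set_option autoImplicit false
set_option linter.style.haveILetI false

namespace Cfsg.Agent.H34.Para

open Equiv

section

variable {n : ℕ} {Q M₀ : Subgroup (Perm (Fin n))}

/-- `M₀` contains the stabilisers of the nontrivial `Q`-invariant relations. -/
def StabIn (Q M₀ : Subgroup (Perm (Fin n))) : Prop :=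
  ∀ R : Fin n → Fin n → Prop, (∀ i j, R i j → R j i) → (∀ i, ¬ R i i) →
    (∀ q ∈ Q, ∀ i j, R i j → R (q i) (q j)) → (∃ i j a b, R i j ∧ a ≠ b ∧ ¬ R a b) →
    ∀ σ : Perm (Fin n), (∀ i j, R i j → R (σ i) (σ j)) → σ ∈ M₀

theorem top_of_swaps (h : ∀ a b : Fin n, swap a b ∈ M₀) : M₀ = ⊤ := by
  rw [eq_top_iff, ← Equiv.Perm.closure_isSwap, Subgroup.closure_le]
  rintro _ ⟨a, b, -, rfl⟩
  exact h a b

theorem side_swap (hs : StabIn Q M₀) (hn : 3 ≤ n) {S : Set (Fin n)}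
    (hQ : ∀ q ∈ Q, ∀ i j, (i ∈ S ↔ j ∈ S) → (q i ∈ S ↔ q j ∈ S)) {x y : Fin n} (hx : x ∈ S) (hy : y ∉ S)
    {a b : Fin n} (hab : a ∈ S ↔ b ∈ S) : swap a b ∈ M₀ := by
  classical
  refine hs (fun i j => i ≠ j ∧ (i ∈ S ↔ j ∈ S)) (fun i j h => ⟨Ne.symm h.1, h.2.symm⟩)
    (fun i h => h.1 rfl) (fun q hq i j h => ⟨fun e => h.1 (q.injective e), hQ q hq i j h.2⟩) ?_ _ ?_
  · obtain ⟨z, hzx, hzy⟩ : ∃ z : Fin n, z ≠ x ∧ z ≠ y := by
      by_contra hall
      push Not at hall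
      have hle := Finset.card_le_card (show (Finset.univ : Finset (Fin n)) ⊆ {x, y} from fun z _ => by
        simp only [Finset.mem_insert, Finset.mem_singleton]
        exact or_iff_not_imp_left.2 (hall z))
      have h2 := hle.trans Finset.card_le_two
      rw [Finset.card_univ, Fintype.card_fin] at h2
      omega
    by_cases hz : z ∈ S
    · exact ⟨x, z, x, y, ⟨Ne.symm hzx, by simp [hx, hz]⟩, fun e => hy (e ▸ hx), fun h => hy (h.2.1 hx)⟩
    · exact ⟨y, z, x, y, ⟨Ne.symm hzy, by simp [hy, hz]⟩, fun e => hy (e ▸ hx), fun h => hy (h.2.1 hx)⟩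
  · have key : ∀ i, swap a b i ∈ S ↔ i ∈ S := by
      intro i
      rw [swap_apply_def]
      split_ifs with h1 h2
      · subst h1; exact hab.symm
      · subst h2; exact hab
      · rfl
    exact fun i j h => ⟨fun e => h.1 ((swap a b).injective e), by rw [key, key]; exact h.2⟩

theorem top_of_crossing (hs : StabIn Q M₀) (hn : 3 ≤ n) {S : Set (Fin n)}
    (hQ : ∀ q ∈ Q, ∀ i j, (i ∈ S ↔ j ∈ S) → (q i ∈ S ↔ q j ∈ S)) {k l : Fin n} (hk : k ∈ S) (hl : l ∉ S)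
    (h : swap k l ∈ M₀) : M₀ = ⊤ := by
  classical
  have key : ∀ a b, a ∈ S → b ∉ S → swap a b ∈ M₀ := by
    intro a b ha hb
    have h1 := side_swap hs hn hQ hk hl (a := k) (b := a) (by simp [hk, ha])
    have h2 := side_swap hs hn hQ hk hl (a := l) (b := b) (by simp [hl, hb])
    have e : swap a b = (swap k a * swap l b) * swap k l * (swap k a * swap l b)⁻¹ := by
      rw [← Equiv.swap_apply_apply]
      have hkb : k ≠ b := fun e => hb (e ▸ hk)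
      have hkl : k ≠ l := fun e => hl (e ▸ hk)
      have hal : a ≠ l := fun e => hl (e ▸ ha)
      have hab : a ≠ b := fun e => hb (e ▸ ha)
      rw [Equiv.Perm.mul_apply, Equiv.Perm.mul_apply, swap_apply_of_ne_of_ne hkl hkb, swap_apply_left,
        swap_apply_left, swap_apply_of_ne_of_ne hkb.symm hab.symm]
    rw [e]
    exact M₀.mul_mem (M₀.mul_mem (M₀.mul_mem h1 h2) h) (M₀.inv_mem (M₀.mul_mem h1 h2))
  refine top_of_swaps fun a b => ?_
  by_cases hab : a ∈ S ↔ b ∈ S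
  · exact side_swap hs hn hQ hk hl hab
  by_cases ha : a ∈ S
  · exact key a b ha fun hb => hab (by simp [ha, hb])
  · rw [swap_comm]
    exact key b a (by_contra fun hb => hab (by simp [ha, hb])) ha

theorem top_of_two (hs : StabIn Q M₀) (hn : 5 ≤ n) {S : Set (Fin n)}
    (hQ : ∀ q ∈ Q, ∀ i j, (i ∈ S ↔ j ∈ S) → (q i ∈ S ↔ q j ∈ S)) {x y : Fin n} (hx : x ∈ S) (hy : y ∉ S)
    (μ : Fin n → Fin n) (hμμ : ∀ i, μ (μ i) = i) (hμ : ∀ i, μ i ≠ i)
    (hμQ : ∀ q ∈ Q, ∀ i, μ (q i) = q (μ i)) (hbig : ∃ a b c, a ∈ S ∧ b ∈ S ∧ c ∈ S ∧ a ≠ b ∧ a ≠ c ∧ b ≠ c) :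
    M₀ = ⊤ := by
  classical
  have hμi : Function.Injective μ := Function.LeftInverse.injective hμμ
  have hμstab : ∀ σ : Perm (Fin n), (∀ i, μ (σ i) = σ (μ i)) → σ ∈ M₀ := by
    intro σ hσ
    refine hs (fun i j => j = μ i) (fun i j h => by rw [h, hμμ]) (fun i h => hμ i h.symm)
      (fun q hq i j h => by rw [h, hμQ q hq]) ?_ σ (fun i j h => by rw [h, hσ])
    obtain ⟨b, hb⟩ : ∃ b, b ∉ ({x, μ x} : Finset (Fin n)) := by
      by_contra hall
      push Not at hall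
      have hle := Finset.card_le_card (show (Finset.univ : Finset (Fin n)) ⊆ {x, μ x} from fun z _ => hall z)
      have h2 := hle.trans Finset.card_le_two
      rw [Finset.card_univ, Fintype.card_fin] at h2
      omega
    simp only [Finset.mem_insert, Finset.mem_singleton, not_or] at hb
    exact ⟨x, μ x, x, b, rfl, Ne.symm hb.1, hb.2⟩
  by_cases hcross : ∃ i, i ∈ S ∧ μ i ∉ S
  · obtain ⟨i, hi, hi'⟩ := hcross
    refine top_of_crossing hs (by omega) hQ hi hi' (hμstab _ fun j => ?_)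
    rw [swap_apply_def, swap_apply_def]
    by_cases h1 : j = i
    · subst h1; simp [hμμ, hμ]
    by_cases h2 : j = μ i
    · subst h2; simp [hμμ, hμ]
    have h3 : μ j ≠ i := fun e => h2 (by rw [← e, hμμ])
    have h4 : μ j ≠ μ i := fun e => h1 (hμi e)
    simp [h1, h2, h3, h4]
  push Not at hcross
  obtain ⟨a, b, c, ha, hb, hc, hab, hac, hbc⟩ := hbig
  obtain ⟨i, l, hi, hl, hli, hlμ⟩ : ∃ i l, i ∈ S ∧ l ∈ S ∧ l ≠ i ∧ l ≠ μ i := by
    by_cases h1 : b = μ a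
    · exact ⟨a, c, ha, hc, Ne.symm hac, fun e => hbc (h1.trans e.symm)⟩
    · exact ⟨a, b, ha, hb, Ne.symm hab, h1⟩
  have hyμ : μ y ∉ S := fun h' => hy (by have := hcross _ h'; rwa [hμμ] at this)
  have hiμ := hcross i hi
  have d1 : i ≠ y := fun e => hy (e ▸ hi)
  have d2 : i ≠ μ y := fun e => hyμ (e ▸ hi)
  have d3 : μ i ≠ y := fun e => hy (e ▸ hiμ)
  have d4 : μ i ≠ μ y := fun e => d1 (hμi e)
  set q := swap i y * swap (μ i) (μ y) with hq
  have hqv : q i = y ∧ q (μ i) = μ y ∧ q y = i ∧ q (μ y) = μ i ∧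
      ∀ j, j ≠ i → j ≠ y → j ≠ μ i → j ≠ μ y → q j = j := by
    refine ⟨?_, ?_, ?_, ?_, fun j j1 j2 j3 j4 => ?_⟩ <;> rw [hq, Equiv.Perm.mul_apply]
    · rw [swap_apply_of_ne_of_ne (hμ i).symm d2, swap_apply_left]
    · rw [swap_apply_left, swap_apply_of_ne_of_ne d2.symm (hμ y)]
    · rw [swap_apply_of_ne_of_ne d3.symm (hμ y).symm, swap_apply_right]
    · rw [swap_apply_right, swap_apply_of_ne_of_ne (hμ i) d3]
    · rw [swap_apply_of_ne_of_ne j3 j4, swap_apply_of_ne_of_ne j1 j2]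
  have hqμ : q ∈ M₀ := hμstab q fun j => by
    by_cases j1 : j = i
    · rw [j1, hqv.1, hqv.2.1]
    by_cases j2 : j = y
    · rw [j2, hqv.2.2.1, hqv.2.2.2.1]
    by_cases j3 : j = μ i
    · rw [j3, hqv.2.1, hμμ, hμμ, hqv.1]
    by_cases j4 : j = μ y
    · rw [j4, hqv.2.2.2.1, hμμ, hμμ, hqv.2.2.1]
    rw [hqv.2.2.2.2 j j1 j2 j3 j4, hqv.2.2.2.2 (μ j) (fun e => j3 (by rw [← e, hμμ]))
      (fun e => j4 (by rw [← e, hμμ])) (fun e => j1 (hμi e)) (fun e => j2 (hμi e))]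
  have hil := side_swap hs (by omega) hQ hx hy (a := i) (b := l) (by simp [hi, hl])
  have hql : q l = l := hqv.2.2.2.2 l hli (fun e => hy (e ▸ hl)) hlμ (fun e => hyμ (e ▸ hl))
  have e : swap l y = q * swap i l * q⁻¹ := by
    rw [← Equiv.swap_apply_apply, hqv.1, hql, swap_comm]
  exact top_of_crossing hs (by omega) hQ hl hy (by rw [e]; exact M₀.mul_mem (M₀.mul_mem hqμ hil) (M₀.inv_mem hqμ))

/-- A fixed-point-free involution on an orbit commuting with the group. -/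
theorem exists_invol (hQ : IsPGroup 2 Q) {x : Fin n} (hx : ∃ q ∈ Q, q x ≠ x) :
    ∃ μ : Fin n → Fin n, (∀ i, (∃ q ∈ Q, q x = i) → (∃ q ∈ Q, q x = μ i) ∧ μ (μ i) = i ∧ μ i ≠ i) ∧
      ∀ q ∈ Q, ∀ i, (∃ q ∈ Q, q x = i) → μ (q i) = q (μ i) := by
  classical
  haveI : Fact (Nat.Prime 2) := ⟨Nat.prime_two⟩
  let O : Fin n → Prop := fun i => ∃ q ∈ Q, q x = i
  have hO : ∀ q : ↥Q, ∀ i, O ((q : Perm (Fin n)) i) ↔ O i := by
    intro q i
    constructor
    · rintro ⟨s, hs, e⟩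
      exact ⟨(q : Perm (Fin n))⁻¹ * s, Q.mul_mem (Q.inv_mem q.2) hs, by rw [Equiv.Perm.mul_apply, e]; simp⟩
    · rintro ⟨s, hs, e⟩
      exact ⟨(q : Perm (Fin n)) * s, Q.mul_mem q.2 hs, by rw [Equiv.Perm.mul_apply, e]⟩
  let ρ : ↥Q →* Perm {i // O i} := MonoidHom.mk' (fun q => Perm.subtypePerm q.1 (hO q))
    (fun a b => Equiv.ext fun i => rfl)
  have hp : IsPGroup 2 ρ.range := hQ.of_surjective ρ.rangeRestrict ρ.rangeRestrict_surjective
  obtain ⟨q₀, hq₀, hq₀x⟩ := hx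
  haveI : Nontrivial ρ.range := by
    refine ⟨⟨⟨ρ ⟨q₀, hq₀⟩, ⟨_, rfl⟩⟩, 1, fun e => hq₀x ?_⟩⟩
    have h1 := congrArg (fun σ : ρ.range => (((σ : Perm {i // O i})) ⟨x, 1, Q.one_mem, rfl⟩).1) e
    exact h1
  haveI := hp.center_nontrivial
  have hc : IsPGroup 2 (Subgroup.center ρ.range) := hp.to_subgroup _
  obtain ⟨k, hk0, hk⟩ := hc.nontrivial_iff_card.1 inferInstance
  obtain ⟨z, hz⟩ := exists_prime_orderOf_dvd_card' (G := Subgroup.center ρ.range) 2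
    (by rw [hk]; exact dvd_pow_self 2 (by omega))
  set σ : Perm {i // O i} := ((z : ρ.range) : Perm {i // O i})
  have hσ2 : σ * σ = 1 := by
    have := pow_orderOf_eq_one z
    rw [hz, pow_two] at this
    exact congrArg (fun w : Subgroup.center ρ.range => ((w : ρ.range) : Perm {i // O i})) this
  have hσc : ∀ q : ↥Q, σ * ρ q = ρ q * σ := fun q => by
    have := Subgroup.mem_center_iff.1 z.2 ⟨ρ q, ⟨q, rfl⟩⟩
    exact (congrArg (fun w : ρ.range => (w : Perm {i // O i})) this).symm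
  have hfpf : ∀ i, σ i ≠ i := by
    intro i hi
    have hne : z ≠ 1 := fun e => by rw [e, orderOf_one] at hz; omega
    refine hne (Subtype.ext (Subtype.ext (Equiv.ext fun j => ?_)))
    show σ j = j
    obtain ⟨s, hs, hsi⟩ := i.2
    obtain ⟨t, ht, htj⟩ := j.2
    have hj : j = ρ ⟨t * s⁻¹, Q.mul_mem ht (Q.inv_mem hs)⟩ i := by
      apply Subtype.ext
      show (j : Fin n) = (t * s⁻¹) (i : Fin n)
      rw [← htj, ← hsi, Equiv.Perm.mul_apply]
      simp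
    rw [hj, ← Equiv.Perm.mul_apply, hσc, Equiv.Perm.mul_apply, hi]
  refine ⟨fun i => if hi : O i then (σ ⟨i, hi⟩).1 else i, fun i hi => ?_, fun q hq i hi => ?_⟩
  · have hi' : O i := hi
    simp only [dif_pos hi']
    refine ⟨(σ ⟨i, hi'⟩).2, ?_, fun e => hfpf _ (Subtype.ext e)⟩
    rw [dif_pos (σ ⟨i, hi'⟩).2]
    have := congrArg (fun π : Perm {i // O i} => (π ⟨i, hi'⟩).1) hσ2
    simpa using this
  · have hi' : O i := hi
    have hqi : O (q i) := (hO ⟨q, hq⟩ i).2 hi'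
    simp only [dif_pos hi', dif_pos hqi]
    exact congrArg (fun π : Perm {i // O i} => (π ⟨i, hi'⟩).1) (hσc ⟨q, hq⟩)

/-- The degree is `2 ^ m + 1`. -/
theorem two_pow_add_one (hn : 5 ≤ n) (hQ : IsPGroup 2 Q) (hs : StabIn Q M₀) (hM : M₀ ≠ ⊤) :
    ∃ m, 1 ≤ m ∧ n = 2 ^ m + 1 := by
  classical
  haveI : Fact (Nat.Prime 2) := ⟨Nat.prime_two⟩
  let O : Fin n → Set (Fin n) := fun x => {i | ∃ q ∈ Q, q x = i}
  have hinv : ∀ x, ∀ q ∈ Q, ∀ i, q i ∈ O x ↔ i ∈ O x := by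
    intro x q hq i
    constructor
    · rintro ⟨s, hs', e⟩
      exact ⟨q⁻¹ * s, Q.mul_mem (Q.inv_mem hq) hs', by rw [Equiv.Perm.mul_apply, e]; simp⟩
    · rintro ⟨s, hs', e⟩
      exact ⟨q * s, Q.mul_mem hq hs', by rw [Equiv.Perm.mul_apply, e]⟩
  have hQS : ∀ x, ∀ q ∈ Q, ∀ i j, (i ∈ O x ↔ j ∈ O x) → (q i ∈ O x ↔ q j ∈ O x) := fun x q hq i j h => by
    rwa [hinv x q hq, hinv x q hq]
  have hself : ∀ x, x ∈ O x := fun x => ⟨1, Q.one_mem, rfl⟩
  have hsame : ∀ x i, i ∈ O x → O i = O x := by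
    rintro x _ ⟨s, hs', rfl⟩
    ext j
    constructor
    · rintro ⟨t, ht, rfl⟩; exact (hinv x t ht _).2 ⟨s, hs', rfl⟩
    · rintro ⟨t, ht, rfl⟩
      exact ⟨t * s⁻¹, Q.mul_mem ht (Q.inv_mem hs'), by simp⟩
  have hcard : ∀ x, ∃ a, Nat.card (O x) = 2 ^ a := by
    intro x
    obtain ⟨a, ha⟩ := hQ.card_orbit x
    refine ⟨a, ?_⟩
    rw [← ha]
    refine Nat.card_congr (Equiv.setCongr ?_)
    ext i
    simp [O, MulAction.mem_orbit_iff, Subgroup.smul_def]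
  let x₀ : Fin n := ⟨0, by omega⟩
  have hbig : ∀ S : Set (Fin n), 3 ≤ Nat.card S → ∃ a b c, a ∈ S ∧ b ∈ S ∧ c ∈ S ∧ a ≠ b ∧ a ≠ c ∧ b ≠ c := by
    intro S hS
    rw [Nat.card_eq_fintype_card, ← Set.toFinset_card] at hS
    obtain ⟨t, hts, ht⟩ := Finset.exists_subset_card_eq hS
    obtain ⟨a, b, c, hab, hac, hbc, rfl⟩ := Finset.card_eq_three.1 ht
    exact ⟨a, b, c, Set.mem_toFinset.1 (hts (by simp)), Set.mem_toFinset.1 (hts (by simp)),
      Set.mem_toFinset.1 (hts (by simp)), hab, hac, hbc⟩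
  have hsum : ∀ S : Set (Fin n), Nat.card S + Nat.card ↥Sᶜ = n := fun S => by
    rw [← Nat.card_sum, Nat.card_congr (Equiv.Set.sumCompl S), Nat.card_eq_fintype_card, Fintype.card_fin]
  have hbig' : ∀ (S : Set (Fin n)) (μ : Fin n → Fin n), (∀ q ∈ Q, ∀ i j, (i ∈ S ↔ j ∈ S) → (q i ∈ S ↔ q j ∈ S)) →
      ∀ x y : Fin n, x ∈ S → y ∉ S → (∀ i, μ (μ i) = i) → (∀ i, μ i ≠ i) →
      (∀ q ∈ Q, ∀ i, μ (q i) = q (μ i)) → False := by
    intro S μ hS x y hx hy h1 h2 h3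
    by_cases hc : 3 ≤ Nat.card S
    · exact hM (top_of_two hs hn hS hx hy μ h1 h2 h3 (hbig S hc))
    · refine hM (top_of_two hs hn (S := Sᶜ) (fun q hq i j h => ?_) (show y ∈ Sᶜ from hy)
        (fun h' => h' hx) μ h1 h2 h3 (hbig _ (by have := hsum S; omega)))
      simp only [Set.mem_compl_iff, not_iff_not] at h ⊢
      exact hS q hq i j h
  by_cases h1 : ∀ i, i ∈ O x₀
  · -- one orbit
    exfalso
    obtain ⟨q₁, hq₁, hq₁x⟩ := h1 ⟨1, by omega⟩
    obtain ⟨μ, hμ1, hμ2⟩ := exists_invol hQ ⟨q₁, hq₁, by rw [hq₁x]; simp [x₀, Fin.ext_iff]⟩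
    -- a subgroup of index two above the point stabiliser
    let H : Subgroup ↥Q := MulAction.stabilizer ↥Q x₀
    obtain ⟨m, hm⟩ := IsPGroup.iff_card.1 hQ
    obtain ⟨j, hj⟩ := IsPGroup.iff_card.1 (hQ.to_subgroup H)
    have hjm : j < m := by
      have hlt : Nat.card H < Nat.card ↥Q := by
        refine lt_of_le_of_ne (Subgroup.card_le_card_group _) fun e => ?_
        have hmem : (⟨q₁, hq₁⟩ : ↥Q) ∈ H := (Subgroup.eq_top_of_card_eq _ e).symm ▸ Subgroup.mem_top _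
        have h4 : q₁ x₀ = x₀ := MulAction.mem_stabilizer_iff.1 hmem
        rw [hq₁x] at h4
        simp [x₀, Fin.ext_iff] at h4
      rw [hm, hj] at hlt
      exact (Nat.pow_lt_pow_iff_right (by norm_num)).1 hlt
    obtain ⟨K, hKc, hHK⟩ := Sylow.exists_subgroup_card_pow_prime_le 2 (n := j) (m := m - 1)
      (by rw [hm]; exact pow_dvd_pow 2 (by omega)) H hj (by omega)
    have hidx : K.index = 2 := by
      have e := K.index_mul_card
      rw [hKc, hm, show m = (m - 1) + 1 by omega, pow_succ', show (m - 1 + 1 - 1) = m - 1 by omega] at e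
      exact Nat.eq_of_mul_eq_mul_right (by positivity) e
    let S : Set (Fin n) := {i | ∃ k : ↥Q, k ∈ K ∧ (k : Perm (Fin n)) x₀ = i}
    have hmem : ∀ k : ↥Q, (k : Perm (Fin n)) x₀ ∈ S ↔ k ∈ K := by
      intro k
      refine ⟨fun ⟨k', hk', e⟩ => ?_, fun h => ⟨k, h, rfl⟩⟩
      have h5 : k'⁻¹ * k ∈ K := hHK (MulAction.mem_stabilizer_iff.2 (by
        show ((k' : Perm (Fin n))⁻¹ * (k : Perm (Fin n))) x₀ = x₀
        rw [Equiv.Perm.mul_apply, ← e]; simp))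
      simpa using K.mul_mem hk' h5
    obtain ⟨y, hy⟩ : ∃ y : ↥Q, y ∉ K := by
      by_contra hall
      push Not at hall
      rw [(Subgroup.eq_top_iff' K).2 hall, Subgroup.index_top] at hidx
      omega
    refine hbig' S μ ?_ x₀ ((y : Perm (Fin n)) x₀) ⟨1, K.one_mem, rfl⟩ (fun h => hy ((hmem y).1 h))
      (fun i => (hμ1 i (h1 i)).2.1) (fun i => (hμ1 i (h1 i)).2.2) fun q hq i => hμ2 q hq i (h1 i)
    intro q hq i j hij
    obtain ⟨a, ha, rfl⟩ := h1 i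
    obtain ⟨b, hb, rfl⟩ := h1 j
    rw [hmem ⟨a, ha⟩, hmem ⟨b, hb⟩] at hij
    rw [← Equiv.Perm.mul_apply, ← Equiv.Perm.mul_apply]
    show ((⟨q, hq⟩ * ⟨a, ha⟩ : ↥Q) : Perm (Fin n)) x₀ ∈ S ↔ ((⟨q, hq⟩ * ⟨b, hb⟩ : ↥Q) : Perm (Fin n)) x₀ ∈ S
    rw [hmem, hmem, Subgroup.mul_mem_iff_of_index_two hidx, Subgroup.mul_mem_iff_of_index_two hidx, hij]
  push Not at h1
  obtain ⟨y, hy⟩ := h1
  by_cases h2 : ∃ w, w ∉ O x₀ ∧ w ∉ O y
  · exfalso
    obtain ⟨w, hw1, hw2⟩ := h2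
    refine hM (top_of_swaps fun a b => ?_)
    have s1 : ∀ a b, (a ∈ O x₀ ↔ b ∈ O x₀) → swap a b ∈ M₀ := fun a b =>
      side_swap hs (by omega) (hQS x₀) (hself x₀) hy
    have s2 : ∀ a b, (a ∈ O y ↔ b ∈ O y) → swap a b ∈ M₀ := fun a b =>
      side_swap hs (by omega) (hQS y) (hself y) hw2
    have hxy : x₀ ∉ O y := fun h => hy (hsame y x₀ h ▸ hself y)
    -- every point is joined to `w`
    have hto : ∀ a, swap a w ∈ M₀ := by
      intro a
      by_cases ha : a ∈ O x₀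
      · refine s2 a w ?_
        have : a ∉ O y := fun h => hy (by rw [← hsame x₀ a ha, hsame y a h]; exact hself y)
        simp [this, hw2]
      · exact s1 a w (by simp [ha, hw1])
    by_cases hab : a = b
    · subst hab; rw [swap_self]; exact M₀.one_mem
    by_cases haw : a = w
    · subst haw; rw [swap_comm]; exact hto b
    have e : swap a b = swap b w * swap a w * (swap b w)⁻¹ := by
      rw [← Equiv.swap_apply_apply, swap_apply_of_ne_of_ne hab haw, swap_apply_right]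
    rw [e]
    exact M₀.mul_mem (M₀.mul_mem (hto b) (hto a)) (M₀.inv_mem (hto b))
  push Not at h2
  have hcompl : (O x₀)ᶜ = O y := by
    ext i
    exact ⟨h2 i, fun hi h' => hy (by rw [← hsame x₀ i h', hsame y i hi]; exact hself y)⟩
  obtain ⟨a, ha⟩ := hcard x₀
  obtain ⟨b, hb⟩ := hcard y
  have hn' := hsum (O x₀)
  rw [hcompl, ha, hb] at hn'
  by_cases ha0 : a = 0
  · subst ha0
    exact ⟨b, Nat.one_le_iff_ne_zero.2 (fun e => by subst e; norm_num at hn'; omega), by omega⟩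
  by_cases hb0 : b = 0
  · subst hb0
    exact ⟨a, by omega, by omega⟩
  exfalso
  have hmove : ∀ x k, k ≠ 0 → Nat.card (O x) = 2 ^ k → ∃ q ∈ Q, q x ≠ x := by
    intro x k hk hkc
    by_contra hall
    push Not at hall
    have : Nat.card (O x) = 1 := by
      rw [show O x = {x} by
        ext i
        exact ⟨fun ⟨q, hq, e⟩ => by rw [Set.mem_singleton_iff, ← e, hall q hq],
          fun e => by rw [Set.mem_singleton_iff.1 e]; exact hself x⟩]
      simp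
    rw [this] at hkc
    exact absurd hkc (Nat.one_lt_two_pow hk).ne
  obtain ⟨μ₁, h11, h12⟩ := exists_invol hQ (hmove x₀ a ha0 ha)
  obtain ⟨μ₂, h21, h22⟩ := exists_invol hQ (hmove y b hb0 hb)
  let μ : Fin n → Fin n := fun i => if i ∈ O x₀ then μ₁ i else μ₂ i
  have hcase : ∀ i, (i ∈ O x₀ ∧ μ i = μ₁ i) ∨ (i ∉ O x₀ ∧ i ∈ O y ∧ μ i = μ₂ i) := fun i => by
    by_cases hi : i ∈ O x₀
    · exact .inl ⟨hi, if_pos hi⟩
    · exact .inr ⟨hi, h2 i hi, if_neg hi⟩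
  refine hbig' (O x₀) μ (hQS x₀) x₀ y (hself x₀) hy (fun i => ?_) (fun i => ?_) fun q hq i => ?_
  · rcases hcase i with ⟨hi, e⟩ | ⟨hi, hi', e⟩
    · rw [e]
      show (if μ₁ i ∈ O x₀ then μ₁ (μ₁ i) else μ₂ (μ₁ i)) = i
      rw [if_pos (show μ₁ i ∈ O x₀ from (h11 i hi).1), (h11 i hi).2.1]
    · rw [e]
      show (if μ₂ i ∈ O x₀ then μ₁ (μ₂ i) else μ₂ (μ₂ i)) = i
      have hm : μ₂ i ∈ O y := (h21 i hi').1
      rw [if_neg (fun h' => (Set.ext_iff.1 hcompl (μ₂ i)).2 hm h'), (h21 i hi').2.1]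
  · rcases hcase i with ⟨hi, e⟩ | ⟨hi, hi', e⟩
    · rw [e]; exact (h11 i hi).2.2
    · rw [e]; exact (h21 i hi').2.2
  · rcases hcase i with ⟨hi, e⟩ | ⟨hi, hi', e⟩
    · rw [e]
      show (if q i ∈ O x₀ then μ₁ (q i) else μ₂ (q i)) = _
      rw [if_pos ((hinv x₀ q hq i).2 hi), h12 q hq i hi]
    · rw [e]
      show (if q i ∈ O x₀ then μ₁ (q i) else μ₂ (q i)) = _
      rw [if_neg (fun h' => hi ((hinv x₀ q hq i).1 h')), h22 q hq i hi']

end

end Cfsg.Agent.H34.Para
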