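import Cfsg.Agent.H34.Para.Trans
import Mathlib

/-!
The subgroup of a frame of transvections permutes the points.
-/

set_option autoImplicit false
set_option linter.style.haveILetI false
set_option linter.unusedSectionVars false
set_option maxHeartbeats 1000000

namespace Cfsg.Agent.H34.Para

open Subgroup
open Cfsg.Agent.H34.MinOffender

variable {G : Type*} [Group G] [Finite G] {W : Type*} [AddCommGroup W] {V P T M A₀ : Subgroup G}

/-- A transvection system realised by the members. -/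
structure Real (h : FFP 2 V P T M) (e : Additive ↥V ≃+ W) (A₀ : Subgroup G) (S : TS W) : Prop where
  hA₀P : A₀ ≤ P
  hA₀ : MinOff 2 V A₀
  ctr : S.ctr = {c | ∃ x, Tr P A₀ e x c}
  phi : ∀ x c, Tr P A₀ e x c → ∀ w, S.φ c w = phiX e x w

variable {h : FFP 2 V P T M} {e : Additive ↥V ≃+ W} {S : TS W} (R : Real h e A₀ S)
include R

theorem Real.tr {c : W} (hc : c ∈ S.ctr) : Tr P A₀ e (elt e P A₀ c) c := by
  rw [R.ctr] at hc
  obtain ⟨x, hx⟩ := hc
  rwa [hx.elt_eq h e R.hA₀P R.hA₀]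

theorem Real.act_el {c : W} (hc : c ∈ S.ctr) (w : W) :
    act e (elt e P A₀ c) w = w + sm (S.φ c w) c := by
  rw [(R.tr hc).act_eq h e, R.phi _ _ (R.tr hc)]

theorem Real.el_mem {c : W} (hc : c ∈ S.ctr) : elt e P A₀ c ∈ P := (R.tr hc).mem

theorem Real.map_ctr {g : G} (hg : g ∈ P) {c : W} (hc : c ∈ S.ctr) :
    act e g c ∈ S.ctr ∧ elt e P A₀ (act e g c) = g * elt e P A₀ c * g⁻¹ ∧
      ∀ w, S.φ (act e g c) (act e g w) = S.φ c w := by
  obtain ⟨t, ht⟩ := (R.tr hc).cj h e hg
  refine ⟨by rw [R.ctr]; exact ⟨_, t⟩, t.elt_eq h e R.hA₀P R.hA₀, fun w => ?_⟩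
  rw [R.phi _ _ t, ht, R.phi _ _ (R.tr hc)]

theorem Real.el_comm {c d : W} (hc : c ∈ S.ctr) (hd : d ∈ S.ctr) (h0 : S.φ c d = 0) :
    elt e P A₀ c * elt e P A₀ d = elt e P A₀ d * elt e P A₀ c := by
  have hcN := h.hPV (R.el_mem hc)
  have hdN := h.hPV (R.el_mem hd)
  refine act_inj e h.hPV h.faith (P.mul_mem (R.el_mem hc) (R.el_mem hd))
    (P.mul_mem (R.el_mem hd) (R.el_mem hc)) fun w => ?_
  have h0' : S.φ d c = 0 := (S.symm d hd c hc).trans h0
  rw [act_mul e hcN hdN, act_mul e hdN hcN, R.act_el hd w, R.act_el hc w, act_add e hcN, act_add e hdN,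
    R.act_el hc w, R.act_el hd w,
    show act e (elt e P A₀ c) (sm (S.φ d w) d) = sm (S.φ d w) (act e (elt e P A₀ c) d) from
      map_sm (actHom e hcN) _ _,
    show act e (elt e P A₀ d) (sm (S.φ c w) c) = sm (S.φ c w) (act e (elt e P A₀ d) c) from
      map_sm (actHom e hdN) _ _,
    R.act_el hc d, R.act_el hd c, h0, h0', sm_zero, sm_zero, add_zero, add_zero]
  abel

variable {n : ℕ}

/-- The image of a frame. -/
noncomputable def Real.image {g : G} (hg : g ∈ P) (F : Frame S n) : Frame S n where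
  ω i := act e g (F.ω i)
  Φ i w := F.Φ i (act e g⁻¹ w)
  mem i j hij := by
    rw [← act_add e (h.hPV hg)]; exact (R.map_ctr hg (F.mem i j hij)).1
  phi i j hij w := by
    obtain ⟨v, rfl⟩ : ∃ v, act e g v = w := ⟨_, act_act_inv e (h.hPV hg) w⟩
    rw [act_inv_act e (h.hPV hg), ← act_add e (h.hPV hg), (R.map_ctr hg (F.mem i j hij)).2.2,
      F.phi i j hij]
  pair i j k l hij hkl := by
    rw [← act_add e (h.hPV hg), ← act_add e (h.hPV hg), (R.map_ctr hg (F.mem i j hij)).2.2,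
      F.pair i j k l hij hkl]
  inj i j k l hij hkl he := by
    refine F.inj i j k l hij hkl ?_
    rw [← act_add e (h.hPV hg), ← act_add e (h.hPV hg)] at he
    have := congrArg (act e g⁻¹) he
    rwa [act_inv_act e (h.hPV hg), act_inv_act e (h.hPV hg)] at this

theorem Real.image_pairs {g : G} (hg : g ∈ P) (F : Frame S n) :
    (R.image hg F).pairs = act e g '' F.pairs := by
  ext c
  constructor
  · rintro ⟨i, j, hij, rfl⟩
    exact ⟨_, F.mem_pairs hij, act_add e (h.hPV hg) _ _⟩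
  · rintro ⟨_, ⟨i, j, hij, rfl⟩, rfl⟩
    exact ⟨i, j, hij, act_add e (h.hPV hg) _ _⟩

/-- The group generated by the transvections of a frame. -/
def Real.grp (_ : Real h e A₀ S) (F : Frame S n) : Subgroup G := closure (elt e P A₀ '' F.pairs)

theorem Real.grp_le (F : Frame S n) : R.grp F ≤ P :=
  (closure_le _).2 (by rintro _ ⟨c, hc, rfl⟩; exact R.el_mem (F.pairs_ctr hc))

theorem Real.grp_image {g : G} (hg : g ∈ P) (F : Frame S n) :
    R.grp (R.image hg F) = cj g (R.grp F) := by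
  rw [Real.grp, Real.grp, R.image_pairs, Cfsg.Agent.H34.MinOffender.cj, MonoidHom.map_closure,
    Set.image_image, Set.image_image]
  congr 1
  ext x
  simp only [Set.mem_image]
  refine exists_congr fun c => and_congr_right fun hc => ?_
  rw [(R.map_ctr hg (F.pairs_ctr hc)).2.1]
  rfl

theorem Real.el_grp (F : Frame S n) {c : W} (hc : c ∈ F.pairs) : elt e P A₀ c ∈ R.grp F :=
  subset_closure ⟨c, hc, rfl⟩

/-- The displacements of the frame group lie in the span of its centres. -/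
theorem Real.grp_disp (F : Frame S n) {g : G} (hg : g ∈ R.grp F) :
    ∀ w, act e g w - w ∈ AddSubgroup.closure F.pairs := by
  refine closure_induction ?_ ?_ ?_ ?_ hg
  · rintro _ ⟨c, hc, rfl⟩ w
    rw [R.act_el (F.pairs_ctr hc), add_sub_cancel_left]
    rcases z2_cases (S.φ c w) with h1 | h1 <;> rw [h1]
    · rw [sm_zero]; exact zero_mem _
    · rw [sm_one]; exact AddSubgroup.subset_closure hc
  · intro w; rw [act_one, sub_self]; exact zero_mem _
  · intro a b ha hb h1 h2 w
    rw [act_mul e (h.hPV (R.grp_le F ha)) (h.hPV (R.grp_le F hb)),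
      show act e a (act e b w) - w = (act e a (act e b w) - act e b w) + (act e b w - w) by abel]
    exact add_mem (h1 _) (h2 w)
  · intro a ha h1 w
    have := neg_mem (h1 (act e a⁻¹ w))
    rwa [act_act_inv e (h.hPV (R.grp_le F ha)), neg_sub] at this

/-- Vectors killed by all the functionals of the frame are fixed. -/
theorem Real.grp_fix (F : Frame S n) {g : G} (hg : g ∈ R.grp F) {w : W}
    (hw : ∀ c ∈ F.pairs, S.φ c w = 0) : act e g w = w := by
  refine closure_induction ?_ (act_one e w) ?_ ?_ hg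
  · rintro _ ⟨c, hc, rfl⟩
    rw [R.act_el (F.pairs_ctr hc), hw c hc, sm_zero, add_zero]
  · intro a b ha hb h1 h2
    rw [act_mul e (h.hPV (R.grp_le F ha)) (h.hPV (R.grp_le F hb)), h2, h1]
  · intro a ha h1
    conv_lhs => rw [← h1]
    exact act_inv_act e (h.hPV (R.grp_le F ha)) w

/-- `g` permutes the points of the frame by `π`. -/
def Real.Rel (_ : Real h e A₀ S) (F : Frame S n) (g : G) (π : Equiv.Perm (Fin n)) : Prop :=
  ∀ i j, i ≠ j → act e g (F.ω i + F.ω j) = F.ω (π i) + F.ω (π j)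

theorem Real.rel_one (F : Frame S n) : R.Rel F 1 1 := fun i j _ => act_one e _

theorem Real.rel_mul (F : Frame S n) {g k : G} {π σ : Equiv.Perm (Fin n)} (hg : g ∈ P) (hk : k ∈ P)
    (h1 : R.Rel F g π) (h2 : R.Rel F k σ) : R.Rel F (g * k) (π * σ) := fun i j hij => by
  rw [act_mul e (h.hPV hg) (h.hPV hk), h2 i j hij, h1 _ _ fun e' => hij (σ.injective e')]
  rfl

theorem Real.rel_inv (F : Frame S n) {g : G} {π : Equiv.Perm (Fin n)} (hg : g ∈ P) (h1 : R.Rel F g π) :
    R.Rel F g⁻¹ π⁻¹ := fun i j hij => by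
  have := h1 (π⁻¹ i) (π⁻¹ j) fun e' => hij (π⁻¹.injective e')
  simp only [Equiv.Perm.inv_def, Equiv.apply_symm_apply] at this
  rw [← this, act_inv_act e (h.hPV hg), Equiv.Perm.inv_def]

theorem Real.rel_unique (F : Frame S n) (hn : 3 ≤ n) {g : G} {π σ : Equiv.Perm (Fin n)}
    (h1 : R.Rel F g π) (h2 : R.Rel F g σ) : π = σ := by
  classical
  refine Equiv.ext fun i => ?_
  obtain ⟨j, k, hji, hki, hjk⟩ : ∃ j k, j ≠ i ∧ k ≠ i ∧ j ≠ k := by
    have hc : 2 ≤ (Finset.univ.erase i).card := by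
      rw [Finset.card_erase_of_mem (Finset.mem_univ i), Finset.card_univ, Fintype.card_fin]; omega
    obtain ⟨t, hts, ht⟩ := Finset.exists_subset_card_eq hc
    obtain ⟨j, k, hjk, rfl⟩ := Finset.card_eq_two.1 ht
    exact ⟨j, k, (Finset.mem_erase.1 (hts (by simp))).1, (Finset.mem_erase.1 (hts (by simp))).1, hjk⟩
  have key : ∀ j, j ≠ i → π i = σ i ∨ (π i = σ j ∧ π j = σ i) := fun j hj => by
    rcases F.inj (π i) (π j) (σ i) (σ j) (fun e' => hj (π.injective e').symm)
      (fun e' => hj (σ.injective e').symm) ((h1 i j hj.symm).symm.trans (h2 i j hj.symm)) with ⟨a, -⟩ | ab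
    · exact .inl a
    · exact .inr ab
  rcases key j hji with h' | ⟨h', -⟩
  · exact h'
  rcases key k hki with h'' | ⟨h'', -⟩
  · exact h''
  exact absurd (σ.injective (h'.symm.trans h'')) hjk

theorem Real.rel_swap (F : Frame S n) {k l : Fin n} (hkl : k ≠ l) :
    R.Rel F (elt e P A₀ (F.ω k + F.ω l)) (Equiv.swap k l) := by
  intro i j hij
  rw [R.act_el (F.mem k l hkl), F.pair k l i j hkl hij]
  have t2 : ∀ a b : W, a + b + (a + b) = 0 := fun a b => S.two _
  by_cases h1 : i = k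
  · subst h1
    by_cases h2 : j = l
    · subst h2
      simp only [ind, hij, hij.symm, if_true, if_false, Equiv.swap_apply_left, Equiv.swap_apply_right]
      rw [show (1 : ZMod 2) + 0 + 0 + 1 = 0 from rfl, sm_zero, add_zero, add_comm]
    · rw [Equiv.swap_apply_left, Equiv.swap_apply_of_ne_of_ne hij.symm h2]
      simp only [ind, hij, hkl.symm, Ne.symm h2, if_true, if_false, add_zero]
      rw [sm_one, add_comm (F.ω i) (F.ω j), F.tri, add_comm]
  by_cases h2 : i = l
  · subst h2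
    by_cases h3 : j = k
    · subst h3
      simp only [ind, hij, hij.symm, if_true, if_false, Equiv.swap_apply_left, Equiv.swap_apply_right]
      rw [show (0 : ZMod 2) + 1 + 1 + 0 = 0 from rfl, sm_zero, add_zero, add_comm]
    · rw [Equiv.swap_apply_right, Equiv.swap_apply_of_ne_of_ne h3 hij.symm]
      simp only [ind, hij, hkl, Ne.symm h3, if_true, if_false, add_zero, zero_add]
      rw [sm_one, add_comm (F.ω i) (F.ω j), add_comm (F.ω k), F.tri, add_comm]
  rw [Equiv.swap_apply_of_ne_of_ne h1 h2]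
  by_cases h3 : j = k
  · subst h3
    rw [Equiv.swap_apply_left]
    simp only [ind, Ne.symm h1, Ne.symm h2, hkl.symm, if_true, if_false, add_zero, zero_add]
    rw [sm_one, F.tri]
  by_cases h4 : j = l
  · subst h4
    rw [Equiv.swap_apply_right]
    simp only [ind, Ne.symm h1, Ne.symm h2, hkl, if_true, if_false, add_zero, zero_add]
    rw [sm_one, add_comm (F.ω k), F.tri]
  rw [Equiv.swap_apply_of_ne_of_ne h3 h4]
  simp only [ind, Ne.symm h1, Ne.symm h2, Ne.symm h3, Ne.symm h4, if_false, add_zero, sm_zero]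

theorem Real.rel_exists (F : Frame S n) {g : G} (hg : g ∈ R.grp F) : ∃ π, R.Rel F g π := by
  refine closure_induction ?_ ⟨1, R.rel_one F⟩ ?_ ?_ hg
  · rintro _ ⟨c, ⟨k, l, hkl, rfl⟩, rfl⟩
    exact ⟨_, R.rel_swap F hkl⟩
  · rintro a b ha hb ⟨π, h1⟩ ⟨σ, h2⟩
    exact ⟨π * σ, R.rel_mul F (R.grp_le F ha) (R.grp_le F hb) h1 h2⟩
  · rintro a ha ⟨π, h1⟩
    exact ⟨π⁻¹, R.rel_inv F (R.grp_le F ha) h1⟩

/-- The frame is closed: the remaining centres are orthogonal to it. -/
def Real.Closed (_ : Real h e A₀ S) (F : Frame S n) : Prop :=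
  ∀ d ∈ S.ctr, d ∉ F.pairs → ∀ c ∈ F.pairs, S.φ d c = 0

theorem Real.rel_faithful (F : Frame S n) (hF : R.Closed F) {g : G} (hg : g ∈ R.grp F)
    (h1 : R.Rel F g 1) : g = 1 := by
  refine triv h e (A₀ := A₀) (R.grp_le F hg) (fun x c hx => ?_) fun w => ?_
  · have hc : c ∈ S.ctr := by rw [R.ctr]; exact ⟨x, hx⟩
    by_cases hcp : c ∈ F.pairs
    · obtain ⟨i, j, hij, rfl⟩ := hcp
      exact h1 i j hij
    · exact R.grp_fix F hg fun d hd => (S.symm d (F.pairs_ctr hd) c hc).trans (hF c hc hcp d hd)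
  · refine AddSubgroup.closure_mono (fun c hc => ?_) (R.grp_disp F hg w)
    show ∃ x, Tr P A₀ e x c
    exact ⟨_, R.tr (F.pairs_ctr hc)⟩

theorem Real.closed_image {g : G} (hg : g ∈ P) {F : Frame S n} (hF : R.Closed F) :
    R.Closed (R.image hg F) := by
  intro d hd hdn c hc
  rw [R.image_pairs] at hdn hc
  obtain ⟨c, hc, rfl⟩ := hc
  obtain ⟨d, rfl⟩ : ∃ d', act e g d' = d := ⟨_, act_act_inv e (h.hPV hg) d⟩
  have hd' : d ∈ S.ctr := by
    have := (R.map_ctr (P.inv_mem hg) hd).1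
    rwa [act_inv_act e (h.hPV hg)] at this
  rw [(R.map_ctr hg hd').2.2]
  exact hF d hd' (fun h' => hdn ⟨d, h', rfl⟩) c hc

/-- Closed frames with a common centre have the same centres. -/
theorem Real.closed_subset {F F' : Frame S n} (hF : R.Closed F) {c : W} (hc : c ∈ F.pairs)
    (hc' : c ∈ F'.pairs) : F'.pairs ⊆ F.pairs := by
  classical
  obtain ⟨i, j, hij, rfl⟩ := hc'
  have step : ∀ i j k, i ≠ j → j ≠ k → k ≠ i → F'.ω i + F'.ω j ∈ F.pairs → F'.ω j + F'.ω k ∈ F.pairs := by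
    intro i j k hij hjk hki h1
    by_contra h2
    have := hF _ (F'.mem j k hjk) h2 _ h1
    rw [F'.pair j k i j hjk hij] at this
    simp [ind, hij.symm, hki, hjk.symm] at this
  have hflip : ∀ i j, F'.ω i + F'.ω j ∈ F.pairs → F'.ω j + F'.ω i ∈ F.pairs := fun i j h1 => by
    rwa [add_comm]
  rintro d ⟨k, l, hkl, rfl⟩
  -- move one end at a time
  have move : ∀ i j k, i ≠ j → j ≠ k → F'.ω i + F'.ω j ∈ F.pairs → F'.ω j + F'.ω k ∈ F.pairs := by
    intro i j k hij hjk h1
    by_cases hki : k = i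
    · subst hki; exact hflip _ _ h1
    · exact step i j k hij hjk hki h1
  by_cases hkj : k = j
  · subst hkj; exact move i k l hij hkl hc
  have h2 := move i j k hij (Ne.symm hkj) hc
  exact move j k l (Ne.symm hkj) hkl h2

end Cfsg.Agent.H34.Para
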