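import Cfsg.Prelude.Def_BaumannBlocks
import Cfsg.Agent.H34.Para.Point
import Cfsg.Agent.H34.Para.PermStab
import Mathlib

/-!
The structure for members of order two: symmetric groups of degree `2 ^ m + 1`.
-/

set_option autoImplicit false
set_option linter.style.haveILetI false
set_option maxHeartbeats 2000000

namespace Cfsg.Agent.H34.Para

open Subgroup
open Cfsg.Agent.H34.MinOffender
open scoped commutatorElement

/-- A map of pairs preserving adjacency comes from a map of points. -/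
theorem perm_of_pairs {n : ℕ} (hn : 5 ≤ n) (f : Fin n → Fin n → Finset (Fin n))
    (hsymm : ∀ i j, f i j = f j i) (hcard : ∀ i j, i ≠ j → (f i j).card = 2)
    (hinj : ∀ i j k l, i ≠ j → k ≠ l → f i j = f k l → (i = k ∧ j = l) ∨ (i = l ∧ j = k))
    (hadj : ∀ i j k, i ≠ j → i ≠ k → j ≠ k → ∃ a, a ∈ f i j ∧ a ∈ f i k)
    (hdis : ∀ i j k l, i ≠ j → k ≠ l → i ≠ k → i ≠ l → j ≠ k → j ≠ l → ∀ a, a ∈ f i j → a ∉ f k l) :
    ∃ π : Equiv.Perm (Fin n), ∀ i j, i ≠ j → f i j = {π i, π j} := by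
  classical
  have others : ∀ (s : Finset (Fin n)), s.card ≤ 4 → ∃ x, x ∉ s := by
    intro s hs
    by_contra hall
    push Not at hall
    have := Finset.card_le_card (show Finset.univ ⊆ s from fun x _ => hall x)
    rw [Finset.card_univ, Fintype.card_fin] at this
    omega
  have hstar : ∀ i, ∃ a, ∀ j, j ≠ i → a ∈ f i j := by
    intro i
    obtain ⟨j₁, hj₁⟩ := others {i} (by simp)
    simp only [Finset.mem_singleton] at hj₁
    obtain ⟨j₂, hj₂⟩ := others {i, j₁} (by have := Finset.card_insert_le i {j₁}; simp at this ⊢; omega)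
    simp only [Finset.mem_insert, Finset.mem_singleton, not_or] at hj₂
    obtain ⟨a, ha₁, ha₂⟩ := hadj i j₁ j₂ (Ne.symm hj₁) (Ne.symm hj₂.1) (Ne.symm hj₂.2)
    refine ⟨a, fun j hj => ?_⟩
    by_contra hna
    have hj1 : j ≠ j₁ := fun e => hna (e ▸ ha₁)
    have hj2 : j ≠ j₂ := fun e => hna (e ▸ ha₂)
    obtain ⟨b, hb₁, hbj⟩ := hadj i j₁ j (Ne.symm hj₁) (Ne.symm hj) (Ne.symm hj1)
    obtain ⟨d, hd₂, hdj⟩ := hadj i j₂ j (Ne.symm hj₂.1) (Ne.symm hj) (Ne.symm hj2)
    have hba : b ≠ a := fun e => hna (e ▸ hbj)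
    have hda : d ≠ a := fun e => hna (e ▸ hdj)
    have e1 : f i j₁ = {a, b} := (Finset.eq_of_subset_of_card_le (by
      intro x hx; simp only [Finset.mem_insert, Finset.mem_singleton] at hx
      rcases hx with rfl | rfl <;> assumption) (by rw [hcard i j₁ (Ne.symm hj₁), Finset.card_pair hba.symm])).symm
    have e2 : f i j₂ = {a, d} := (Finset.eq_of_subset_of_card_le (by
      intro x hx; simp only [Finset.mem_insert, Finset.mem_singleton] at hx
      rcases hx with rfl | rfl <;> assumption) (by rw [hcard i j₂ (Ne.symm hj₂.1), Finset.card_pair hda.symm])).symm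
    have hbd : b ≠ d := fun e => by
      subst e
      rcases hinj i j₁ i j₂ (Ne.symm hj₁) (Ne.symm hj₂.1) (e1.trans e2.symm) with ⟨-, h'⟩ | ⟨h', -⟩
      · exact hj₂.2 h'.symm
      · exact hj₂.1 h'.symm
    have e3 : f i j = {b, d} := (Finset.eq_of_subset_of_card_le (by
      intro x hx; simp only [Finset.mem_insert, Finset.mem_singleton] at hx
      rcases hx with rfl | rfl <;> assumption) (by rw [hcard i j (Ne.symm hj), Finset.card_pair hbd])).symm
    obtain ⟨m, hm⟩ := others {i, j₁, j₂, j} (Finset.card_le_four)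
    simp only [Finset.mem_insert, Finset.mem_singleton, not_or] at hm
    obtain ⟨hmi, hm1, hm2, hm3⟩ := hm
    obtain ⟨u₁, hu₁, hu₁'⟩ := hadj i j₁ m (Ne.symm hj₁) (Ne.symm hmi) (Ne.symm hm1)
    obtain ⟨u₂, hu₂, hu₂'⟩ := hadj i j₂ m (Ne.symm hj₂.1) (Ne.symm hmi) (Ne.symm hm2)
    obtain ⟨u₃, hu₃, hu₃'⟩ := hadj i j m (Ne.symm hj) (Ne.symm hmi) (Ne.symm hm3)
    obtain ⟨x, y, hxy, hm'⟩ := Finset.card_eq_two.1 (hcard i m (Ne.symm hmi))
    have n1 : f i m ≠ {a, b} := fun e => by
      rcases hinj i m i j₁ (Ne.symm hmi) (Ne.symm hj₁) (e.trans e1.symm) with ⟨-, h'⟩ | ⟨h', -⟩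
      exacts [hm1 h', hj₁ h'.symm]
    have n2 : f i m ≠ {a, d} := fun e => by
      rcases hinj i m i j₂ (Ne.symm hmi) (Ne.symm hj₂.1) (e.trans e2.symm) with ⟨-, h'⟩ | ⟨h', -⟩
      exacts [hm2 h', hj₂.1 h'.symm]
    have n3 : f i m ≠ {b, d} := fun e => by
      rcases hinj i m i j (Ne.symm hmi) (Ne.symm hj) (e.trans e3.symm) with ⟨-, h'⟩ | ⟨h', -⟩
      exacts [hm3 h', hj h'.symm]
    rw [e1] at hu₁; rw [e2] at hu₂; rw [e3] at hu₃
    rw [hm'] at hu₁' hu₂' hu₃' n1 n2 n3
    simp only [Finset.mem_insert, Finset.mem_singleton] at hu₁ hu₂ hu₃ hu₁' hu₂' hu₃'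
    have k1 : a = x ∨ a = y ∨ b = x ∨ b = y := by
      rcases hu₁ with rfl | rfl <;> rcases hu₁' with rfl | rfl <;> simp
    have k2 : a = x ∨ a = y ∨ d = x ∨ d = y := by
      rcases hu₂ with rfl | rfl <;> rcases hu₂' with rfl | rfl <;> simp
    have k3 : b = x ∨ b = y ∨ d = x ∨ d = y := by
      rcases hu₃ with rfl | rfl <;> rcases hu₃' with rfl | rfl <;> simp
    rcases k1 with rfl | rfl | rfl | rfl
    · rcases k3 with rfl | rfl | rfl | rfl
      · exact hba rfl
      · exact n1 rfl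
      · exact hda rfl
      · exact n2 rfl
    · rcases k3 with rfl | rfl | rfl | rfl
      · exact n1 (Finset.pair_comm _ _)
      · exact hba rfl
      · exact n2 (Finset.pair_comm _ _)
      · exact hda rfl
    · rcases k2 with rfl | rfl | rfl | rfl
      · exact hba rfl
      · exact n1 (Finset.pair_comm _ _)
      · exact hbd rfl
      · exact n3 rfl
    · rcases k2 with rfl | rfl | rfl | rfl
      · exact n1 rfl
      · exact hba rfl
      · exact n3 (Finset.pair_comm _ _)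
      · exact hbd rfl
  choose π hπ using hstar
  have hπinj : Function.Injective π := by
    intro i i' he
    by_contra hne
    obtain ⟨j, hj⟩ := others {i, i'} (by have := Finset.card_insert_le i {i'}; simp at this ⊢; omega)
    simp only [Finset.mem_insert, Finset.mem_singleton, not_or] at hj
    obtain ⟨k, hk⟩ := others {i, i', j} (by have := Finset.card_le_three (a := i) (b := i') (c := j); omega)
    simp only [Finset.mem_insert, Finset.mem_singleton, not_or] at hk
    exact hdis i j i' k (Ne.symm hj.1) (Ne.symm hk.2.1) hne (Ne.symm hk.1) hj.2 (Ne.symm hk.2.2) _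
      (hπ i j hj.1) (he ▸ hπ i' k hk.2.1)
  refine ⟨Equiv.ofBijective π ⟨hπinj, Finite.injective_iff_surjective.1 hπinj⟩, fun i j hij => ?_⟩
  refine (Finset.eq_of_subset_of_card_le (fun x hx => ?_) ?_).symm
  · simp only [Finset.mem_insert, Finset.mem_singleton, Equiv.ofBijective_apply] at hx
    rcases hx with rfl | rfl
    · exact hπ i j hij.symm
    · exact hsymm j i ▸ hπ j i hij
  · rw [hcard i j hij, Finset.card_pair]
    exact fun e => hij (hπinj e)

variable {G : Type*} [Group G] [Finite G] {W : Type*} [AddCommGroup W] {V P T M A₀ : Subgroup G}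

/-- A maximal frame through the transvections of a good subgroup. -/
theorem exists_closed_frame (h : FFP 2 V P T M) (e : Additive ↥V ≃+ W) {S : TS W} (R : Real h e A₀ S)
    (hq : Nat.card ↥A₀ = 2) :
    ∃ (n : ℕ) (F : Frame S n), 3 ≤ n ∧ R.Closed F ∧ ¬ R.grp F ≤ M ∧
      ∃ c ∈ F.pairs, elt e P A₀ c ∈ T := by
  classical
  haveI : Fact (Nat.Prime 2) := ⟨Nat.prime_two⟩
  obtain ⟨k, hk, L, R₀, hLP, -, hkT, hLM, hB, -⟩ := h.exists_good R.hA₀P R.hA₀
  set A := cj k A₀ with hA
  have hAm : Mem P A₀ A := ⟨k, hk, rfl⟩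
  obtain ⟨x, hx, hxM⟩ := hB.proper
  have hxA : cj x A ≠ A := by
    intro e'
    have := hB.gen x hx hxM
    rw [e', sup_idem] at this
    exact hLM (this ▸ hkT.trans h.pm.hTM)
  obtain ⟨a, ca, haX, ta⟩ := tr_exists h e R.hA₀P R.hA₀ hq hAm
  obtain ⟨b, cb, hbX, tb⟩ := tr_exists h e R.hA₀P R.hA₀ hq (hAm.cj (hLP hx))
  have hca : ca ∈ S.ctr := by rw [R.ctr]; exact ⟨a, ta⟩
  have hcb : cb ∈ S.ctr := by rw [R.ctr]; exact ⟨b, tb⟩
  have hea : elt e P A₀ ca = a := ta.elt_eq h e R.hA₀P R.hA₀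
  have heb : elt e P A₀ cb = b := tb.elt_eq h e R.hA₀P R.hA₀
  have hgen : A ⊔ cj x A = L := hB.gen x hx hxM
  have h1 : S.φ ca cb = 1 := by
    refine z2_ne_zero fun h0 => hxA ?_
    have hc := R.el_comm hca hcb h0
    rw [hea, heb] at hc
    refine cj_eq_of_mem_normalizer (centralizer_le_normalizer _ ?_)
    rw [← hgen] at hx
    refine (?_ : A ⊔ cj x A ≤ centralizer (A : Set G)) (hgen ▸ (hgen.symm ▸ hx : x ∈ A ⊔ cj x A))
    rw [hbX, haX]
    refine sup_le (zpowers_le.2 ?_) (zpowers_le.2 ?_) <;> refine mem_centralizer_iff.2 ?_ <;>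
      rintro _ ⟨j, rfl⟩
    · exact ((Commute.refl a).zpow_left j).eq
    · exact ((show Commute a b from hc).zpow_left j).eq
  obtain ⟨F₃, hFa, hFb⟩ := exists_frame_three hca hcb h1
  haveI : Finite W := Finite.of_injective e.symm e.symm.injective
  let N : Set ℕ := {n | 3 ≤ n ∧ ∃ F : Frame S n, ca ∈ F.pairs ∧ cb ∈ F.pairs}
  have hbd : ∀ n ∈ N, n ≤ Nat.card W := by
    rintro n ⟨hn, F, -, -⟩
    let o : Fin n := ⟨0, by omega⟩
    have : Function.Injective fun i => F.ω o + F.ω i := fun i j hij => by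
      by_contra hne
      exact S.ne0 _ (F.mem i j hne) (by rw [add_left_cancel hij, S.two])
    calc n = Nat.card (Fin n) := (Nat.card_fin n).symm
      _ ≤ _ := Nat.card_le_card_of_injective _ this
  obtain ⟨n, ⟨hn, F, hFa', hFb'⟩, hmax⟩ := Set.exists_max_image N id
    (Set.Finite.subset (Set.finite_Iic (Nat.card W)) fun n hn => hbd n hn) ⟨3, le_rfl, F₃, hFa, hFb⟩
  refine ⟨n, F, hn, fun d hd hdn c hc => F.closed hn ?_ hd hdn c hc, fun hle => hLM ?_,
    ca, hFa', hea.symm ▸ hkT (haX.ge (mem_zpowers a))⟩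
  · rintro ⟨F', hF'⟩
    have : n + 1 ≤ n := hmax (n + 1) ⟨by omega, F', hF' hFa', hF' hFb'⟩
    omega
  · rw [← hgen, hbX, haX]
    exact sup_le (zpowers_le.2 (hle (hea ▸ R.el_grp F hFa'))) (zpowers_le.2 (hle (heb ▸ R.el_grp F hFb')))

/-- The structure around a closed frame outside `M`. -/
theorem components_of_frame (h : FFP 2 V P T M) (e : Additive ↥V ≃+ W) {S : TS W} (R : Real h e A₀ S) {n : ℕ}
    (F₀ : Frame S n) (hn : 3 ≤ n) (hF₀ : R.Closed F₀) (hFM : ¬ R.grp F₀ ≤ M) :
    (∃ m : ℕ, 1 ≤ m ∧ n = 2 ^ m + 1) ∧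
    ∃ (r : ℕ) (E : Fin r → Subgroup G), 1 ≤ r ∧ (∀ i, E i ≤ P) ∧ (∀ i j, i ≠ j → ⁅E i, E j⁆ = ⊥) ∧
      (∀ i, E i ⊓ (⨆ j ∈ {j | j ≠ i}, E j) = ⊥) ∧ (⨆ i, E i) ⊔ T = P ∧
      (∀ i j, ∃ t ∈ T, (E i).map (MulAut.conj t).toMonoidHom = E j) ∧
      (∀ t ∈ T, ∀ i, ∃ j, cj t (E i) = E j) ∧
      (∀ i, E i ≤ closure {g | ∃ X, Mem P A₀ X ∧ g ∈ X}) ∧
      (V ⊓ centralizer (((⨆ i, E i) : Subgroup G) : Set G)) ⊔ (⨆ i, ⁅V, E i⁆) = V ∧
      (∀ i j, i ≠ j → ⁅⁅V, E i⁆, E j⁆ = ⊥) ∧
      ∀ i, ∃ m : ℕ, 1 ≤ m ∧ Nonempty (↥(E i) ≃* Equiv.Perm (Fin (2 ^ m + 1))) ∧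
        Cfsg.ActsAsOddPermModuleOnSection (2 ^ m + 1) ⊤ (E i) ⁅V, E i⁆
          (⁅V, E i⁆ ⊓ centralizer ((E i : Subgroup G) : Set G)) := by
  classical
  haveI : Fact (Nat.Prime 2) := ⟨Nat.prime_two⟩
  have hA₀P := R.hA₀P
  have hA₀ := R.hA₀
  have hTP := h.hTP
  have hPV := h.hPV
  -- components
  let Ix := {X : Set W // ∃ t ∈ T, X = act e t '' F₀.pairs}
  haveI : Finite W := Finite.of_injective e.symm e.symm.injective
  haveI : Fintype Ix := Fintype.ofFinite Ix
  let eI := (Fintype.equivFin Ix).symm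
  let r := Fintype.card Ix
  have hIex : ∀ i : Fin r, ∃ t, ∃ ht : t ∈ T, (eI i).1 = act e t '' F₀.pairs := fun i => by
    obtain ⟨t, ht, e'⟩ := (eI i).2; exact ⟨t, ht, e'⟩
  choose tt htt htte using hIex
  let F : Fin r → Frame S n := fun i => R.image (hTP (htt i)) F₀
  have hFc : ∀ i, R.Closed (F i) := fun i => R.closed_image (hTP (htt i)) hF₀
  have hFp : ∀ i, (F i).pairs = (eI i).1 := fun i => (R.image_pairs _ F₀).trans (htte i).symm
  have horbit : ∀ t ∈ T, ∃ i, (F i).pairs = act e t '' F₀.pairs := fun t ht =>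
    ⟨eI.symm ⟨_, t, ht, rfl⟩, by rw [hFp, Equiv.apply_symm_apply]⟩
  obtain ⟨i₀, hi₀⟩ : ∃ i, (F i).pairs = F₀.pairs := by
    obtain ⟨i, hi⟩ := horbit 1 T.one_mem
    refine ⟨i, hi.trans ?_⟩
    simp [Set.image_congr' (fun c => act_one e c)]
  have hpne : ∀ i j, i ≠ j → ∀ c ∈ (F i).pairs, c ∉ (F j).pairs := by
    intro i j hij c hc hc'
    refine hij (eI.injective (Subtype.ext ?_))
    rw [← hFp, ← hFp]
    exact le_antisymm (R.closed_subset (hFc j) hc' hc) (R.closed_subset (hFc i) hc hc')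
  have horth : ∀ i j, i ≠ j → ∀ c ∈ (F i).pairs, ∀ d ∈ (F j).pairs, S.φ c d = 0 := fun i j hij c hc d hd =>
    hFc j c ((F i).pairs_ctr hc) (hpne i j hij c hc) d hd
  let E : Fin r → Subgroup G := fun i => R.grp (F i)
  have hEP : ∀ i, E i ≤ P := fun i => R.grp_le (F i)
  have hEcomm : ∀ i j, i ≠ j → E i ≤ centralizer ((E j : Subgroup G) : Set G) := by
    intro i j hij
    refine (closure_le _).2 ?_
    rintro _ ⟨c, hc, rfl⟩
    refine SetLike.mem_coe.2 (le_centralizer_iff.1 (?_ : E j ≤ centralizer ((zpowers (elt e P A₀ c) : Subgroup G) : Set G))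
      (mem_zpowers _))
    refine (closure_le _).2 ?_
    rintro _ ⟨d, hd, rfl⟩
    refine mem_centralizer_iff.2 ?_
    rintro _ ⟨k, rfl⟩
    exact ((show Commute (elt e P A₀ c) (elt e P A₀ d) from
      R.el_comm ((F i).pairs_ctr hc) ((F j).pairs_ctr hd) (horth i j hij c hc d hd)).zpow_left k).eq
  have hEconj : ∀ t ∈ T, ∀ i, ∃ j, cj t (E i) = E j ∧ act e t '' (F i).pairs = (F j).pairs := by
    intro t ht i
    obtain ⟨j, hj⟩ := horbit (t * tt i) (T.mul_mem ht (htt i))
    have hp : (R.image (hTP ht) (F i)).pairs = (F j).pairs := by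
      rw [R.image_pairs, R.image_pairs, hj, Set.image_image]
      exact Set.image_congr' fun c => (act_mul e (hPV (hTP ht)) (hPV (hTP (htt i))) c).symm
    refine ⟨j, ?_, (R.image_pairs (hTP ht) (F i)).symm.trans hp⟩
    rw [← R.grp_image (hTP ht)]
    show R.grp (R.image (hTP ht) (F i)) = R.grp (F j)
    rw [Real.grp, Real.grp, hp]
  have hE₀ : E i₀ = R.grp F₀ := by
    show R.grp (F i₀) = _
    rw [Real.grp, Real.grp, hi₀]
  have hsup : (⨆ i, E i) ⊔ T = P := by
    refine le_antisymm (sup_le (iSup_le hEP) hTP) ?_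
    by_contra hne
    refine hFM (le_trans ?_ (h.pm.max ((⨆ i, E i) ⊔ T) (sup_le (iSup_le hEP) hTP) le_sup_right
      fun e' => hne e'.ge))
    exact le_trans hE₀.ge (le_trans (le_iSup E i₀) le_sup_left)
  -- every element of `P` permutes the components
  have hperm : ∀ g ∈ P, ∀ i, ∃ j, act e g '' (F i).pairs = (F j).pairs := by
    let St : Subgroup G :=
      { carrier := {g | g ∈ P ∧ (∀ i, ∃ j, act e g '' (F i).pairs = (F j).pairs) ∧
          ∀ i, ∃ j, act e g⁻¹ '' (F i).pairs = (F j).pairs}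
        one_mem' := ⟨P.one_mem, fun i => ⟨i, by simp [Set.image_congr' (fun c => act_one e c)]⟩,
          fun i => ⟨i, by simp [Set.image_congr' (fun c => act_one e c)]⟩⟩
        mul_mem' := by
          rintro a b ⟨ha, a1, a2⟩ ⟨hb, b1, b2⟩
          refine ⟨P.mul_mem ha hb, fun i => ?_, fun i => ?_⟩
          · obtain ⟨j, hj⟩ := b1 i
            obtain ⟨k, hk⟩ := a1 j
            refine ⟨k, ?_⟩
            rw [Set.image_congr' (fun c => act_mul e (hPV ha) (hPV hb) c), ← Set.image_image, hj, hk]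
          · obtain ⟨j, hj⟩ := a2 i
            obtain ⟨k, hk⟩ := b2 j
            refine ⟨k, ?_⟩
            rw [mul_inv_rev, Set.image_congr' (fun c => act_mul e (inv_mem (hPV hb)) (inv_mem (hPV ha)) c),
              ← Set.image_image, hj, hk]
        inv_mem' := by
          rintro a ⟨ha, a1, a2⟩
          exact ⟨P.inv_mem ha, a2, fun i => by rw [inv_inv]; exact a1 i⟩ }
    have hgrp : ∀ i, ∀ g ∈ E i, ∀ j, act e g '' (F j).pairs = (F j).pairs := by
      intro i g hg j
      by_cases hij : i = j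
      · subst hij
        obtain ⟨π, hπ⟩ := R.rel_exists (F i) hg
        ext c
        constructor
        · rintro ⟨_, ⟨a, b, hab, rfl⟩, rfl⟩
          exact ⟨π a, π b, fun e' => hab (π.injective e'), hπ a b hab⟩
        · rintro ⟨a, b, hab, rfl⟩
          refine ⟨_, (F i).mem_pairs (fun e' => hab (π.symm.injective e')), ?_⟩
          rw [hπ _ _ (fun e' => hab (π.symm.injective e'))]
          simp
      · exact (Set.image_congr (g := id) fun d hd => R.grp_fix (F i) hg fun c hc =>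
          horth i j hij c hc d hd).trans (Set.image_id _)
    have hle : P ≤ St := by
      rw [← hsup]
      refine sup_le (iSup_le fun i g hg => ⟨hEP i hg, fun j => ⟨j, hgrp i g hg j⟩,
        fun j => ⟨j, hgrp i g⁻¹ (inv_mem hg) j⟩⟩) fun t ht => ?_
      refine ⟨hTP ht, fun i => ?_, fun i => ?_⟩
      · obtain ⟨j, -, hj⟩ := hEconj t ht i; exact ⟨j, hj⟩
      · obtain ⟨j, -, hj⟩ := hEconj t⁻¹ (T.inv_mem ht) i; exact ⟨j, hj⟩
    exact fun g hg => (hle hg).2.1
  -- `n` is not four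
  have hn4 : n ≠ 4 := by
    intro h4
    let Gs : Set G := {g | ∃ i a b a' b', a ≠ b ∧ a' ≠ b' ∧ a ≠ a' ∧ a ≠ b' ∧ b ≠ a' ∧ b ≠ b' ∧
      g = elt e P A₀ ((F i).ω a + (F i).ω b) * elt e P A₀ ((F i).ω a' + (F i).ω b')}
    have hGE : ∀ g ∈ Gs, ∃ i π, g ∈ E i ∧ R.Rel (F i) g π ∧ (∀ x, π (π x) = x) ∧ ∀ x, π x ≠ x := by
      rintro g ⟨i, a, b, a', b', h1, h2, h3, h3', h5, h5', rfl⟩
      refine ⟨i, Equiv.swap a b * Equiv.swap a' b',
        mul_mem (R.el_grp _ ((F i).mem_pairs h1)) (R.el_grp _ ((F i).mem_pairs h2)),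
        R.rel_mul _ (R.el_mem ((F i).mem a b h1)) (R.el_mem ((F i).mem a' b' h2)) (R.rel_swap _ h1)
          (R.rel_swap _ h2), ?_, ?_⟩
      all_goals subst h4; revert a b a' b'; decide
    have hc4 : ∀ g ∈ Gs, ∀ g' ∈ Gs, g * g' = g' * g := by
      intro g hg g' hg'
      obtain ⟨i, π, hgi, hπ, hπ2, hπf⟩ := hGE g hg
      obtain ⟨j, σ, hgj, hσ, hσ2, hσf⟩ := hGE g' hg'
      by_cases hij : i = j
      · subst hij
        have hcomm : π * σ = σ * π := by
          have key : ∀ a b : Equiv.Perm (Fin 4), (∀ x, a (a x) = x) → (∀ x, a x ≠ x) → (∀ x, b (b x) = x) →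
              (∀ x, b x ≠ x) → a * b = b * a := by decide
          subst h4
          exact key π σ hπ2 hπf hσ2 hσf
        have hgP := hEP i hgi
        have hgP' := hEP i hgj
        have hr := R.rel_mul _ (P.mul_mem hgP hgP') (P.inv_mem (P.mul_mem hgP' hgP))
          (R.rel_mul _ hgP hgP' hπ hσ) (R.rel_inv _ (P.mul_mem hgP' hgP) (R.rel_mul _ hgP' hgP hσ hπ))
        rw [hcomm, mul_inv_cancel] at hr
        exact mul_inv_eq_one.1 (R.rel_faithful (F i) (hFc i)
          (mul_mem (mul_mem hgi hgj) (inv_mem (mul_mem hgj hgi))) hr)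
      · exact mem_centralizer_iff.1 (hEcomm j i (Ne.symm hij) hgj) g hgi
    let K : Subgroup G := closure Gs
    have hKP : K ≤ P := (closure_le _).2 fun g hg => by
      obtain ⟨i, π, hgi, -⟩ := hGE g hg; exact hEP i hgi
    have hKc : K ≤ centralizer (K : Set G) := by
      rw [centralizer_closure]
      refine (closure_le _).2 fun g hg => mem_centralizer_iff.2 fun g' hg' => hc4 g' hg' g hg
    have hKp : IsPGroup 2 K := by
      rintro ⟨g, hg⟩
      refine ⟨1, Subtype.ext ?_⟩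
      show g ^ 2 ^ 1 = 1
      rw [pow_one]
      refine closure_induction (fun g hg => ?_) (one_pow _) (fun a b ha hb h1 h2 => ?_)
        (fun a ha h1 => by rw [inv_pow, h1, inv_one]) hg
      · obtain ⟨i, π, hgi, hπ, hπ2, -⟩ := hGE g hg
        have hr := R.rel_mul _ (hEP i hgi) (hEP i hgi) hπ hπ
        rw [show π * π = 1 from Equiv.ext hπ2] at hr
        rw [pow_two]
        exact R.rel_faithful (F i) (hFc i) (mul_mem hgi hgi) hr
      · have hab : Commute a b := mem_centralizer_iff.1 (hKc hb) a ha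
        rw [hab.mul_pow, h1, h2, mul_one]
    have key : ∀ g ∈ P, ∀ k ∈ K, g * k * g⁻¹ ∈ K := by
      intro g hg k hk
      refine closure_induction (fun k hk => ?_) (by simp) (fun a b _ _ ha hb => ?_) (fun a _ ha => ?_) hk
      · obtain ⟨i, a, b, a', b', h1, h2, h3, h3', h5, h5', rfl⟩ := hk
        obtain ⟨j, hj⟩ := hperm g hg i
        obtain ⟨c, d, hcd, hc⟩ : act e g ((F i).ω a + (F i).ω b) ∈ (F j).pairs :=
          hj ▸ ⟨_, (F i).mem_pairs h1, rfl⟩
        obtain ⟨c', d', hcd', hc'⟩ : act e g ((F i).ω a' + (F i).ω b') ∈ (F j).pairs :=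
          hj ▸ ⟨_, (F i).mem_pairs h2, rfl⟩
        have hne : act e g ((F i).ω a + (F i).ω b) ≠ act e g ((F i).ω a' + (F i).ω b') := by
          intro e'
          have := congrArg (act e g⁻¹) e'
          rw [act_inv_act e (hPV hg), act_inv_act e (hPV hg)] at this
          rcases (F i).inj a b a' b' h1 h2 this with ⟨x, -⟩ | ⟨x, -⟩
          exacts [h3 x, h3' x]
        have h0 : S.φ ((F j).ω c + (F j).ω d) ((F j).ω c' + (F j).ω d') = 0 := by
          rw [← hc, ← hc', (R.map_ctr hg ((F i).mem a b h1)).2.2, (F i).pair a b a' b' h1 h2]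
          simp [ind, h3, h3', h5, h5']
        rw [hc, hc'] at hne
        rw [(F j).pair c d c' d' hcd hcd'] at h0
        refine subset_closure ⟨j, c, d, c', d', hcd, hcd', ?_, ?_, ?_, ?_, ?_⟩
        · intro x; subst x
          by_cases hdd : d = d'
          · exact hne (by rw [hdd])
          · simp [ind, hcd.symm, hdd, hcd'] at h0
        · intro x; subst x
          by_cases hdd : d = c'
          · exact hne (by rw [hdd, add_comm])
          · simp [ind, hcd.symm, hdd, hcd'.symm] at h0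
        · intro x; subst x
          by_cases hdd : c = d'
          · exact hne (by rw [hdd, add_comm])
          · simp [ind, hcd, hdd, hcd'] at h0
        · intro x; subst x
          by_cases hdd : c = c'
          · exact hne (by rw [hdd])
          · simp [ind, hcd, hdd, hcd'.symm] at h0
        · rw [← hc, ← hc', (R.map_ctr hg ((F i).mem a b h1)).2.1, (R.map_ctr hg ((F i).mem a' b' h2)).2.1]
          group
      · rw [show g * (a * b) * g⁻¹ = g * a * g⁻¹ * (g * b * g⁻¹) by group]; exact mul_mem ha hb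
      · rw [show g * a⁻¹ * g⁻¹ = (g * a * g⁻¹)⁻¹ by group]; exact inv_mem ha
    have hnorm : P ≤ normalizer (K : Set G) := fun g hg => by
      rw [mem_normalizer_iff]
      refine fun k => ⟨key g hg k, fun hk => ?_⟩
      have := key g⁻¹ (P.inv_mem hg) _ hk
      simpa [mul_assoc] using this
    have hbot := h.op1 K hKP hKp hnorm
    subst h4
    have hmem : elt e P A₀ ((F i₀).ω 0 + (F i₀).ω 1) * elt e P A₀ ((F i₀).ω 2 + (F i₀).ω 3) ∈ K :=
      subset_closure ⟨i₀, 0, 1, 2, 3, by decide, by decide, by decide, by decide, by decide, by decide, rfl⟩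
    have hr := R.rel_mul _ (R.el_mem ((F i₀).mem 0 1 (by decide))) (R.el_mem ((F i₀).mem 2 3 (by decide)))
      (R.rel_swap (F i₀) (by decide : (0 : Fin 4) ≠ 1)) (R.rel_swap (F i₀) (by decide : (2 : Fin 4) ≠ 3))
    rw [hbot, mem_bot] at hmem
    rw [hmem] at hr
    have := R.rel_unique (F i₀) (by omega) hr (R.rel_one _)
    revert this; decide
  -- the degree
  have hdeg : ∃ m, 1 ≤ m ∧ n = 2 ^ m + 1 := by
    by_cases hn3 : n = 3
    · exact ⟨1, le_rfl, hn3⟩
    have hn5 : 5 ≤ n := by omega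
    set E₀ := R.grp F₀ with hE₀def
    let T₀ : Subgroup G :=
      { carrier := {t | t ∈ T ∧ act e t '' F₀.pairs = F₀.pairs}
        one_mem' := ⟨T.one_mem, by simp [Set.image_congr' (fun c => act_one e c)]⟩
        mul_mem' := by
          rintro a b ⟨ha, a1⟩ ⟨hb, b1⟩
          refine ⟨T.mul_mem ha hb, ?_⟩
          rw [Set.image_congr' (fun c => act_mul e (hPV (hTP ha)) (hPV (hTP hb)) c), ← Set.image_image, b1, a1]
        inv_mem' := by
          rintro a ⟨ha, a1⟩
          refine ⟨T.inv_mem ha, ?_⟩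
          conv_lhs => rw [← a1]
          rw [Set.image_image, Set.image_congr' (fun c => act_inv_act e (hPV (hTP ha)) c), Set.image_id'] }
    -- elements preserving the frame permute the points
    have hrelT : ∀ t : ↥T₀, ∃ π, R.Rel F₀ (t : G) π := by
      intro t
      obtain ⟨t, htT, htF⟩ := t
      have himg : ∀ i j, i ≠ j → ∃ a b, a ≠ b ∧ act e t (F₀.ω i + F₀.ω j) = F₀.ω a + F₀.ω b := fun i j hij => by
        obtain ⟨a, b, hab, e'⟩ : act e t (F₀.ω i + F₀.ω j) ∈ F₀.pairs :=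
          htF ▸ ⟨_, F₀.mem_pairs hij, rfl⟩
        exact ⟨a, b, hab, e'⟩
      let f : Fin n → Fin n → Finset (Fin n) := fun i j =>
        Finset.univ.filter fun a => ∃ b, a ≠ b ∧ act e t (F₀.ω i + F₀.ω j) = F₀.ω a + F₀.ω b
      have hf : ∀ i j a b, a ≠ b → act e t (F₀.ω i + F₀.ω j) = F₀.ω a + F₀.ω b → f i j = {a, b} := by
        intro i j a b hab e'
        ext x
        simp only [f, Finset.mem_filter, Finset.mem_univ, true_and, Finset.mem_insert, Finset.mem_singleton]
        constructor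
        · rintro ⟨y, hxy, e''⟩
          rcases F₀.inj x y a b hxy hab (e''.symm.trans e') with ⟨h', -⟩ | ⟨h', -⟩
          exacts [.inl h', .inr h']
        · rintro (rfl | rfl)
          · exact ⟨b, hab, e'⟩
          · exact ⟨a, hab.symm, e'.trans (add_comm _ _)⟩
      have htP := hTP htT
      have hinj' : ∀ v w, act e t v = act e t w → v = w := fun v w e' => by
        have := congrArg (act e t⁻¹) e'
        rwa [act_inv_act e (hPV htP), act_inv_act e (hPV htP)] at this
      obtain ⟨π, hπ⟩ := perm_of_pairs hn5 f (fun i j => by simp only [f, add_comm (F₀.ω i) (F₀.ω j)])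
        (fun i j hij => by
          obtain ⟨a, b, hab, e'⟩ := himg i j hij
          rw [hf i j a b hab e', Finset.card_pair hab])
        (fun i j k l hij hkl e' => by
          obtain ⟨a, b, hab, e1⟩ := himg i j hij
          obtain ⟨a', b', hab', e2⟩ := himg k l hkl
          rw [hf i j a b hab e1, hf k l a' b' hab' e2] at e'
          refine F₀.inj i j k l hij hkl (hinj' _ _ ?_)
          rw [e1, e2]
          have h1 : a ∈ ({a', b'} : Finset (Fin n)) := e' ▸ Finset.mem_insert_self _ _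
          have h2 : b ∈ ({a', b'} : Finset (Fin n)) := e' ▸ Finset.mem_insert_of_mem (Finset.mem_singleton_self _)
          simp only [Finset.mem_insert, Finset.mem_singleton] at h1 h2
          rcases h1 with rfl | rfl <;> rcases h2 with rfl | rfl <;>
            first | rfl | exact add_comm _ _ | exact absurd rfl hab)
        (fun i j k hij hik hjk => by
          obtain ⟨a, b, hab, e1⟩ := himg i j hij
          obtain ⟨a', b', hab', e2⟩ := himg i k hik
          have h1 : S.φ (F₀.ω a + F₀.ω b) (F₀.ω a' + F₀.ω b') = 1 := by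
            rw [← e1, ← e2, (R.map_ctr htP (F₀.mem i j hij)).2.2, F₀.pair i j i k hij hik]
            simp [ind, hik, hij.symm, hjk]
          rw [F₀.pair a b a' b' hab hab'] at h1
          rw [hf i j a b hab e1, hf i k a' b' hab' e2]
          simp only [Finset.mem_insert, Finset.mem_singleton]
          by_cases c1 : a = a'
          · exact ⟨a, .inl rfl, .inl c1⟩
          by_cases c2 : a = b'
          · exact ⟨a, .inl rfl, .inr c2⟩
          by_cases c3 : b = a'
          · exact ⟨b, .inr rfl, .inl c3⟩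
          by_cases c4 : b = b'
          · exact ⟨b, .inr rfl, .inr c4⟩
          simp [ind, c1, c2, c3, c4] at h1)
        (fun i j k l hij hkl h1 h2 h3 h4' a ha hb => by
          obtain ⟨x, y, hxy, e1⟩ := himg i j hij
          obtain ⟨x', y', hxy', e2⟩ := himg k l hkl
          have h0 : S.φ (F₀.ω x + F₀.ω y) (F₀.ω x' + F₀.ω y') = 0 := by
            rw [← e1, ← e2, (R.map_ctr htP (F₀.mem i j hij)).2.2, F₀.pair i j k l hij hkl]
            simp [ind, h1, h2, h3, h4']
          have hne : F₀.ω x + F₀.ω y ≠ F₀.ω x' + F₀.ω y' := by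
            rw [← e1, ← e2]
            intro e'
            rcases F₀.inj i j k l hij hkl (hinj' _ _ e') with ⟨z, -⟩ | ⟨z, -⟩
            exacts [h1 z, h2 z]
          rw [F₀.pair x y x' y' hxy hxy'] at h0
          rw [hf i j x y hxy e1] at ha
          rw [hf k l x' y' hxy' e2] at hb
          simp only [Finset.mem_insert, Finset.mem_singleton] at ha hb
          rcases ha with rfl | rfl <;> rcases hb with rfl | rfl
          · by_cases c : y = y'
            · exact hne (by rw [c])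
            · simp [ind, hxy.symm, hxy', c] at h0
          · by_cases c : y = x'
            · exact hne (by rw [c, add_comm])
            · simp [ind, hxy.symm, hxy'.symm, c] at h0
          · by_cases c : x = y'
            · exact hne (by rw [c, add_comm])
            · simp [ind, hxy, hxy', c] at h0
          · by_cases c : x = x'
            · exact hne (by rw [c])
            · simp [ind, hxy, hxy'.symm, c] at h0)
      refine ⟨π, fun i j hij => ?_⟩
      obtain ⟨a, b, hab, e1⟩ := himg i j hij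
      have e2 := hπ i j hij
      rw [hf i j a b hab e1] at e2
      rw [e1]
      have h1 : a ∈ ({π i, π j} : Finset (Fin n)) := e2 ▸ Finset.mem_insert_self _ _
      have h2 : b ∈ ({π i, π j} : Finset (Fin n)) := e2 ▸ Finset.mem_insert_of_mem (Finset.mem_singleton_self _)
      simp only [Finset.mem_insert, Finset.mem_singleton] at h1 h2
      rcases h1 with rfl | rfl <;> rcases h2 with rfl | rfl <;>
        first | rfl | exact add_comm _ _ | exact absurd rfl hab
    choose qf hqf using hrelT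
    let qh : ↥T₀ →* Equiv.Perm (Fin n) := MonoidHom.mk' qf fun a b =>
      R.rel_unique F₀ hn (hqf (a * b)) (R.rel_mul F₀ (hTP a.2.1) (hTP b.2.1) (hqf a) (hqf b))
    let M₀ : Subgroup (Equiv.Perm (Fin n)) :=
      { carrier := {π | ∃ g ∈ E₀ ⊓ M, R.Rel F₀ g π}
        one_mem' := ⟨1, one_mem _, R.rel_one _⟩
        mul_mem' := by
          rintro π σ ⟨g, hg, h1⟩ ⟨k, hk, h2⟩
          exact ⟨g * k, mul_mem hg hk, R.rel_mul _ (R.grp_le _ hg.1) (R.grp_le _ hk.1) h1 h2⟩
        inv_mem' := by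
          rintro π ⟨g, hg, h1⟩
          exact ⟨g⁻¹, inv_mem hg, R.rel_inv _ (R.grp_le _ hg.1) h1⟩ }
    have hreal : ∀ σ : Equiv.Perm (Fin n), ∃ g ∈ E₀, R.Rel F₀ g σ := by
      intro σ
      induction σ using Equiv.Perm.swap_induction_on with
      | one => exact ⟨1, one_mem _, R.rel_one _⟩
      | swap_mul σ x y hxy ih =>
        obtain ⟨g, hg, h1⟩ := ih
        exact ⟨_, mul_mem (R.el_grp F₀ (F₀.mem_pairs hxy)) hg,
          R.rel_mul _ (R.el_mem (F₀.mem x y hxy)) (R.grp_le _ hg) (R.rel_swap F₀ hxy) h1⟩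
    refine two_pow_add_one hn5 (Q := qh.range) (M₀ := M₀) ?_ ?_ ?_
    · exact IsPGroup.of_surjective (h.pm.Tp.to_le fun t (ht : t ∈ T₀) => ht.1) qh.rangeRestrict
        qh.rangeRestrict_surjective
    · intro Rl hRs hRi hRQ hnt σ hσ
      let Pz : Set W := {c | ∃ i j, Rl i j ∧ c = F₀.ω i + F₀.ω j}
      let Pi : Set W := {c | ∃ t ∈ T, c ∈ act e t '' Pz}
      have hsub : Pz ⊆ F₀.pairs := by
        rintro _ ⟨i, j, hR, rfl⟩
        exact F₀.mem_pairs fun e' => hRi i (e' ▸ hR)
      have hPi0 : ∀ c ∈ Pi, c ∈ F₀.pairs → c ∈ Pz := by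
        rintro _ ⟨t, ht, ⟨_, ⟨i, j, hR, rfl⟩, rfl⟩⟩ hc
        have hij : i ≠ j := fun e' => hRi i (e' ▸ hR)
        have htF : act e t '' F₀.pairs = F₀.pairs := by
          rw [← R.image_pairs (hTP ht)]
          have hm : act e t (F₀.ω i + F₀.ω j) ∈ (R.image (hTP ht) F₀).pairs := by
            rw [R.image_pairs]; exact ⟨_, F₀.mem_pairs hij, rfl⟩
          exact le_antisymm (R.closed_subset hF₀ hc hm) (R.closed_subset (R.closed_image _ hF₀) hm hc)
        refine ⟨qh ⟨t, ht, htF⟩ i, qh ⟨t, ht, htF⟩ j, hRQ _ ⟨_, rfl⟩ i j hR, ?_⟩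
        exact hqf ⟨t, ht, htF⟩ i j hij
      have hPiT : ∀ t ∈ T, ∀ c, c ∈ Pi ↔ act e t c ∈ Pi := by
        intro t ht c
        constructor
        · rintro ⟨s, hs, ⟨d, hd, rfl⟩⟩
          exact ⟨t * s, T.mul_mem ht hs, d, hd, act_mul e (hPV (hTP ht)) (hPV (hTP hs)) d⟩
        · rintro ⟨s, hs, ⟨d, hd, e'⟩⟩
          refine ⟨t⁻¹ * s, T.mul_mem (T.inv_mem ht) hs, d, hd, ?_⟩
          rw [act_mul e (inv_mem (hPV (hTP ht))) (hPV (hTP hs)), e', act_inv_act e (hPV (hTP ht))]
      let X : Subgroup G :=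
        { carrier := {g | g ∈ P ∧ ∀ c, c ∈ Pi ↔ act e g c ∈ Pi}
          one_mem' := ⟨P.one_mem, fun c => by rw [act_one]⟩
          mul_mem' := by
            rintro a b ⟨ha, a1⟩ ⟨hb, b1⟩
            exact ⟨P.mul_mem ha hb, fun c => by rw [act_mul e (hPV ha) (hPV hb)]; exact (b1 c).trans (a1 _)⟩
          inv_mem' := by
            rintro a ⟨ha, a1⟩
            refine ⟨P.inv_mem ha, fun c => ?_⟩
            have := a1 (act e a⁻¹ c)
            rw [act_act_inv e (hPV ha)] at this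
            exact this.symm }
      have hXM : X ≤ M := by
        refine h.pm.max X (fun g hg => hg.1) (fun t ht => ⟨hTP ht, hPiT t ht⟩) fun e' => ?_
        obtain ⟨i, j, a, b, hR, hab, hnR⟩ := hnt
        have hij : i ≠ j := fun e'' => hRi i (e'' ▸ hR)
        obtain ⟨g, hg, hgr⟩ := hreal (Equiv.swap (Equiv.swap i a j) b * Equiv.swap i a)
        have hgX : g ∈ X := e'.symm ▸ R.grp_le _ hg
        have hσi : (Equiv.swap (Equiv.swap i a j) b * Equiv.swap i a) i = a := by
          rw [Equiv.Perm.mul_apply, Equiv.swap_apply_left]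
          refine Equiv.swap_apply_of_ne_of_ne ?_ hab
          intro e''
          exact hij ((Equiv.swap i a).injective ((Equiv.swap_apply_left i a).trans e''))
        have hσj : (Equiv.swap (Equiv.swap i a j) b * Equiv.swap i a) j = b := by
          rw [Equiv.Perm.mul_apply, Equiv.swap_apply_left]
        have h1 : F₀.ω i + F₀.ω j ∈ Pi := ⟨1, T.one_mem, _, ⟨i, j, hR, rfl⟩, act_one e _⟩
        have h2 := (hgX.2 _).1 h1
        rw [hgr i j hij, hσi, hσj] at h2
        obtain ⟨i', j', hR', e''⟩ := hPi0 _ h2 (F₀.mem_pairs hab)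
        rcases F₀.inj a b i' j' hab (fun z => hRi i' (z ▸ hR')) e'' with ⟨rfl, rfl⟩ | ⟨rfl, rfl⟩
        · exact hnR hR'
        · exact hnR (hRs _ _ hR')
      obtain ⟨g, hg, hgr⟩ := hreal σ
      have hσ' : ∀ i j, Rl (σ i) (σ j) → Rl i j := by
        intro i j h'
        have hs : Function.Surjective (fun p : {p : Fin n × Fin n // Rl p.1 p.2} =>
            (⟨(σ p.1.1, σ p.1.2), hσ _ _ p.2⟩ : {p : Fin n × Fin n // Rl p.1 p.2})) :=
          Finite.injective_iff_surjective.1 fun p q hpq => by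
            simp only [Subtype.mk.injEq, Prod.mk.injEq] at hpq
            exact Subtype.ext (Prod.ext (σ.injective hpq.1) (σ.injective hpq.2))
        obtain ⟨⟨⟨a, b⟩, hab⟩, e'⟩ := hs ⟨(σ i, σ j), h'⟩
        simp only [Subtype.mk.injEq, Prod.mk.injEq] at e'
        rw [← σ.injective e'.1, ← σ.injective e'.2]; exact hab
      refine ⟨g, ⟨hg, hXM ⟨R.grp_le _ hg, fun c => ?_⟩⟩, hgr⟩
      have hfix : ∀ d ∈ S.ctr, d ∉ F₀.pairs → act e g d = d := fun d hd hdn =>
        R.grp_fix F₀ hg fun u hu => (S.symm u (F₀.pairs_ctr hu) d hd).trans (hF₀ d hd hdn u hu)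
      have hPic : ∀ c ∈ Pi, c ∈ S.ctr := by
        rintro _ ⟨t, ht, ⟨d, hd, rfl⟩⟩
        exact (R.map_ctr (hTP ht) (F₀.pairs_ctr (hsub hd))).1
      by_cases hc : c ∈ F₀.pairs
      · obtain ⟨i, j, hij, rfl⟩ := hc
        rw [hgr i j hij]
        constructor
        · intro h'
          obtain ⟨i', j', hR', e'⟩ := hPi0 _ h' (F₀.mem_pairs hij)
          refine ⟨1, T.one_mem, _, ?_, act_one e _⟩
          rcases F₀.inj i j i' j' hij (fun z => hRi i' (z ▸ hR')) e' with ⟨rfl, rfl⟩ | ⟨rfl, rfl⟩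
          · exact ⟨_, _, hσ _ _ hR', rfl⟩
          · exact ⟨_, _, hσ _ _ (hRs _ _ hR'), rfl⟩
        · intro h'
          have hne : σ i ≠ σ j := fun z => hij (σ.injective z)
          obtain ⟨i', j', hR', e'⟩ := hPi0 _ h' (F₀.mem_pairs hne)
          refine ⟨1, T.one_mem, _, ?_, act_one e _⟩
          rcases F₀.inj _ _ i' j' hne (fun z => hRi i' (z ▸ hR')) e' with ⟨rfl, rfl⟩ | ⟨rfl, rfl⟩
          · exact ⟨i, j, hσ' _ _ hR', rfl⟩
          · exact ⟨i, j, hσ' _ _ (hRs _ _ hR'), rfl⟩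
      · constructor
        · intro h'
          rw [hfix c (hPic c h') hc]; exact h'
        · intro h'
          have hd : act e g c ∉ F₀.pairs := by
            intro h''
            obtain ⟨a, b, hab, e'⟩ := h''
            have h3 := R.rel_inv F₀ (R.grp_le _ hg) hgr a b hab
            rw [← e', act_inv_act e (hPV (R.grp_le _ hg))] at h3
            exact hc (h3 ▸ F₀.mem_pairs fun z => hab (σ⁻¹.injective z))
          have h4 : act e g⁻¹ (act e g c) = act e g c := by
            conv_lhs => rw [← hfix _ (hPic _ h') hd]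
            exact act_inv_act e (hPV (R.grp_le _ hg)) _
          rw [act_inv_act e (hPV (R.grp_le _ hg))] at h4
          rwa [← h4] at h'
    · intro htop
      refine hFM ((closure_le _).2 ?_)
      rintro _ ⟨c, ⟨k, l, hkl, rfl⟩, rfl⟩
      obtain ⟨g, ⟨hgE, hgM⟩, hgr⟩ : Equiv.swap k l ∈ M₀ := htop ▸ mem_top _
      have hr := R.rel_mul F₀ (R.el_mem (F₀.mem k l hkl)) (P.inv_mem (R.grp_le _ hgE)) (R.rel_swap F₀ hkl)
        (R.rel_inv F₀ (R.grp_le _ hgE) hgr)
      rw [mul_inv_cancel] at hr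
      have := R.rel_faithful F₀ hF₀ (mul_mem (R.el_grp F₀ (F₀.mem_pairs hkl)) (inv_mem hgE)) hr
      rw [SetLike.mem_coe, mul_inv_eq_one.1 this]
      exact hgM
  obtain ⟨m, hm1, rfl⟩ := hdeg
  have hodd : ((2 ^ m + 1 : ℕ) : ZMod 2) = 1 := by
    push_cast
    rw [show (2 : ZMod 2) = 0 from rfl, zero_pow (by omega), zero_add]
  -- coordinates
  let ff : Fin r → Fin (2 ^ m + 1) → W → ZMod 2 := fun i k w =>
    if k = 0 then 0 else S.φ ((F i).ω 0 + (F i).ω k) w
  let xv : Fin r → W → Fin (2 ^ m + 1) → ZMod 2 := fun i w k => ff i k w + ∑ l, ff i l w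
  have hff : ∀ i k l, k ≠ l → ∀ w, S.φ ((F i).ω k + (F i).ω l) w = ff i k w + ff i l w := by
    intro i k l hkl w
    simp only [ff]
    rw [(F i).phi k l hkl]
    by_cases hk : k = 0
    · subst hk
      rw [if_pos rfl, if_neg hkl.symm, zero_add, (F i).phi 0 l hkl]
    by_cases hl : l = 0
    · subst hl
      rw [if_pos rfl, if_neg hk, add_zero, (F i).phi 0 k hkl.symm, add_comm]
    rw [if_neg hk, if_neg hl, (F i).phi 0 k (Ne.symm hk), (F i).phi 0 l (Ne.symm hl),
      show (F i).Φ 0 w + (F i).Φ k w + ((F i).Φ 0 w + (F i).Φ l w) =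
        (F i).Φ k w + (F i).Φ l w + ((F i).Φ 0 w + (F i).Φ 0 w) by abel, z2_add_self, add_zero]
  have hxadd : ∀ i v w, xv i (v + w) = xv i v + xv i w := by
    intro i v w
    have h1 : ∀ k, ff i k (v + w) = ff i k v + ff i k w := fun k => by
      simp only [ff]
      by_cases hk : k = 0
      · simp [hk]
      · rw [if_neg hk, if_neg hk, if_neg hk, S.add _ ((F i).mem _ _ (Ne.symm hk))]
    funext k
    simp only [xv, Pi.add_apply, h1, Finset.sum_add_distrib]
    abel
  have hxpair : ∀ i w k l, k ≠ l → xv i w k + xv i w l = S.φ ((F i).ω k + (F i).ω l) w := by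
    intro i w k l hkl
    rw [hff i k l hkl w]
    show ff i k w + ∑ a, ff i a w + (ff i l w + ∑ a, ff i a w) = _
    rw [show ff i k w + ∑ a, ff i a w + (ff i l w + ∑ a, ff i a w) =
      ff i k w + ff i l w + (∑ a, ff i a w + ∑ a, ff i a w) by abel, z2_add_self, add_zero]
  have hxsum : ∀ i w, ∑ k, xv i w k = 0 := by
    intro i w
    simp only [xv, Finset.sum_add_distrib, Finset.sum_const, Finset.card_univ, Fintype.card_fin,
      nsmul_eq_mul, hodd, one_mul, z2_add_self]
  have hext : ∀ u v : Fin (2 ^ m + 1) → ZMod 2, ∑ k, u k = 0 → ∑ k, v k = 0 →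
      (∀ k l, k ≠ l → u k + u l = v k + v l) → u = v := by
    intro u v hu hv huv
    have hconst : ∀ k, u k + v k = u 0 + v 0 := by
      intro k
      by_cases hk : k = 0
      · rw [hk]
      · refine z2_eq_of_add _ _ ?_
        rw [show u k + v k + (u 0 + v 0) = (u k + u 0) + (v k + v 0) by abel, huv k 0 hk, z2_add_self]
    have : ∑ k, (u k + v k) = u 0 + v 0 := by
      rw [Finset.sum_congr rfl fun k _ => hconst k, Finset.sum_const, Finset.card_univ, Fintype.card_fin,
        nsmul_eq_mul, hodd, one_mul]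
    rw [Finset.sum_add_distrib, hu, hv, add_zero] at this
    funext k
    exact z2_eq_of_add _ _ (by rw [hconst k, ← this])
  have hxpairs : ∀ i k l, k ≠ l → xv i ((F i).ω k + (F i).ω l) = fun a => ind k a + ind l a := by
    intro i k l hkl
    refine hext _ _ (hxsum _ _) ?_ fun a b hab => ?_
    · simp [Finset.sum_add_distrib, ind]; rfl
    · rw [hxpair i _ a b hab, (F i).pair a b k l hab hkl]
      simp only [ind, eq_comm (a := a), eq_comm (a := b)]
      abel
  have hxker : ∀ i w, xv i w = 0 ↔ ∀ c ∈ (F i).pairs, S.φ c w = 0 := by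
    intro i w
    constructor
    · rintro h0 c ⟨k, l, hkl, rfl⟩
      rw [← hxpair i w k l hkl, h0]; rfl
    · intro h0
      refine hext _ _ (hxsum i w) (Finset.sum_const_zero) fun k l hkl => ?_
      rw [hxpair i w k l hkl, h0 _ ((F i).mem_pairs hkl)]; rfl
  have hxact : ∀ i g π, g ∈ P → R.Rel (F i) g π → ∀ w k, xv i (act e g w) (π k) = xv i w k := by
    intro i g π hg hπ w
    have : (fun k => xv i (act e g w) (π k)) = xv i w := by
      refine hext _ _ ?_ (hxsum i w) fun k l hkl => ?_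
      · rw [Equiv.sum_comp π (xv i (act e g w))]; exact hxsum i _
      · rw [hxpair i _ (π k) (π l) (fun z => hkl (π.injective z)), hxpair i w k l hkl, ← hπ k l hkl,
          (R.map_ctr hg ((F i).mem k l hkl)).2.2]
    exact fun k => congrFun this k
  -- the module of a component
  have hdispv : ∀ v ∈ V, ∀ g ∈ P, ∀ hv : v ∈ V, ∀ hc : ⁅g, v⁆ ∈ V,
      e (Additive.ofMul ⟨⁅g, v⁆, hc⟩) = act e g (e (Additive.ofMul ⟨v, hv⟩)) - e (Additive.ofMul ⟨v, hv⟩) :=
    fun v _ g hg hv hc => vec_inj e (by rw [vec_e, vec_comm e (hPV hg), vec_e])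
  have hWV : ∀ i, ⁅V, E i⁆ ≤ V := fun i => commutator_le.2 fun v hv g hg => by
    rw [commutatorElement_def, mul_assoc, mul_assoc, ← mul_assoc g]
    exact V.mul_mem hv (h.conj_V (hEP i hg) (V.inv_mem hv))
  have hUin : ∀ i, ∀ u ∈ ⁅V, E i⁆, ∀ hu : u ∈ V,
      e (Additive.ofMul ⟨u, hu⟩) ∈ AddSubgroup.closure (F i).pairs := by
    intro i
    let U : Subgroup G :=
      { carrier := {u | ∃ hu : u ∈ V, e (Additive.ofMul ⟨u, hu⟩) ∈ AddSubgroup.closure (F i).pairs}
        one_mem' := ⟨V.one_mem, by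
          rw [show (⟨1, V.one_mem⟩ : ↥V) = 1 from rfl, ofMul_one, map_zero]; exact zero_mem _⟩
        mul_mem' := by
          rintro a b ⟨ha, a1⟩ ⟨hb, b1⟩
          refine ⟨V.mul_mem ha hb, ?_⟩
          rw [show (⟨a * b, V.mul_mem ha hb⟩ : ↥V) = ⟨a, ha⟩ * ⟨b, hb⟩ from rfl, ofMul_mul, map_add]
          exact add_mem a1 b1
        inv_mem' := by
          rintro a ⟨ha, a1⟩
          refine ⟨V.inv_mem ha, ?_⟩
          rw [show (⟨a⁻¹, V.inv_mem ha⟩ : ↥V) = (⟨a, ha⟩ : ↥V)⁻¹ from rfl, ofMul_inv, map_neg]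
          exact neg_mem a1 }
    have hle : ⁅V, E i⁆ ≤ U := commutator_le.2 fun v hv g hg => by
      rw [← commutatorElement_inv]
      refine U.inv_mem ?_
      have hc : ⁅g, v⁆ ∈ V := by
        rw [commutatorElement_def]
        exact V.mul_mem (h.conj_V (hEP i hg) hv) (V.inv_mem hv)
      exact ⟨hc, by rw [hdispv v hv g (hEP i hg) hv hc]; exact R.grp_disp (F i) hg _⟩
    intro u hu hu'
    obtain ⟨hu'', h1⟩ := hle hu
    exact h1
  have hpairU : ∀ i, ∀ w ∈ AddSubgroup.closure (F i).pairs, vec e w ∈ ⁅V, E i⁆ := by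
    intro i w hw
    refine AddSubgroup.closure_induction (fun c hc => ?_) ?_ (fun a b _ _ ha hb => ?_)
      (fun a _ ha => ?_) hw
    · have hcS := (F i).pairs_ctr hc
      obtain ⟨v, hv⟩ := (R.tr hcS).phi_moves h e
      have hd : act e (elt e P A₀ c) v - v = c := by
        rw [R.act_el hcS, R.phi _ _ (R.tr hcS), hv, sm_one, add_sub_cancel_left]
      rw [← hd, vec_comm e (hPV (R.el_mem hcS)), ← commutatorElement_inv]
      exact inv_mem (commutator_mem_commutator (vec_mem e v) (R.el_grp _ hc))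
    · rw [show vec e (0 : W) = 1 by simp [vec]]; exact one_mem _
    · rw [vec_add]; exact mul_mem ha hb
    · rw [show vec e (-a) = (vec e a)⁻¹ by simp [vec]]; exact inv_mem ha
  have hcross0 : ∀ i j, i ≠ j → ∀ w ∈ AddSubgroup.closure (F i).pairs, ∀ c ∈ (F j).pairs, S.φ c w = 0 := by
    intro i j hij w hw c hc
    refine AddSubgroup.closure_induction (fun d hd => horth j i hij.symm c hc d hd) ?_
      (fun a b _ _ ha hb => by rw [S.add c ((F j).pairs_ctr hc), ha, hb, add_zero]) (fun a _ ha => ?_) hw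
    · have := S.add c ((F j).pairs_ctr hc) 0 0
      rw [add_zero, z2_add_self] at this
      exact this
    · have h0 : S.φ c (0 : W) = 0 := by
        have := S.add c ((F j).pairs_ctr hc) 0 0
        rwa [add_zero, z2_add_self] at this
      have := S.add c ((F j).pairs_ctr hc) a (-a)
      rw [add_neg_cancel, h0, ha, zero_add] at this
      exact this.symm
  have hcross : ∀ i j, i ≠ j → ⁅V, E i⁆ ≤ centralizer ((E j : Subgroup G) : Set G) := by
    intro i j hij u hu
    refine mem_centralizer_iff.2 fun g hg => ?_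
    have hV' := hWV i hu
    have h1 := R.grp_fix (F j) hg (hcross0 i j hij _ (hUin i u hu hV'))
    rw [act_eq_iff_commute e (hPV (hEP j hg)), vec_e] at h1
    exact h1
  let xm : Fin r → ↥V → Fin (2 ^ m + 1) → ZMod 2 := fun i v => xv i (e (Additive.ofMul v))
  have hxmmul : ∀ i a b, xm i (a * b) = xm i a + xm i b := fun i a b => by
    show xv i (e (Additive.ofMul (a * b))) = _
    rw [ofMul_mul, map_add, hxadd]
  have hxmker : ∀ i (v : ↥V), xm i v = 0 ↔ (v : G) ∈ centralizer ((E i : Subgroup G) : Set G) := by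
    intro i v
    rw [hxker]
    constructor
    · intro h0
      refine mem_centralizer_iff.2 fun g hg => ?_
      have h1 := R.grp_fix (F i) hg h0
      rw [act_eq_iff_commute e (hPV (hEP i hg)), vec_e] at h1
      exact h1
    · intro hv c hc
      have h1 := mem_centralizer_iff.1 hv _ (R.el_grp _ hc)
      rw [R.phi _ _ (R.tr ((F i).pairs_ctr hc)), phiX_zero_iff h e,
        act_eq_iff_commute e (hPV (R.el_mem ((F i).pairs_ctr hc))), vec_e]
      exact h1
  have hsurj : ∀ i (f : Fin (2 ^ m + 1) → ZMod 2), ∑ k, f k = 0 → ∃ w ∈ AddSubgroup.closure (F i).pairs,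
      xv i w = f := by
    intro i f hf
    let w : W := ∑ k ∈ Finset.univ.filter (fun k => k ≠ 0 ∧ f k = 1), ((F i).ω 0 + (F i).ω k)
    refine ⟨w, sum_mem fun k hk => AddSubgroup.subset_closure
      ((F i).mem_pairs (Ne.symm (Finset.mem_filter.1 hk).2.1)), ?_⟩
    let xh : W →+ (Fin (2 ^ m + 1) → ZMod 2) := AddMonoidHom.mk' (xv i) (hxadd i)
    refine hext _ _ (hxsum i w) hf fun a b hab => ?_
    have hval : ∀ a, a ≠ 0 → xv i w a = f a := by
      intro a ha
      show xh w a = f a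
      simp only [w, map_sum, Finset.sum_apply]
      refine (Finset.sum_congr rfl fun k hk =>
        (congrFun (hxpairs i 0 k (Ne.symm (Finset.mem_filter.1 hk).2.1)) a : xh ((F i).ω 0 + (F i).ω k) a = _)).trans ?_
      simp only [ind, Ne.symm ha, if_false, zero_add, Finset.sum_ite_eq', Finset.mem_filter, Finset.mem_univ,
        true_and, ha, ne_eq, not_false_iff]
      rcases z2_cases (f a) with h1 | h1 <;> simp [h1]
    have h0 : xv i w 0 = f 0 := by
      have e1 := hxsum i w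
      rw [Fin.sum_univ_succ] at e1 hf
      rw [Finset.sum_congr rfl fun k _ => hval k.succ (Fin.succ_ne_zero k)] at e1
      exact add_right_cancel (e1.trans hf.symm)
    by_cases ha : a = 0 <;> by_cases hb : b = 0 <;>
      simp only [ha, hb, h0, hval, ne_eq, not_false_iff]
  refine ⟨⟨m, hm1, rfl⟩, r, E, Fintype.card_pos_iff.2 ⟨⟨_, 1, T.one_mem, rfl⟩⟩, hEP, fun i j hij =>
    commutator_eq_bot_iff_le_centralizer.2 (hEcomm i j hij), ?_, hsup, ?_, ?_, ?_, ?_, fun i j hij =>
    commutator_eq_bot_iff_le_centralizer.2 (hcross i j hij), ?_⟩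
  · intro i
    refine le_bot_iff.1 fun g hg => ?_
    refine R.rel_faithful (F i) (hFc i) hg.1 fun a b hab => ?_
    have hle : (⨆ j ∈ {j | j ≠ i}, E j) ≤ centralizer ((⁅V, E i⁆ : Subgroup G) : Set G) :=
      iSup₂_le fun j hj => le_centralizer_iff.1 (hcross i j (Ne.symm hj))
    refine (act_eq_iff_commute e (hPV (hEP i hg.1)) _).2 ?_
    exact (mem_centralizer_iff.1 (hle hg.2) _
      (hpairU i _ (AddSubgroup.subset_closure ((F i).mem_pairs hab)))).symm
  · intro i j
    refine ⟨tt j * (tt i)⁻¹, T.mul_mem (htt j) (T.inv_mem (htt i)), ?_⟩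
    show cj (tt j * (tt i)⁻¹) (E i) = E j
    show cj _ (R.grp (R.image (hTP (htt i)) F₀)) = R.grp (R.image (hTP (htt j)) F₀)
    rw [R.grp_image, R.grp_image, ← cj_mul, inv_mul_cancel_right]
  · exact fun t ht i => (hEconj t ht i).imp fun j hj => hj.1
  · intro i
    refine (closure_le _).2 ?_
    rintro _ ⟨c, hc, rfl⟩
    exact subset_closure ⟨_, (R.tr ((F i).pairs_ctr hc)).isMem, mem_zpowers _⟩
  · refine le_antisymm (sup_le inf_le_left (iSup_le hWV)) fun v hv => ?_
    have hstep : ∀ s : Finset (Fin r), ∃ u ∈ (⨆ i, ⁅V, E i⁆ : Subgroup G), ∃ hu : v * u⁻¹ ∈ V,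
        ∀ i ∈ s, xm i ⟨_, hu⟩ = 0 := by
      intro s
      induction s using Finset.induction with
      | empty => exact ⟨1, one_mem _, by simpa using hv, fun i hi => by simp at hi⟩
      | @insert i s his ih =>
        obtain ⟨u, hu, hu', hus⟩ := ih
        obtain ⟨w, hw, hwe⟩ := hsurj i (xm i ⟨_, hu'⟩) (hxsum i _)
        refine ⟨vec e w * u, mul_mem (le_iSup (fun i => ⁅V, E i⁆) i (hpairU i w hw)) hu, ?_, fun j hj => ?_⟩
        · rw [mul_inv_rev, ← mul_assoc]; exact V.mul_mem hu' (V.inv_mem (vec_mem e w))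
        · have hsplit : (⟨v * (vec e w * u)⁻¹, by
              rw [mul_inv_rev, ← mul_assoc]; exact V.mul_mem hu' (V.inv_mem (vec_mem e w))⟩ : ↥V) =
              ⟨_, hu'⟩ * (⟨_, vec_mem e w⟩ : ↥V)⁻¹ := Subtype.ext (by simp [mul_assoc])
          rw [hsplit, hxmmul]
          have hinv : xm j (⟨_, vec_mem e w⟩ : ↥V)⁻¹ = xv j w := by
            have h2 : (⟨_, vec_mem e w⟩ : ↥V)⁻¹ = ⟨_, vec_mem e w⟩ :=
              inv_eq_of_mul_eq_one_right (Subtype.ext (by simpa [pow_two] using h.expV _ (vec_mem e w)))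
            rw [h2]
            show xv j (e (Additive.ofMul _)) = xv j w
            congr 1
            exact vec_inj e (vec_e e _)
          rw [hinv]
          by_cases hji : j = i
          · subst hji; rw [hwe]; funext k; exact z2_add_self _
          · rw [hus j ((Finset.mem_insert.1 hj).resolve_left hji),
              (hxker j w).2 (hcross0 i j (Ne.symm hji) w hw), add_zero]
    obtain ⟨u, hu, hu', hall⟩ := hstep Finset.univ
    have : v * u⁻¹ ∈ V ⊓ centralizer (((⨆ i, E i) : Subgroup G) : Set G) :=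
      ⟨hu', le_centralizer_iff.1 (iSup_le fun i => le_centralizer_iff.1
        (zpowers_le.2 ((hxmker i ⟨_, hu'⟩).1 (hall i (Finset.mem_univ i))))) (mem_zpowers _)⟩
    rw [show v = v * u⁻¹ * u by group]
    exact mul_mem (mem_sup_left this) (mem_sup_right hu)
  · intro i
    have hrel : ∀ g : ↥(E i), ∃ π, R.Rel (F i) (g : G) π := fun g => R.rel_exists (F i) g.2
    choose ρ₀ hρ₀ using hrel
    let ρ : ↥(E i) →* Equiv.Perm (Fin (2 ^ m + 1)) := MonoidHom.mk' ρ₀ fun a b =>
      R.rel_unique (F i) hn (hρ₀ (a * b)) (R.rel_mul (F i) (hEP i a.2) (hEP i b.2) (hρ₀ a) (hρ₀ b))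
    have hρinj : Function.Injective ρ := by
      rw [injective_iff_map_eq_one]
      intro g hg
      have := hρ₀ g
      rw [show ρ₀ g = 1 from hg] at this
      exact Subtype.ext (R.rel_faithful (F i) (hFc i) g.2 this)
    have hρsurj : ρ.range = ⊤ := top_of_swaps fun a b => by
      by_cases hab : a = b
      · subst hab; rw [Equiv.swap_self]; exact one_mem _
      · exact ⟨⟨_, R.el_grp _ ((F i).mem_pairs hab)⟩, R.rel_unique (F i) hn (hρ₀ _) (R.rel_swap _ hab)⟩
    let ψ : ↥⁅V, E i⁆ →* Multiplicative (Fin (2 ^ m + 1) → ZMod 2) :=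
      MonoidHom.mk' (fun u => Multiplicative.ofAdd (xm i ⟨u, hWV i u.2⟩))
        (fun a b => congrArg Multiplicative.ofAdd (hxmmul i ⟨a, hWV i a.2⟩ ⟨b, hWV i b.2⟩))
    refine ⟨m, hm1, ⟨MulEquiv.ofBijective ρ ⟨hρinj, MonoidHom.range_eq_top.1 hρsurj⟩⟩,
      normalizer_commutator_ge_right V (E i), inf_le_left, ρ, ψ, hρsurj, fun u => hxsum i _, ?_, ?_, ?_⟩
    · intro f hf
      obtain ⟨w, hw, hwe⟩ := hsurj i f hf
      refine ⟨⟨vec e w, hpairU i w hw⟩, ?_⟩
      show xv i (e (Additive.ofMul _)) = f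
      rw [← hwe]
      congr 1
      exact vec_inj e (vec_e e _)
    · intro u
      rw [mem_inf, and_iff_right u.2, ← hxmker i ⟨u, hWV i u.2⟩]
      exact ⟨fun h' => congrArg Multiplicative.toAdd h', fun h' => congrArg Multiplicative.ofAdd h'⟩
    · intro g u
      refine ⟨⟨_, Cfsg.Agent.H34.conj_mem_of_mem_normalizer (normalizer_commutator_ge_right V (E i) g.2) u.2⟩,
        rfl, fun k => ?_⟩
      show xv i (e (Additive.ofMul (⟨(g : G) * u * (g : G)⁻¹, _⟩ : ↥V))) k =
        xv i (e (Additive.ofMul ⟨u, hWV i u.2⟩)) ((ρ g)⁻¹ k)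
      have h1 : e (Additive.ofMul (⟨(g : G) * u * (g : G)⁻¹, h.conj_V (hEP i g.2) (hWV i u.2)⟩ : ↥V)) =
          act e (g : G) (e (Additive.ofMul ⟨u, hWV i u.2⟩)) :=
        vec_inj e (by rw [vec_e, vec_act e (hPV (hEP i g.2)), vec_e])
      rw [h1, ← hxact i g (ρ g) (hEP i g.2) (hρ₀ g) _ ((ρ g)⁻¹ k)]
      simp

/-- The structure for members of order two. -/
theorem exists_components_two (h : FFP 2 V P T M) (e : Additive ↥V ≃+ W) (hA₀P : A₀ ≤ P)
    (hA₀ : MinOff 2 V A₀) (hq : Nat.card ↥A₀ = 2) :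
    ∃ (r : ℕ) (E : Fin r → Subgroup G), 1 ≤ r ∧ (∀ i, E i ≤ P) ∧ (∀ i j, i ≠ j → ⁅E i, E j⁆ = ⊥) ∧
      (∀ i, E i ⊓ (⨆ j ∈ {j | j ≠ i}, E j) = ⊥) ∧ (⨆ i, E i) ⊔ T = P ∧
      (∀ i j, ∃ t ∈ T, (E i).map (MulAut.conj t).toMonoidHom = E j) ∧
      (V ⊓ centralizer (((⨆ i, E i) : Subgroup G) : Set G)) ⊔ (⨆ i, ⁅V, E i⁆) = V ∧
      (∀ i j, i ≠ j → ⁅⁅V, E i⁆, E j⁆ = ⊥) ∧
      ∀ i, ∃ m : ℕ, 1 ≤ m ∧ Nonempty (↥(E i) ≃* Equiv.Perm (Fin (2 ^ m + 1))) ∧
        Cfsg.ActsAsOddPermModuleOnSection (2 ^ m + 1) ⊤ (E i) ⁅V, E i⁆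
          (⁅V, E i⁆ ⊓ centralizer ((E i : Subgroup G) : Set G)) := by
  classical
  haveI : Fact (Nat.Prime 2) := ⟨Nat.prime_two⟩
  obtain ⟨S, hctr, hphi⟩ := exists_ts h e hA₀P hA₀
  have R : Real h e A₀ S := ⟨hA₀P, hA₀, hctr, hphi⟩
  obtain ⟨n, F₀, hn, hF₀, hFM, -⟩ := exists_closed_frame h e R hq
  obtain ⟨-, r, E, h1, h2, h3, h4, h5, h6, -, -, h7⟩ := components_of_frame h e R F₀ hn hF₀ hFM
  exact ⟨r, E, h1, h2, h3, h4, h5, h6, h7⟩

end Cfsg.Agent.H34.Para
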