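import Cfsg.Agent.H34.Para.Seeds
import Mathlib

/-!
A member commuting with `A` centralises the subgroup with coordinates.
-/

set_option autoImplicit false
set_option linter.style.haveILetI false
set_option maxHeartbeats 1000000

namespace Cfsg.Agent.H34.Para

open Subgroup
open Cfsg.Agent.H34.MinOffender
open scoped commutatorElement

variable {G : Type*} [Group G] [Finite G] {p : ℕ} [Fact p.Prime] {V P T M A L : Subgroup G} {F : Type}
  [Field F] [Fintype F] {C : Type*} [AddCommGroup C] (c : Chart p V P T M A L F C)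
include c

omit [Finite G] [Fact p.Prime] in
theorem Chart.exists_ne : ∃ l : Fˣ, (l : F) ≠ 1 := by
  classical
  by_contra hall
  push Not at hall
  haveI : Subsingleton Fˣ := ⟨fun a b => Units.ext ((hall a).trans (hall b).symm)⟩
  have := Fintype.card_le_one_iff_subsingleton.2 (inferInstance : Subsingleton Fˣ)
  rw [Fintype.card_units] at this
  have := c.hq
  omega

omit [Finite G] [Fact p.Prime] in
/-- Prescribed pairs among the displacements of `A`. -/
theorem Chart.exists_pair (h2 : (2 : F) = 0 ∧ ∀ t, c.r t * c.r t = t) {u w : F} (hu : u ≠ 0) (hw : w ≠ 0) :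
    ∃ t y, t ≠ 0 ∧ y ≠ 0 ∧ t * y = u ∧ c.r t * y = w := by
  have hd : u / w ≠ 0 := div_ne_zero hu hw
  refine ⟨(u / w) * (u / w), u / ((u / w) * (u / w)), mul_ne_zero hd hd,
    div_ne_zero hu (mul_ne_zero hd hd), mul_div_cancel₀ u (mul_ne_zero hd hd), ?_⟩
  rw [map_mul, h2.2]
  field_simp

omit [Finite G] [Fact p.Prime] in
/-- An additive set containing the displacements of `A` contains their components. -/
theorem Chart.axis_of (S : AddSubgroup (F × F × C))
    (h : ∀ t y, ((t * y, 0, c.G0 (c.r t * y)) : F × F × C) ∈ S) :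
    (∀ a : F, ((a, 0, 0) : F × F × C) ∈ S) ∧ ∀ w, ((0, 0, c.G0 w) : F × F × C) ∈ S := by
  rcases c.hr with h0 | h2
  · refine ⟨fun a => by simpa [h0] using h 1 a, fun w => ?_⟩
    rw [h0, AddMonoidHom.zero_apply]
    exact S.zero_mem
  · have hax : ∀ a : F, ((a, 0, 0) : F × F × C) ∈ S := by
      intro a
      by_cases ha : a = 0
      · subst ha; exact S.zero_mem
      obtain ⟨l, hl⟩ := c.exists_ne
      have hu : (l : F) * a ≠ 0 := mul_ne_zero l.ne_zero ha
      have hu' : a + (l : F) * a ≠ 0 := by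
        rw [show a + (l : F) * a = (1 + l) * a by ring]
        refine mul_ne_zero (fun h' => hl ?_) ha
        have h22 : (1 : F) + 1 = 0 := by rw [one_add_one_eq_two]; exact h2.1
        linear_combination h' - h22
      obtain ⟨t, y, -, -, e1, e2⟩ := c.exists_pair h2 hu' (one_ne_zero (α := F))
      obtain ⟨t', y', -, -, e1', e2'⟩ := c.exists_pair h2 hu (one_ne_zero (α := F))
      have := S.sub_mem (h t y) (h t' y')
      rw [e1, e2, e1', e2'] at this
      simp only [Prod.mk_sub_mk, sub_self, add_sub_cancel_right] at this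
      exact this
    refine ⟨hax, fun w => ?_⟩
    have := S.sub_mem (h 1 w) (hax w)
    simpa using this

/-- The vectors fixed by an element, as an additive subgroup. -/
noncomputable def Chart.fixSub {g : G} (hg : g ∈ P) : AddSubgroup (F × F × C) where
  carrier := {w | act c.e g w = w}
  zero_mem' := act_zero c.e (c.hPV hg)
  add_mem' := fun {a b} ha hb => by
    show act c.e g (a + b) = a + b
    rw [act_add c.e (c.hPV hg), ha, hb]
  neg_mem' := fun {a} ha => by
    show act c.e g (-a) = -a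
    rw [act_neg c.e (c.hPV hg), ha]

/-- The elements preserving `y` and fixing the axis. -/
noncomputable def Chart.stab : Subgroup G where
  carrier := {g | g ∈ P ∧ (∀ w, (act c.e g w).2.1 = w.2.1) ∧
    ∀ a : F, act c.e g ((a, 0, 0) : F × F × C) = (a, 0, 0)}
  one_mem' := ⟨P.one_mem, fun w => by rw [act_one], fun a => act_one c.e _⟩
  mul_mem' := by
    rintro g g' ⟨hg, g1, g2⟩ ⟨hg', g1', g2'⟩
    refine ⟨P.mul_mem hg hg', fun w => ?_, fun a => ?_⟩ <;> rw [act_mul c.e (c.hPV hg) (c.hPV hg')]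
    · rw [g1, g1']
    · rw [g2', g2]
  inv_mem' := by
    rintro g ⟨hg, g1, g2⟩
    refine ⟨P.inv_mem hg, fun w => ?_, fun a => ?_⟩
    · conv_rhs => rw [← act_act_inv c.e (c.hPV hg) w]
      rw [g1]
    · conv_lhs => rw [← g2 a]
      exact act_inv_act c.e (c.hPV hg) _

/-- The action on the third component. -/
noncomputable def Chart.th (g : G) (k : C) : C := (act c.e g ((0, 0, k) : F × F × C)).2.2

omit [Finite G] [Fact p.Prime] in
theorem Chart.act_stab {g : G} (hg : g ∈ c.stab) {w : F × F × C} (hw : w.2.1 = 0) :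
    act c.e g w = (w.1 + (act c.e g ((0, 0, w.2.2) : F × F × C)).1, 0, c.th g w.2.2) := by
  obtain ⟨hgP, g1, g2⟩ := hg
  conv_lhs => rw [show w = (w.1, 0, 0) + (0, 0, w.2.2) by
    refine Prod.ext ?_ (Prod.ext ?_ ?_) <;> simp [hw]]
  rw [act_add c.e (c.hPV hgP), g2]
  refine Prod.ext ?_ (Prod.ext ?_ ?_) <;> simp [g1, Chart.th]

omit [Finite G] [Fact p.Prime] in
theorem Chart.th_mul {g g' : G} (hg : g ∈ c.stab) (hg' : g' ∈ c.stab) (k : C) :
    c.th (g * g') k = c.th g (c.th g' k) := by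
  show (act c.e (g * g') ((0, 0, k) : F × F × C)).2.2 = _
  rw [act_mul c.e (c.hPV hg.1) (c.hPV hg'.1), c.act_stab hg (by rw [hg'.2.1])]
  rfl

omit [Finite G] [Fact p.Prime] in
theorem Chart.th_one (k : C) : c.th 1 k = k := by
  show (act c.e 1 ((0, 0, k) : F × F × C)).2.2 = k
  rw [act_one]

/-- A member commuting with `A` and different from it centralises `L`. -/
theorem Chart.centralizes {X : Subgroup G} (hX : Mem P A X) (hne : X ≠ A)
    (hc : ∀ x ∈ X, ∀ a ∈ A, x * a = a * x) : ∀ x ∈ X, ∀ g ∈ L, x * g = g * x := by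
  classical
  have hXP := c.base.mem_le c.hAP c.hA hX
  have hXm := c.base.mem_minOff c.hAP c.hA hX
  have hPV := c.hPV
  -- `X` preserves `y` and fixes the displacements of `A`
  have hy : ∀ x ∈ X, ∀ w, (act c.e x w).2.1 = w.2.1 := by
    intro x hx w
    have h1 := c.base.pair_sum c.hAP c.hA hX c.memA hne hc hx (vec_mem c.e w)
    rw [← vec_comm c.e (hPV (hXP hx)), c.mem_U] at h1
    simpa [sub_eq_zero] using h1
  have hdisp : ∀ x ∈ X, ∀ t y, act c.e x ((t * y, 0, c.G0 (c.r t * y)) : F × F × C) =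
      (t * y, 0, c.G0 (c.r t * y)) := by
    intro x hx t y
    have h1 := c.base.pair_sum c.hAP c.hA c.memA hX (Ne.symm hne) (fun a ha b hb => (hc b hb a ha).symm)
      (c.up_mem t) (vec_mem c.e ((0, y, 0) : F × F × C))
    rw [← vec_comm c.e (hPV (c.upP t)), c.act_up] at h1
    have h3 := (vec_mem_fixed c.e (hXP.trans hPV) _).1 h1 x hx
    simpa using h3
  have hax : ∀ x ∈ X, (∀ a : F, act c.e x ((a, 0, 0) : F × F × C) = (a, 0, 0)) ∧
      ∀ w, act c.e x ((0, 0, c.G0 w) : F × F × C) = (0, 0, c.G0 w) :=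
    fun x hx => c.axis_of (c.fixSub (hXP hx)) (hdisp x hx)
  -- components
  let al : G → F → F := fun x y => (act c.e x ((0, y, 0) : F × F × C)).1
  let ga : G → F → C := fun x y => (act c.e x ((0, y, 0) : F × F × C)).2.2
  let de : G → C → F := fun x k => (act c.e x ((0, 0, k) : F × F × C)).1
  let th : G → C → C := c.th
  have hform : ∀ x ∈ X, ∀ a y k, act c.e x ((a, y, k) : F × F × C) =
      (a + al x y + de x k, y, th x k + ga x y) := by
    intro x hx a y k
    have hg := hPV (hXP hx)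
    rw [show ((a, y, k) : F × F × C) = (a, 0, 0) + ((0, y, 0) + (0, 0, k)) by simp, act_add c.e hg,
      act_add c.e hg, (hax x hx).1 a]
    refine Prod.ext ?_ (Prod.ext ?_ ?_)
    · show a + (al x y + de x k) = _
      rw [add_assoc]
    · show 0 + ((act c.e x (0, y, 0)).2.1 + (act c.e x (0, 0, k)).2.1) = _
      rw [hy x hx, hy x hx]; simp
    · show 0 + (ga x y + th x k) = _
      rw [zero_add, add_comm]
  have hde_add : ∀ x ∈ X, ∀ k k', de x (k + k') = de x k + de x k' := fun x hx k k' => by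
    show (act c.e x ((0, 0, k + k') : F × F × C)).1 = _
    rw [show ((0, 0, k + k') : F × F × C) = (0, 0, k) + (0, 0, k') by simp, act_add c.e (hPV (hXP hx))]
    rfl
  have hal_add : ∀ x ∈ X, ∀ y y', al x (y + y') = al x y + al x y' := fun x hx y y' => by
    show (act c.e x ((0, y + y', 0) : F × F × C)).1 = _
    rw [show ((0, y + y', 0) : F × F × C) = (0, y, 0) + (0, y', 0) by simp, act_add c.e (hPV (hXP hx))]
    rfl
  have hga_add : ∀ x ∈ X, ∀ y y', ga x (y + y') = ga x y + ga x y' := fun x hx y y' => by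
    show (act c.e x ((0, y + y', 0) : F × F × C)).2.2 = _
    rw [show ((0, y + y', 0) : F × F × C) = (0, y, 0) + (0, y', 0) by simp, act_add c.e (hPV (hXP hx))]
    rfl
  -- `V = C_V(A) C_V(X)`
  have htop : ∀ y : F, ∃ k, ∀ x ∈ X, al x y + de x k = 0 ∧ th x k + ga x y = k := by
    intro y
    have hV := c.base.pair_top c.hAP c.hA c.memA hX (Ne.symm hne) (fun a ha b hb => (hc b hb a ha).symm)
      (vec_mem c.e ((0, y, 0) : F × F × C))
    have hn : (V ⊓ centralizer (A : Set G)) ≤ normalizer ((V ⊓ centralizer (X : Set G) : Subgroup G) : Set G) :=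
      fun a ha => centralizer_le_normalizer _
        (mem_centralizer_iff.2 fun b hb => c.base.comm b hb.1 a ha.1)
    rw [← SetLike.mem_coe, coe_mul_of_left_le_normalizer_right _ _ hn] at hV
    obtain ⟨d, hd, f, hf, hdf⟩ := hV
    obtain ⟨wd, rfl⟩ : ∃ w, vec c.e w = d := ⟨_, vec_e c.e ⟨d, hd.1⟩⟩
    obtain ⟨⟨a, b, k⟩, rfl⟩ : ∃ w, vec c.e w = f := ⟨_, vec_e c.e ⟨f, hf.1⟩⟩
    have e1 : wd + (a, b, k) = ((0, y, 0) : F × F × C) := vec_inj c.e (by rw [vec_add]; exact hdf)
    have hb : b = y := by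
      have := congrArg (fun w : F × F × C => w.2.1) e1
      simpa [(c.mem_U wd).1 hd] using this
    subst hb
    refine ⟨k, fun x hx => ?_⟩
    have h3 := (vec_mem_fixed c.e (hXP.trans hPV) _).1 hf x hx
    rw [hform x hx] at h3
    simp only [Prod.mk.injEq, add_assoc, add_eq_left] at h3
    exact ⟨h3.1, h3.2.2⟩
  -- the torus conjugates of `X`
  obtain ⟨hA1, hA2, hA3⟩ := elem_sup c.hA.commA c.hA.expA hXm.commA hXm.expA (fun a ha x hx => (hc x hx a ha).symm)
  set D := A ⊔ X with hD
  have hXl : ∀ l : Fˣ, ∀ x ∈ X, ∃ t, ∃ x' ∈ X, c.hh l * x * (c.hh l)⁻¹ = c.up t * x' := by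
    intro l
    set Y := cj (c.hh l) X with hY
    have hYm : Mem P A Y := hX.cj (c.hhP l)
    have hYP := c.base.mem_le c.hAP c.hA hYm
    have hYA : ∀ y ∈ Y, ∀ a ∈ A, y * a = a * y := by
      rintro _ ⟨x, hx, rfl⟩ a ha
      have ha' : (c.hh l)⁻¹ * a * c.hh l ∈ A := mem_cj.1 (show a ∈ cj (c.hh l) A by rwa [c.cj_hh])
      have e1 := hc x hx _ ha'
      show c.hh l * x * (c.hh l)⁻¹ * a = a * (c.hh l * x * (c.hh l)⁻¹)
      calc c.hh l * x * (c.hh l)⁻¹ * a = c.hh l * (x * ((c.hh l)⁻¹ * a * c.hh l)) * (c.hh l)⁻¹ := by group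
        _ = c.hh l * ((c.hh l)⁻¹ * a * c.hh l * x) * (c.hh l)⁻¹ := by rw [e1]
        _ = a * (c.hh l * x * (c.hh l)⁻¹) := by group
    have hconj : ∀ x ∈ X, ∀ a y k, act c.e (c.hh l * x * (c.hh l)⁻¹) ((a, y, k) : F × F × C) =
        (a + (l : F) * al x ((l : F) * y) + (l : F) * de x k, y, th x k + ga x ((l : F) * y)) := by
      intro x hx a y k
      rw [act_conj c.e (hPV (c.hhP l)) (hPV (hXP hx)), c.act_hh_inv, hform x hx, c.act_hh]
      refine Prod.ext ?_ (Prod.ext ?_ rfl)
      · show (l : F) * ((↑l⁻¹ : F) * a + al x ((l : F) * y) + de x k) = _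
        rw [mul_add, mul_add, ← mul_assoc, Units.mul_inv, one_mul]
      · show (↑l⁻¹ : F) * ((l : F) * y) = _
        rw [← mul_assoc, Units.inv_mul, one_mul]
    -- all these lie in a `p`-group
    have hXs : X ≤ c.stab := fun x hx => ⟨hXP hx, hy x hx, (hax x hx).1⟩
    let K : Subgroup G :=
      { carrier := {g | g ∈ c.stab ∧ ∃ x ∈ X, ∀ k, c.th g k = c.th x k}
        one_mem' := ⟨c.stab.one_mem, 1, X.one_mem, fun k => rfl⟩
        mul_mem' := by
          rintro g g' ⟨hg, x, hx, g3⟩ ⟨hg', x', hx', g3'⟩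
          refine ⟨c.stab.mul_mem hg hg', x * x', X.mul_mem hx hx', fun k => ?_⟩
          rw [c.th_mul hg hg', c.th_mul (hXs hx) (hXs hx'), g3', g3]
        inv_mem' := by
          rintro g ⟨hg, x, hx, g3⟩
          refine ⟨c.stab.inv_mem hg, x⁻¹, X.inv_mem hx, fun k => ?_⟩
          calc c.th g⁻¹ k = c.th (x⁻¹ * x) (c.th g⁻¹ k) := by rw [inv_mul_cancel, c.th_one]
            _ = c.th x⁻¹ (c.th g (c.th g⁻¹ k)) := by rw [c.th_mul (c.stab.inv_mem (hXs hx)) (hXs hx), g3]
            _ = c.th x⁻¹ k := by rw [← c.th_mul hg (c.stab.inv_mem hg), mul_inv_cancel, c.th_one] }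
    have hXK : X ≤ K := fun x hx => ⟨hXs hx, x, hx, fun k => rfl⟩
    have hYK : Y ≤ K := by
      rintro _ ⟨x, hx, rfl⟩
      show c.hh l * x * (c.hh l)⁻¹ ∈ K
      have hz0 : ∀ f ∈ X, al f 0 = 0 ∧ ga f 0 = 0 ∧ de f 0 = 0 ∧ th f 0 = 0 := fun f hf =>
        ⟨congrArg Prod.fst (act_zero c.e (hPV (hXP hf))),
          congrArg (fun z : F × F × C => z.2.2) (act_zero c.e (hPV (hXP hf))),
          congrArg Prod.fst (act_zero c.e (hPV (hXP hf))),
          congrArg (fun z : F × F × C => z.2.2) (act_zero c.e (hPV (hXP hf)))⟩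
      obtain ⟨z1, z2, z3, z4⟩ := hz0 x hx
      refine ⟨⟨P.mul_mem (P.mul_mem (c.hhP l) (hXP hx)) (P.inv_mem (c.hhP l)), fun w => ?_, fun a => ?_⟩,
        x, hx, fun k => ?_⟩
      · obtain ⟨a, y, k⟩ := w
        rw [hconj x hx]
      · rw [hconj x hx, mul_zero, z1, z2, z3, z4]; simp
      · show (act c.e (c.hh l * x * (c.hh l)⁻¹) ((0, 0, k) : F × F × C)).2.2 = _
        rw [hconj x hx, mul_zero, z2, add_zero]
    have hKp : IsPGroup p K := by
      rintro ⟨g, hg⟩
      refine ⟨3, Subtype.ext ?_⟩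
      show g ^ p ^ 3 = 1
      obtain ⟨hgs, x, hx, g3⟩ := hg
      have hn : ∀ n : ℕ, ∀ k, c.th (g ^ n) k = c.th (x ^ n) k := by
        intro n
        induction n with
        | zero => intro k; simp
        | succ n ih =>
          intro k
          rw [pow_succ, pow_succ, c.th_mul (c.stab.pow_mem hgs n) hgs,
            c.th_mul (c.stab.pow_mem (hXs hx) n) (hXs hx), g3, ih]
      have hhs : g ^ p ∈ c.stab := c.stab.pow_mem hgs p
      have hp2 : (g ^ p) ^ p ∈ A := by
        refine c.mem_A_of (P.pow_mem hhs.1 p) (fun w hw => ?_) (c.stab.pow_mem hhs p).2.1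
        have e0 : c.th (g ^ p) w.2.2 = w.2.2 := by
          rw [hn, hXm.expA x hx, c.th_one]
        rw [c.act_pow hhs.1 (d := ((act c.e (g ^ p) ((0, 0, w.2.2) : F × F × C)).1, 0, 0)) ?_
          (hhs.2.2 _), c.p_smul, add_zero]
        rw [c.act_stab hhs hw, e0]
        refine Prod.ext ?_ (Prod.ext ?_ ?_) <;> simp [hw]
      have := c.hA.expA _ hp2
      rwa [← pow_mul, ← pow_mul, show p * (p * p) = p ^ 3 by ring] at this
    have hcomm := c.base.commute c.hAP c.hA (Nat.card ↥(Y ⊔ X)) Y X le_rfl hYm hX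
      (hKp.to_le (sup_le hYK hXK))
    obtain ⟨hE1, hE2, -⟩ := elem_sup hA1 hA2 (c.base.mem_minOff c.hAP c.hA hYm).commA
      (c.base.mem_minOff c.hAP c.hA hYm).expA (fun d hd y hy' => by
        obtain ⟨a, ha, x, hx, rfl⟩ := hA3 d hd
        rw [mul_assoc, ← hcomm y hy' x hx, ← mul_assoc, ← hYA y hy' a ha, mul_assoc])
    have hDP : D ≤ P := sup_le c.hAP hXP
    have hbig := c.base.bound (B := D ⊔ Y) (sup_le hDP hYP) hE1 hE2
    -- `Y` fixes what `A` and `X` fix
    have hfix : V ⊓ centralizer (D : Set G) ≤ V ⊓ centralizer ((D ⊔ Y : Subgroup G) : Set G) := by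
      intro v hv
      refine ⟨hv.1, ?_⟩
      rw [Cfsg.Agent.H34.centralizer_sup_eq]
      refine ⟨hv.2, ?_⟩
      obtain ⟨⟨a, y, k⟩, rfl⟩ : ∃ w, vec c.e w = v := ⟨_, vec_e c.e ⟨v, hv.1⟩⟩
      have h3 := (vec_mem_fixed c.e (hDP.trans hPV) _).1 hv
      have hy0 : y = 0 := (c.fixedA _).1 fun b hb => h3 b (mem_sup_left hb)
      subst hy0
      refine ((vec_mem_fixed c.e (hYP.trans hPV) _).2 ?_).2
      rintro _ ⟨x, hx, rfl⟩
      show act c.e (c.hh l * x * (c.hh l)⁻¹) _ = _
      have h4 := h3 x (mem_sup_right hx)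
      rw [hform x hx] at h4
      rw [hconj x hx, mul_zero]
      have e1 : al x 0 = 0 := congrArg Prod.fst (act_zero c.e (hPV (hXP hx)))
      rw [e1, add_zero] at h4
      simp only [Prod.mk.injEq, add_eq_left] at h4
      rw [e1, mul_zero, add_zero, h4.1, mul_zero, add_zero, h4.2.2]
    have hcardD : Nat.card A * Nat.card X ≤ Nat.card D := by
      have h1 := Cfsg.Agent.H34.card_mul_card_le A X
      have h2 : A ⊓ X = ⊥ := le_bot_iff.1 fun a ha => by
        by_contra h1'
        exact hne (c.base.ti c.hAP c.hA hXP hXm ha.1 ha.2 (fun e => h1' (by rw [e]; exact one_mem _))).symm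
      rwa [h2, card_bot, mul_one] at h1
    have hDY : Y ≤ D := by
      have hle := c.base.pair_top c.hAP c.hA c.memA hX (Ne.symm hne) (fun a ha b hb => (hc b hb a ha).symm)
      have k2 := Cfsg.Agent.H34.card_mul_card_le (V ⊓ centralizer (A : Set G)) (V ⊓ centralizer (X : Set G))
      have k3 : (V ⊓ centralizer (A : Set G)) ⊓ (V ⊓ centralizer (X : Set G)) ≤
          V ⊓ centralizer (D : Set G) := by
        rw [hD, Cfsg.Agent.H34.centralizer_sup_eq]
        exact fun v hv => ⟨hv.1.1, hv.1.2, hv.2.2⟩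
      have k4 : (V ⊓ centralizer (A : Set G)) ⊔ (V ⊓ centralizer (X : Set G)) ≤ V :=
        sup_le inf_le_left inf_le_left
      have eA := c.base.card_eq c.hAP c.hA
      have eX := c.base.card_eq hXP hXm
      refine le_trans le_sup_right (eq_of_le_of_card_ge (le_sup_left : D ≤ D ⊔ Y) ?_).ge
      refine Nat.le_of_mul_le_mul_right (c := Nat.card ↥(V ⊓ centralizer (D : Set G)) * Nat.card V) ?_
        (Nat.mul_pos Nat.card_pos Nat.card_pos)
      calc Nat.card ↥(D ⊔ Y) * (Nat.card ↥(V ⊓ centralizer (D : Set G)) * Nat.card V)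
          ≤ (Nat.card ↥(D ⊔ Y) * Nat.card ↥(V ⊓ centralizer ((D ⊔ Y : Subgroup G) : Set G))) * Nat.card V := by
            rw [← mul_assoc]; exact Nat.mul_le_mul_right _ (Nat.mul_le_mul_left _ (card_le_of_le hfix))
        _ ≤ Nat.card V * Nat.card V := Nat.mul_le_mul_right _ hbig
        _ = (Nat.card A * Nat.card X) * (Nat.card ↥(V ⊓ centralizer (A : Set G)) *
              Nat.card ↥(V ⊓ centralizer (X : Set G))) := by
            conv_lhs => arg 1; rw [eA]
            rw [eX]; ring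
        _ ≤ Nat.card D * (Nat.card V * Nat.card ↥(V ⊓ centralizer (D : Set G))) :=
            Nat.mul_le_mul hcardD (k2.trans (Nat.mul_le_mul (card_le_of_le k4) (card_le_of_le k3)))
        _ = _ := by ring
    intro x hx
    obtain ⟨a, ha, x', hx', e'⟩ := hA3 _ (hDY (conj_mem_cj hx))
    obtain ⟨t, rfl⟩ := c.up_all a ha
    exact ⟨t, x', hx', e'⟩
  have hrel : ∀ l : Fˣ, ∀ x ∈ X, ∃ t, ∃ x' ∈ X,
      (∀ k, (l : F) * de x k = de x' k) ∧ (∀ k, th x k = th x' k) ∧
      (∀ y, (l : F) * al x ((l : F) * y) = al x' y + t * y) ∧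
      ∀ y, ga x ((l : F) * y) = ga x' y + c.G0 (c.r t * y) := by
    intro l x hx
    obtain ⟨t, x', hx', e'⟩ := hXl l x hx
    have key : ∀ y k, act c.e (c.hh l * x * (c.hh l)⁻¹) ((0, y, k) : F × F × C) =
        act c.e (c.up t * x') ((0, y, k) : F × F × C) := fun y k => by rw [e']
    have hkey : ∀ y k, (l : F) * al x ((l : F) * y) + (l : F) * de x k = al x' y + de x' k + t * y ∧
        th x k + ga x ((l : F) * y) = th x' k + ga x' y + c.G0 (c.r t * y) := by
      intro y k
      have h1 := key y k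
      rw [act_conj c.e (hPV (c.hhP l)) (hPV (hXP hx)), c.act_hh_inv, hform x hx, c.act_hh,
        act_mul c.e (hPV (c.upP t)) (hPV (hXP hx')), hform x' hx', c.act_up] at h1
      simp only [mul_zero, zero_add, Prod.mk.injEq] at h1
      exact ⟨by rw [← h1.1]; ring, h1.2.2⟩
    have hal0 : ∀ g ∈ X, al g 0 = 0 := fun g hg => congrArg Prod.fst (act_zero c.e (hPV (hXP hg)))
    have hga0 : ∀ g ∈ X, ga g 0 = 0 := fun g hg =>
      congrArg (fun z : F × F × C => z.2.2) (act_zero c.e (hPV (hXP hg)))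
    have hde0 : ∀ g ∈ X, de g 0 = 0 := fun g hg => congrArg Prod.fst (act_zero c.e (hPV (hXP hg)))
    have hth0 : ∀ g ∈ X, th g 0 = 0 := fun g hg =>
      congrArg (fun z : F × F × C => z.2.2) (act_zero c.e (hPV (hXP hg)))
    refine ⟨t, x', hx', fun k => ?_, fun k => ?_, fun y => ?_, fun y => ?_⟩
    · simpa [hal0 x hx, hal0 x' hx'] using (hkey 0 k).1
    · simpa [hga0 x hx, hga0 x' hx'] using (hkey 0 k).2
    · simpa [hde0 x hx, hde0 x' hx'] using (hkey y 0).1
    · simpa [hth0 x hx, hth0 x' hx'] using (hkey y 0).2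
  have hXs : X ≤ c.stab := fun x hx => ⟨hXP hx, hy x hx, (hax x hx).1⟩
  -- an element of `X` fixing `C_V(A)` is trivial
  have huniq : ∀ x ∈ X, (∀ k, de x k = 0) → (∀ k, th x k = k) → x = 1 := by
    intro x hx hd ht
    by_contra h1
    refine hne (c.base.ti c.hAP c.hA hXP hXm (c.mem_A_of (hXP hx) (fun w hw => ?_) (hy x hx)) hx h1).symm
    rw [c.act_stab (hXs hx) hw]
    refine Prod.ext ?_ (Prod.ext ?_ ?_)
    · show w.1 + de x w.2.2 = w.1
      rw [hd, add_zero]
    · exact hw.symm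
    · exact ht _
  have hde_mul : ∀ g ∈ c.stab, ∀ g' ∈ c.stab, ∀ k,
      de (g * g') k = de g' k + de g (c.th g' k) := by
    intro g hg g' hg' k
    show (act c.e (g * g') ((0, 0, k) : F × F × C)).1 = _
    rw [act_mul c.e (hPV hg.1) (hPV hg'.1), c.act_stab hg (by rw [hg'.2.1])]
    rfl
  have hdiff : ∀ x ∈ X, ∀ x' ∈ X, (∀ k, de x k = de x' k) → (∀ k, th x k = th x' k) → x = x' := by
    intro x hx x' hx' hd ht
    have hi := c.stab.inv_mem (hXs hx')
    refine inv_mul_eq_one.1 (huniq _ (X.mul_mem (X.inv_mem hx') hx) (fun k => ?_) fun k => ?_) |>.symm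
    · have := hde_mul x'⁻¹ hi x' (hXs hx') k
      rw [inv_mul_cancel] at this
      rw [hde_mul _ hi _ (hXs hx), hd, show c.th x k = c.th x' k from ht k, ← this]
      exact congrArg Prod.fst (act_one c.e _)
    · show c.th (x'⁻¹ * x) k = k
      rw [c.th_mul hi (hXs hx), show c.th x k = c.th x' k from ht k, ← c.th_mul hi (hXs hx'),
        inv_mul_cancel, c.th_one]
  by_cases hδ : ∀ x ∈ X, ∀ k, de x k = 0
  · -- `X` commutes with `A`, the torus and the Weyl element
    have hal : ∀ x ∈ X, ∀ y, al x y = 0 := fun x hx y => by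
      obtain ⟨k, hk⟩ := htop y
      simpa [hδ x hx k] using (hk x hx).1
    obtain ⟨l, hl⟩ := c.exists_ne
    have hga : ∀ x ∈ X, ∀ y, ga x y = 0 := by
      intro x hx y
      obtain ⟨t, x', hx', h1, h2, h3, h4⟩ := hrel l x hx
      have e : x = x' := hdiff x hx x' hx' (fun k => by rw [hδ x hx, hδ x' hx']) h2
      subst e
      have ht : t = 0 := by
        have := h3 1
        rw [hal x hx, hal x hx, mul_zero, mul_one, zero_add] at this
        exact this.symm
      obtain ⟨y', rfl⟩ : ∃ y', ((l : F) - 1) * y' = y :=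
        ⟨y / ((l : F) - 1), mul_div_cancel₀ _ (sub_ne_zero.2 hl)⟩
      have e1 := h4 y'
      rw [ht, map_zero, zero_mul, map_zero, add_zero] at e1
      have e2 := hga_add x hx (((l : F) - 1) * y') y'
      rw [show ((l : F) - 1) * y' + y' = (l : F) * y' by ring, e1, right_eq_add] at e2
      exact e2
    intro x hx g hg
    have hxP := hXP hx
    have hf : ∀ a y k, act c.e x ((a, y, k) : F × F × C) = (a, y, th x k) := fun a y k => by
      rw [hform x hx, hal x hx, hδ x hx, hga x hx]; simp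
    have hth0 : ∀ k k', th x (k + k') = th x k + th x k' := fun k k' => by
      have := act_add c.e (hPV hxP) ((0, 0, k) : F × F × C) (0, 0, k')
      rw [Prod.mk_add_mk, Prod.mk_add_mk, hf, hf, hf] at this
      simpa using this
    have hG : ∀ w, th x (c.G0 w) = c.G0 w := fun w => by
      have := (hax x hx).2 w
      rw [hf] at this
      simpa using this
    have hle : L ≤ centralizer ({x} : Set G) := by
      rw [← c.gen_ww]
      have hA : A ≤ centralizer ({x} : Set G) := fun a ha => mem_cent_singleton (hc x hx a ha).symm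
      have hw : c.ww ∈ centralizer ({x} : Set G) := mem_cent_singleton
        (c.ext (P.mul_mem c.wwP hxP) (P.mul_mem hxP c.wwP) fun w => by
          obtain ⟨a, y, k⟩ := w
          rw [act_mul c.e (hPV c.wwP) (hPV hxP), act_mul c.e (hPV hxP) (hPV c.wwP), hf, c.act_ww,
            c.act_ww, hf])
      exact sup_le hA (cj_le hw hA)
    exact (mem_centralizer_singleton_iff.1 (hle hg)).symm
  exfalso
  push Not at hδ
  obtain ⟨x₁, hx₁, k₁, hk₁⟩ := hδ
  obtain ⟨l, hl⟩ := c.exists_ne
  -- an element acting trivially on the third component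
  obtain ⟨d, hd, k₂, hdk, hdth⟩ : ∃ d ∈ X, ∃ k, de d k ≠ 0 ∧ ∀ k, th d k = k := by
    obtain ⟨t, x', hx', h1, h2, -, -⟩ := hrel l x₁ hx₁
    have hi := c.stab.inv_mem (hXs hx₁)
    have hthd : ∀ k, c.th (x' * x₁⁻¹) k = k := fun k => by
      rw [c.th_mul (hXs hx') hi, show c.th x' (c.th x₁⁻¹ k) = c.th x₁ (c.th x₁⁻¹ k) from (h2 _).symm,
        ← c.th_mul (hXs hx₁) hi, mul_inv_cancel, c.th_one]
    refine ⟨x' * x₁⁻¹, X.mul_mem hx' (X.inv_mem hx₁), th x₁ k₁, fun h0 => ?_, hthd⟩
    have e1 := hde_mul _ (hXs (X.mul_mem hx' (X.inv_mem hx₁))) _ (hXs hx₁) k₁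
    rw [inv_mul_cancel_right, show de (x' * x₁⁻¹) (c.th x₁ k₁) = 0 from h0, add_zero, ← h1] at e1
    exact hl ((mul_eq_right₀ hk₁).1 e1)
  -- its torus conjugates exhaust `X`
  have hsurj : ∀ m : Fˣ, ∃ x' ∈ X, (∀ k, de x' k = (m : F) * de d k) ∧ ∀ k, th x' k = k := fun m => by
    obtain ⟨t, x', hx', h1, h2, -, -⟩ := hrel m d hd
    exact ⟨x', hx', fun k => (h1 k).symm, fun k => (h2 k).symm.trans (hdth k)⟩
  choose xm hxm1 hxm2 hxm3 using hsurj
  have hth : ∀ x ∈ X, ∀ k, th x k = k := by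
    let f : F → ↥X := fun m => if hm : m = 0 then 1 else ⟨xm (Units.mk0 m hm), hxm1 _⟩
    have hde1 : de (1 : G) k₂ = 0 := congrArg Prod.fst (act_one c.e _)
    have hfde : ∀ m, de (f m : G) k₂ = m * de d k₂ := fun m => by
      by_cases hm : m = 0
      · subst hm; simp [f, hde1]
      · simp only [f, dif_neg hm, hxm2]; rfl
    have hf : Function.Bijective f := by
      rw [Nat.bijective_iff_injective_and_card]
      refine ⟨fun a b hab => ?_, ?_⟩
      · have := hfde a
        rw [hab, hfde b] at this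
        exact (mul_right_cancel₀ hdk this).symm
      · rw [Nat.card_eq_fintype_card, c.card_F, mem_card c.hAP c.hA hX]
    intro x hx k
    obtain ⟨m, hm⟩ := hf.2 ⟨x, hx⟩
    have e : (f m : G) = x := congrArg (fun x : ↥X => (x : G)) hm
    rw [← e]
    by_cases hm0 : m = 0
    · simp only [f, dif_pos hm0, OneMemClass.coe_one]; exact c.th_one k
    · simp only [f, dif_neg hm0]; exact hxm3 _ k
  have hga : ∀ x ∈ X, ∀ y, ga x y = 0 := fun x hx y => by
    obtain ⟨k, hk⟩ := htop y
    have := (hk x hx).2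
    rwa [hth x hx, add_eq_left] at this
  -- the graph is linear
  have hal : ∀ (m : Fˣ) y, al (xm m) y = (m : F) * al d y := by
    intro m y
    obtain ⟨k, hk⟩ := htop y
    have e1 := (hk d hd).1
    have e2 := (hk _ (hxm1 m)).1
    rw [hxm2] at e2
    linear_combination e2 - (m : F) * e1
  have hrel' : ∀ m : Fˣ, ∃ t : F, (∀ y, (m : F) * al d ((m : F) * y) = (m : F) * al d y + t * y) ∧
      ∀ y, c.G0 (c.r t * y) = 0 := by
    intro m
    obtain ⟨t, x', hx', h1, h2, h3, h4⟩ := hrel m d hd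
    have e : x' = xm m := hdiff x' hx' _ (hxm1 m) (fun k => by rw [hxm2, ← h1])
      (fun k => by rw [hth x' hx', hxm3])
    subst e
    refine ⟨t, fun y => by rw [h3, hal], fun y => ?_⟩
    have := h4 y
    rwa [hga d hd, hga _ hx', zero_add, eq_comm] at this
  set f0 := al d 1 with hf0
  have hlin : ∀ y, al d y = f0 * y := by
    have hB : ∀ (m : Fˣ) y, al d ((m : F) * y) - f0 * ((m : F) * y) - (al d y - f0 * y) =
        (al d (m : F) - f0 * (m : F)) * y := by
      intro m y
      obtain ⟨t, ht, -⟩ := hrel' m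
      have e1 := ht 1
      rw [mul_one, mul_one, ← hf0] at e1
      have e2 := ht y
      refine mul_left_cancel₀ m.ne_zero ?_
      linear_combination e2 - y * e1
    let al' : F → F := fun y => al d y - f0 * y
    have hadd : ∀ a b, al' (a + b) = al' a + al' b := fun a b => by
      simp only [al', hal_add d hd]; ring
    have h1 : al' 1 = 0 := by simp [al', hf0]
    set K := al' (l : F) / (1 - (l : F))
    have hval : ∀ m : Fˣ, al' (m : F) = K * (1 - (m : F)) := by
      intro m
      have hl' : (1 : F) - l ≠ 0 := sub_ne_zero.2 (Ne.symm hl)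
      have e1 := hB l (m : F)
      have e2 := hB m (l : F)
      rw [mul_comm (m : F) (l : F)] at e2
      show al d (m : F) - f0 * (m : F) = (al d (l : F) - f0 * (l : F)) / (1 - (l : F)) * (1 - (m : F))
      rw [div_mul_eq_mul_div, eq_div_iff hl']
      linear_combination e2 - e1
    have hK : K = 0 := by
      have hm : ((l : F) - 1) ≠ 0 := sub_ne_zero.2 hl
      have e1 := hadd ((l : F) - 1) 1
      rw [sub_add_cancel, h1, add_zero, hval l,
        show al' ((l : F) - 1) = _ from hval (Units.mk0 _ hm)] at e1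
      simp only [Units.val_mk0] at e1
      linear_combination -e1
    intro y
    by_cases hy0 : y = 0
    · subst hy0
      rw [mul_zero]
      exact congrArg Prod.fst (act_zero c.e (hPV (hXP hd)))
    · have := hval (Units.mk0 y hy0)
      rw [hK, zero_mul, Units.val_mk0] at this
      exact sub_eq_zero.1 this
  have hG0f : ∀ y, c.G0 (c.r f0 * y) = 0 := by
    intro y
    by_cases hf : f0 = 0
    · simp [hf]
    obtain ⟨t, ht, hG⟩ := hrel' l
    have e1 := ht 1
    rw [mul_one, hlin (l : F), hlin 1, mul_one, mul_one] at e1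
    have ht0 : t ≠ 0 := by
      intro h0
      rw [h0, add_zero] at e1
      exact hl ((mul_eq_left₀ hf).1 (mul_left_cancel₀ l.ne_zero e1))
    have hrt : c.r t ≠ 0 := fun h' => ht0 (c.r.injective (h'.trans (map_zero _).symm))
    have := hG (c.r f0 * y / c.r t)
    rwa [mul_div_cancel₀ _ hrt] at this
  set u := d * c.up (-f0) with hu
  have huP : u ∈ P := P.mul_mem (hXP hd) (c.upP _)
  have huact : ∀ a y k, act c.e u ((a, y, k) : F × F × C) = (a + de d k, y, k) := by
    intro a y k
    rw [hu, act_mul c.e (hPV (hXP hd)) (hPV (c.upP _)), c.act_up, hform d hd]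
    have e1 : c.G0 (c.r (-f0) * y) = 0 := by
      rw [map_neg, neg_mul, map_neg, hG0f, neg_zero]
    simp only [e1, add_zero, hth d hd, hga d hd, hlin]
    refine Prod.ext ?_ rfl
    show a + -f0 * y + f0 * y + de d k = a + de d k
    ring
  -- the group of maps `(a + l δ k, y + m δ k, k)`
  let Q : Subgroup G :=
    { carrier := {g | g ∈ P ∧ ∃ i j : F, ∀ a y k,
        act c.e g ((a, y, k) : F × F × C) = (a + i * de d k, y + j * de d k, k)}
      one_mem' := ⟨P.one_mem, 0, 0, fun a y k => by rw [act_one]; simp⟩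
      mul_mem' := by
        rintro g g' ⟨hg, i, j, h1⟩ ⟨hg', i', j', h2⟩
        refine ⟨P.mul_mem hg hg', i + i', j + j', fun a y k => ?_⟩
        rw [act_mul c.e (hPV hg) (hPV hg'), h2, h1]
        refine Prod.ext ?_ (Prod.ext ?_ rfl)
        · show a + i' * de d k + i * de d k = a + (i + i') * de d k
          ring
        · show y + j' * de d k + j * de d k = y + (j + j') * de d k
          ring
      inv_mem' := by
        rintro g ⟨hg, i, j, h1⟩
        refine ⟨P.inv_mem hg, -i, -j, fun a y k => ?_⟩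
        have h3 := act_inv_act c.e (hPV hg) ((a - i * de d k, y - j * de d k, k) : F × F × C)
        rw [h1, sub_add_cancel, sub_add_cancel] at h3
        rw [h3, neg_mul, neg_mul, sub_eq_add_neg, sub_eq_add_neg] }
  have hQmem : ∀ g, g ∈ Q ↔ g ∈ P ∧ ∃ i j : F, ∀ a y k,
      act c.e g ((a, y, k) : F × F × C) = (a + i * de d k, y + j * de d k, k) := fun g => Iff.rfl
  have hex : ∀ i j : F, ∃ g ∈ Q, ∀ a y k,
      act c.e g ((a, y, k) : F × F × C) = (a + i * de d k, y + j * de d k, k) := by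
    have h1 : ∀ i : F, ∃ g ∈ Q, ∀ a y k,
        act c.e g ((a, y, k) : F × F × C) = (a + i * de d k, y, k) := by
      intro i
      by_cases hi : i = 0
      · exact ⟨1, Q.one_mem, fun a y k => by simp [act_one, hi]⟩
      · have hact : ∀ a y k, act c.e (c.hh (Units.mk0 i hi) * u * (c.hh (Units.mk0 i hi))⁻¹)
            ((a, y, k) : F × F × C) = (a + i * de d k, y, k) := fun a y k => by
          rw [act_conj c.e (hPV (c.hhP _)) (hPV huP), c.act_hh_inv, huact, c.act_hh]
          simp [mul_add, hi]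
        exact ⟨_, (hQmem _).2 ⟨P.mul_mem (P.mul_mem (c.hhP _) huP) (P.inv_mem (c.hhP _)), i, 0,
          fun a y k => by rw [hact, zero_mul, add_zero]⟩, hact⟩
    intro i j
    obtain ⟨g, hg, hga'⟩ := h1 i
    obtain ⟨g', hg', hga''⟩ := h1 (-j)
    have hw : ∀ a y k, act c.e (c.ww * g' * c.ww⁻¹) ((a, y, k) : F × F × C) = (a, y + j * de d k, k) :=
      fun a y k => by
        rw [act_conj c.e (hPV c.wwP) (hPV ((hQmem _).1 hg').1), c.act_ww_inv, hga'', c.act_ww]
        simp [add_comm]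
    have hwQ : c.ww * g' * c.ww⁻¹ ∈ Q := (hQmem _).2
      ⟨P.mul_mem (P.mul_mem c.wwP ((hQmem _).1 hg').1) (P.inv_mem c.wwP), 0, j,
        fun a y k => by rw [hw, zero_mul, add_zero]⟩
    refine ⟨_, Q.mul_mem hg hwQ, fun a y k => ?_⟩
    rw [act_mul c.e (hPV ((hQmem _).1 hg).1) (hPV ((hQmem _).1 hwQ).1), hw, hga']
  choose qf hqf1 hqf2 using hex
  have hb := c.base.bound (B := Q) (fun g hg => hg.1) (by
      rintro g ⟨hg, i, j, h1⟩ g' ⟨hg', i', j', h2⟩
      refine c.ext (P.mul_mem hg hg') (P.mul_mem hg' hg) fun w => ?_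
      obtain ⟨a, y, k⟩ := w
      rw [act_mul c.e (hPV hg) (hPV hg'), act_mul c.e (hPV hg') (hPV hg), h2, h1, h1, h2]
      refine Prod.ext ?_ (Prod.ext ?_ rfl) <;> simp only <;> ring) (by
      rintro g ⟨hg, i, j, h1⟩
      refine c.ext (P.pow_mem hg p) P.one_mem fun w => ?_
      obtain ⟨a, y, k⟩ := w
      have hde0 : de d 0 = 0 := congrArg Prod.fst (act_zero c.e (hPV (hXP hd)))
      rw [c.act_pow hg (d := ((i * de d k, j * de d k, 0) : F × F × C)) (by simp [h1])
        (by rw [h1, hde0]; simp), c.p_smul, add_zero, act_one])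
  -- too large
  let δh : C →+ F := AddMonoidHom.mk' (de d) (hde_add d hd)
  have hker : Nat.card C ≤ Nat.card F * Nat.card δh.ker := by
    haveI : Finite C := Finite.of_injective (fun k => c.e.symm ((0, 0, k) : F × F × C))
      (fun a b h => by simpa using c.e.symm.injective h)
    rw [mul_comm, ← δh.ker.index_mul_card, mul_comm]
    refine Nat.mul_le_mul_left _ ?_
    rw [AddSubgroup.index_ker]
    exact Nat.card_le_card_of_injective _ Subtype.val_injective
  have hQc : Nat.card F * Nat.card F ≤ Nat.card Q := by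
    rw [← Nat.card_prod]
    refine Nat.card_le_card_of_injective (fun ij : F × F => (⟨qf ij.1 ij.2, hqf1 _ _⟩ : ↥Q)) ?_
    rintro ⟨i, j⟩ ⟨i', j'⟩ h'
    have e1 := congrArg (fun g : ↥Q => act c.e (g : G) ((0, 0, k₂) : F × F × C)) h'
    simp only [hqf2, Prod.mk.injEq, zero_add] at e1
    exact Prod.ext (mul_right_cancel₀ hdk e1.1) (mul_right_cancel₀ hdk e1.2.1)
  haveI : Finite C := Finite.of_injective (fun k => c.e.symm ((0, 0, k) : F × F × C))
    (fun a b h => by simpa using c.e.symm.injective h)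
  have hQf : Nat.card F * Nat.card F * Nat.card δh.ker ≤ Nat.card ↥(V ⊓ centralizer (Q : Set G)) := by
    rw [card_fixed c.e (fun g (hg : g ∈ Q) => hPV hg.1), ← Nat.card_prod, ← Nat.card_prod]
    refine Nat.card_le_card_of_injective (fun q : (F × F) × δh.ker =>
      (⟨(q.1.1, q.1.2, q.2.1), ?_⟩ : {w : F × F × C // ∀ x ∈ Q, act c.e x w = w})) ?_
    · rintro g ⟨hg, i, j, h1⟩
      rw [h1, show de d q.2.1 = 0 from q.2.2]; simp
    · rintro ⟨⟨a, y⟩, k⟩ ⟨⟨a', y'⟩, k'⟩ h'
      simp only [Subtype.mk.injEq, Prod.mk.injEq] at h'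
      obtain ⟨rfl, rfl, hkk⟩ := h'
      exact Prod.ext rfl (Subtype.ext hkk)
  have hV : Nat.card V = Nat.card F * (Nat.card F * Nat.card C) := by
    rw [← Nat.card_prod F C, ← Nat.card_prod]
    exact Nat.card_congr (Additive.ofMul.trans c.e.toEquiv)
  have hpos : 0 < Nat.card δh.ker := Nat.card_pos
  have hq3 : 3 ≤ Nat.card F := by rw [Nat.card_eq_fintype_card]; exact c.hq
  have h1 := (Nat.mul_le_mul hQc hQf).trans hb
  rw [hV] at h1
  have h2 : Nat.card F * (Nat.card F * Nat.card C) ≤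
      Nat.card F * (Nat.card F * (Nat.card F * Nat.card δh.ker)) :=
    Nat.mul_le_mul_left _ (Nat.mul_le_mul_left _ hker)
  have h3 : Nat.card F * (Nat.card F * Nat.card F * Nat.card δh.ker) ≤
      1 * (Nat.card F * Nat.card F * Nat.card δh.ker) := by
    refine Nat.le_of_mul_le_mul_left ?_ (show 0 < Nat.card F by omega)
    calc Nat.card F * (Nat.card F * (Nat.card F * Nat.card F * Nat.card δh.ker))
        = Nat.card F * Nat.card F * (Nat.card F * Nat.card F * Nat.card δh.ker) := by ring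
      _ ≤ Nat.card F * (Nat.card F * (Nat.card F * Nat.card δh.ker)) := h1.trans h2
      _ = Nat.card F * (1 * (Nat.card F * Nat.card F * Nat.card δh.ker)) := by ring
  have := Nat.le_of_mul_le_mul_right h3 (by positivity)
  omega

end Cfsg.Agent.H34.Para
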