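import Cfsg.Agent.H34.Para.Members
import Cfsg.Agent.H34.MinOffender.SL2
import Mathlib

/-!
Coordinates for a subgroup generated by two members of the class of a minimal offender.
-/

set_option autoImplicit false
set_option linter.style.haveILetI false
set_option maxHeartbeats 1000000

namespace Cfsg.Agent.H34.Para

open Subgroup
open Cfsg.Agent.H34.MinOffender
open scoped commutatorElement Matrix IsMulCommutative

universe u

variable {G : Type u} [Group G] {V : Subgroup G} {W : Type*} [AddCommGroup W]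

open Classical in
/-- The action of `g` in coordinates. -/
noncomputable def act (e : Additive ↥V ≃+ W) (g : G) (w : W) : W :=
  if hg : g ∈ normalizer (V : Set G) then
    e (Additive.ofMul ⟨g * (Additive.toMul (e.symm w) : ↥V) * g⁻¹,
      Cfsg.Agent.H34.conj_mem_of_mem_normalizer hg (Additive.toMul (e.symm w)).2⟩)
  else w

section act

variable (e : Additive ↥V ≃+ W) {g k : G}

/-- The vector with given coordinates, as a group element. -/
noncomputable def vec (w : W) : G := ((Additive.toMul (e.symm w) : ↥V) : G)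

theorem vec_mem (w : W) : vec e w ∈ V := (Additive.toMul (e.symm w)).2

theorem vec_e (v : ↥V) : vec e (e (Additive.ofMul v)) = v := by simp [vec]

theorem vec_inj {w w' : W} (h : vec e w = vec e w') : w = w' :=
  e.symm.injective (Additive.toMul.injective (Subtype.ext h))

theorem vec_add (w w' : W) : vec e (w + w') = vec e w * vec e w' := by simp [vec]

theorem vec_act (hg : g ∈ normalizer (V : Set G)) (w : W) : vec e (act e g w) = g * vec e w * g⁻¹ := by
  simp [act, hg, vec]

theorem act_one (w : W) : act e 1 w = w :=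
  vec_inj e (by rw [vec_act e (one_mem _)]; simp)

theorem act_mul (hg : g ∈ normalizer (V : Set G)) (hk : k ∈ normalizer (V : Set G)) (w : W) :
    act e (g * k) w = act e g (act e k w) :=
  vec_inj e (by rw [vec_act e (mul_mem hg hk), vec_act e hg, vec_act e hk]; group)

theorem act_add (hg : g ∈ normalizer (V : Set G)) (w w' : W) :
    act e g (w + w') = act e g w + act e g w' :=
  vec_inj e (by simp only [vec_act e hg, vec_add]; group)

theorem act_inv_act (hg : g ∈ normalizer (V : Set G)) (w : W) : act e g⁻¹ (act e g w) = w := by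
  rw [← act_mul e (inv_mem hg) hg, inv_mul_cancel, act_one]

theorem act_act_inv (hg : g ∈ normalizer (V : Set G)) (w : W) : act e g (act e g⁻¹ w) = w := by
  rw [← act_mul e hg (inv_mem hg), mul_inv_cancel, act_one]

theorem act_conj (hg : g ∈ normalizer (V : Set G)) (hk : k ∈ normalizer (V : Set G)) (w : W) :
    act e (g * k * g⁻¹) w = act e g (act e k (act e g⁻¹ w)) := by
  rw [act_mul e (mul_mem hg hk) (inv_mem hg), act_mul e hg hk]

/-- The action as an additive map. -/
noncomputable def actHom (hg : g ∈ normalizer (V : Set G)) : W →+ W :=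
  AddMonoidHom.mk' (act e g) (act_add e hg)

theorem act_zero (hg : g ∈ normalizer (V : Set G)) : act e g 0 = 0 := map_zero (actHom e hg)

theorem act_neg (hg : g ∈ normalizer (V : Set G)) (w : W) : act e g (-w) = -act e g w :=
  map_neg (actHom e hg) w

theorem act_sub (hg : g ∈ normalizer (V : Set G)) (w w' : W) :
    act e g (w - w') = act e g w - act e g w' :=
  map_sub (actHom e hg) w w'

theorem act_eq_iff_commute (hg : g ∈ normalizer (V : Set G)) (w : W) :
    act e g w = w ↔ g * vec e w = vec e w * g := by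
  constructor
  · intro h
    conv_rhs => rw [← h, vec_act e hg]
    group
  · intro h
    exact vec_inj e (by rw [vec_act e hg, h, mul_inv_cancel_right])

/-- Elements with the same action are equal. -/
theorem act_inj {P : Subgroup G} (hPV : P ≤ normalizer (V : Set G))
    (hf : P ⊓ centralizer (V : Set G) = ⊥) (hg : g ∈ P) (hk : k ∈ P)
    (h : ∀ w, act e g w = act e k w) : g = k := by
  have hmem : k⁻¹ * g ∈ P ⊓ centralizer (V : Set G) := by
    refine ⟨P.mul_mem (P.inv_mem hk) hg, mem_centralizer_iff.2 fun v hv => ?_⟩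
    have e1 := (act_eq_iff_commute e (mul_mem (inv_mem (hPV hk)) (hPV hg)) (e (Additive.ofMul ⟨v, hv⟩))).1
      (by rw [act_mul e (inv_mem (hPV hk)) (hPV hg), h, act_inv_act e (hPV hk)])
    rw [vec_e] at e1
    exact e1.symm
  rw [hf, mem_bot, inv_mul_eq_one] at hmem
  exact hmem.symm

theorem vec_mem_fixed {X : Subgroup G} (hX : X ≤ normalizer (V : Set G)) (w : W) :
    vec e w ∈ V ⊓ centralizer (X : Set G) ↔ ∀ x ∈ X, act e x w = w :=
  ⟨fun h x hx => (act_eq_iff_commute e (hX hx) w).2 (mem_centralizer_iff.1 h.2 x hx),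
    fun h => ⟨vec_mem e w, mem_centralizer_iff.2 fun x hx => (act_eq_iff_commute e (hX hx) w).1 (h x hx)⟩⟩

theorem card_fixed {X : Subgroup G} (hX : X ≤ normalizer (V : Set G)) :
    Nat.card ↥(V ⊓ centralizer (X : Set G)) = Nat.card {w : W // ∀ x ∈ X, act e x w = w} := by
  refine (Nat.card_congr (Equiv.ofBijective
    (fun w : {w : W // ∀ x ∈ X, act e x w = w} =>
      (⟨vec e w.1, (vec_mem_fixed e hX w.1).2 w.2⟩ : ↥(V ⊓ centralizer (X : Set G)))) ⟨?_, ?_⟩)).symm
  · intro a b h
    exact Subtype.ext (vec_inj e (congrArg (fun x : ↥(V ⊓ centralizer (X : Set G)) => (x : G)) h))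
  · rintro ⟨v, hv⟩
    refine ⟨⟨e (Additive.ofMul ⟨v, hv.1⟩), (vec_mem_fixed e hX _).1 ?_⟩, Subtype.ext (vec_e e ⟨v, hv.1⟩)⟩
    rw [vec_e]; exact hv

end act

variable {p : ℕ} {P T M A L : Subgroup G}

/-- Coordinates on `V` adapted to the subgroup `L` generated by `A` and a second member. -/
structure Chart (p : ℕ) (V P T M A L : Subgroup G) (F : Type) (C : Type*) [Field F] [Fintype F]
    [AddCommGroup C] where
  base : FFP p V P T M
  hA : MinOff p V A
  hAT : A ≤ T
  hLP : L ≤ P
  hAL : A ≤ L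
  hLM : ¬ L ≤ M
  gen : ∀ x ∈ L, x ∉ M → A ⊔ cj x A = L
  hq : 3 ≤ Fintype.card F
  card_F : Fintype.card F = Nat.card ↥A
  e : Additive ↥V ≃+ F × F × C
  mem_U : ∀ w, vec e w ∈ V ⊓ centralizer (A : Set G) ↔ w.2.1 = 0
  mem_C : ∀ w, vec e w ∈ V ⊓ centralizer (L : Set G) ↔ w.1 = 0 ∧ w.2.1 = 0
  r : F ≃+* F
  G0 : F →+ C
  hr : G0 = 0 ∨ ((2 : F) = 0 ∧ ∀ t, r t * r t = t)
  up : F → G
  up_mem : ∀ t, up t ∈ A
  up_all : ∀ a ∈ A, ∃ t, a = up t
  act_up : ∀ t w, act e (up t) w = (w.1 + t * w.2.1, w.2.1, w.2.2 + G0 (r t * w.2.1))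
  hh : Fˣ → G
  hh_mem : ∀ l, hh l ∈ L
  act_hh : ∀ (l : Fˣ) w, act e (hh l) w = ((l : F) * w.1, (↑l⁻¹ : F) * w.2.1, w.2.2)
  ww : G
  ww_mem : ww ∈ L
  act_ww : ∀ w, act e ww w = (w.2.1, -w.1, w.2.2)
  gen_ww : A ⊔ cj ww A = L
  rho : ↥L ≃* Matrix.SpecialLinearGroup (Fin 2) F
  act_rho : ∀ (g : ↥L) w, ![(act e (g : G) w).1, (act e (g : G) w).2.1] =
    ((rho g : Matrix.SpecialLinearGroup (Fin 2) F) : Matrix (Fin 2) (Fin 2) F) *ᵥ ![w.1, w.2.1]

/-- A subgroup to which the theorem on minimal offenders applies has coordinates. -/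
theorem exists_chart [Finite G] [Fact p.Prime] (h : FFP p V P T M) {R : Subgroup G} (hA : MinOff p V A)
    (hAT : A ≤ T) (hLP : L ≤ P) (hLM : ¬ L ≤ M) (hB : Base p V L R (L ⊓ M) A)
    (hnormp : ∀ K ≤ L, (∀ g ∈ K, g ^ p = 1) → L ≤ normalizer (K : Set G) → K ≤ R)
    (hq : 3 ≤ Nat.card ↥A) :
    ∃ (F : Type) (_ : Field F) (_ : Fintype F) (C : Type u) (_ : AddCommGroup C),
      Nonempty (Chart p V P T M A L F C) := by
  classical
  obtain ⟨F, iF, iF', ρ, ψ, hcard, hψs, hψk, hψU, hup, hact⟩ := hB.main_explicit hnormp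
  haveI : IsMulCommutative ↥V := IsMulCommutative.of_comm fun a b => Subtype.ext (h.comm a a.2 b b.2)
  have hLV : L ≤ normalizer (V : Set G) := hLP.trans h.hPV
  -- additive versions
  let ψ₀ : Additive ↥V →+ (Fin 2 → F) := AddMonoidHom.mk'
    (fun v => Multiplicative.toAdd (ψ (Additive.toMul v))) (fun a b => by simp)
  let cv : ↥L → Additive ↥V →+ Additive ↥V := fun g => AddMonoidHom.mk'
    (fun v => Additive.ofMul ⟨(g : G) * (Additive.toMul v : ↥V) * (g : G)⁻¹,
      Cfsg.Agent.H34.conj_mem_of_mem_normalizer (hLV g.2) (Additive.toMul v).2⟩)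
    (fun a b => by
      apply Additive.toMul.injective
      apply Subtype.ext
      simp only [toMul_add, coe_mul, toMul_ofMul]
      group)
  have hcv_mul : ∀ g k v, cv (g * k) v = cv g (cv k v) := fun g k v => by
    apply Additive.toMul.injective
    apply Subtype.ext
    simp [cv, mul_assoc]
  have hψcv : ∀ g v, ψ₀ (cv g v) =
      ((ρ g : Matrix.SpecialLinearGroup (Fin 2) F) : Matrix (Fin 2) (Fin 2) F) *ᵥ ψ₀ v := by
    intro g v
    obtain ⟨w, hw, hw'⟩ := hact g (Additive.toMul v)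
    have : w = Additive.toMul (cv g v) := Subtype.ext hw
    rw [this] at hw'
    exact hw'
  have hfix : ∀ v : Additive ↥V, ψ₀ v = 0 ↔ ((Additive.toMul v : ↥V) : G) ∈ V ⊓ centralizer (L : Set G) :=
    fun v => by rw [← hψk]; rfl
  have hcvC : ∀ g v, ψ₀ v = 0 → cv g v = v := fun g v hv => by
    apply Additive.toMul.injective
    apply Subtype.ext
    show (g : G) * _ * (g : G)⁻¹ = _
    rw [mem_centralizer_iff.1 ((hfix v).1 hv).2 g g.2, mul_inv_cancel_right]
  -- the torus and the Weyl element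
  let dg : Fˣ → Matrix.SpecialLinearGroup (Fin 2) F :=
    fun l => ⟨!![(l : F), 0; 0, (↑l⁻¹ : F)], by simp [Matrix.det_fin_two]⟩
  have hdg_mul : ∀ a b, dg (a * b) = dg a * dg b := fun a b => by
    apply Subtype.ext
    rw [Matrix.SpecialLinearGroup.coe_mul]
    show !![((a * b : Fˣ) : F), 0; 0, (↑(a * b)⁻¹ : F)] =
      !![(a : F), 0; 0, (↑a⁻¹ : F)] * !![(b : F), 0; 0, (↑b⁻¹ : F)]
    simp [Matrix.mul_fin_two, mul_comm, mul_inv]
  let ω : Matrix.SpecialLinearGroup (Fin 2) F := ⟨!![0, 1; -1, 0], by simp [Matrix.det_fin_two]⟩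
  let hl : Fˣ → ↥L := fun l => ρ.symm (dg l)
  let wl : ↥L := ρ.symm ω
  have hψh : ∀ l v, ψ₀ (cv (hl l) v) = ![(l : F) * ψ₀ v 0, (↑l⁻¹ : F) * ψ₀ v 1] := fun l v => by
    rw [hψcv, show ρ (hl l) = dg l from ρ.apply_symm_apply _]
    funext i; fin_cases i <;> simp [dg, Matrix.mulVec, dotProduct, Fin.sum_univ_two]
  have hψw : ∀ v, ψ₀ (cv wl v) = ![ψ₀ v 1, -ψ₀ v 0] := fun v => by
    rw [hψcv, show ρ wl = ω from ρ.apply_symm_apply _]
    funext i; fin_cases i <;> simp [ω, Matrix.mulVec, dotProduct, Fin.sum_univ_two]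
  have hqF : 3 ≤ Fintype.card F := hcard ▸ hq
  have hp : ∀ x : F, p • x = 0 := by
    intro x
    obtain ⟨v, hv⟩ := hψs (Multiplicative.ofAdd ![x, 0])
    have h1 : p • Additive.ofMul v = 0 :=
      congrArg Additive.ofMul (Subtype.ext (h.expV _ v.2) : v ^ p = 1)
    have := congrArg (fun f => f 0) (congrArg ψ₀ h1)
    simp [ψ₀, hv] at this
    simpa using this
  have hpF : (p : F) = 0 := by simpa using hp 1
  haveI : CharP F p := (CharP.charP_iff_prime_eq_zero Fact.out).2 hpF
  -- the retraction on `C_V(L)`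
  let sm : Additive ↥V →+ Additive ↥V := -∑ l : Fˣ, cv (hl l)
  have hsum : ∀ v, sm v = -∑ l : Fˣ, cv (hl l) v := fun v => by simp [sm]
  have hq0 : (Fintype.card F : F) = 0 := Nat.cast_card_eq_zero F
  have hunits : ∑ l : Fˣ, (l : F) = 0 := by
    obtain ⟨m, hm⟩ : ∃ m : Fˣ, m ≠ 1 := by
      by_contra hall
      push Not at hall
      haveI : Subsingleton Fˣ := ⟨fun a b => (hall a).trans (hall b).symm⟩
      have := Fintype.card_le_one_iff_subsingleton.2 (inferInstance : Subsingleton Fˣ)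
      rw [Fintype.card_units] at this
      omega
    have e : (m : F) * ∑ l : Fˣ, (l : F) = ∑ l : Fˣ, (l : F) := by
      rw [Finset.mul_sum]
      exact Fintype.sum_equiv (Equiv.mulLeft m) _ _ fun l => by simp
    have : ((m : F) - 1) * ∑ l : Fˣ, (l : F) = 0 := by rw [sub_mul, e, one_mul, sub_self]
    exact (mul_eq_zero.1 this).resolve_left fun h' => hm (Units.ext (sub_eq_zero.1 h'))
  have hunits' : ∑ l : Fˣ, (↑l⁻¹ : F) = 0 := by
    rw [← hunits]; exact Fintype.sum_equiv (Equiv.inv Fˣ) _ _ fun l => rfl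
  have hψσ : ∀ v, ψ₀ (sm v) = 0 := fun v => by
    rw [hsum, map_neg, map_sum, neg_eq_zero]
    funext i
    simp only [hψh, Finset.sum_apply]
    fin_cases i <;> simp only [Fin.isValue, Matrix.cons_val_zero, Matrix.cons_val_one, Fin.zero_eta,
      Fin.mk_one, Pi.zero_apply]
    · rw [← Finset.sum_mul, hunits, zero_mul]
    · rw [← Finset.sum_mul, hunits', zero_mul]
  have hσC : ∀ v, ψ₀ v = 0 → sm v = v := fun v hv => by
    rw [hsum, Finset.sum_congr rfl fun l _ => hcvC (hl l) v hv, Finset.sum_const, Finset.card_univ,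
      Fintype.card_units, neg_eq_iff_add_eq_zero]
    have hpv : p • v = 0 := congrArg Additive.ofMul
      (Subtype.ext (h.expV _ (Additive.toMul v).2) : (Additive.toMul v) ^ p = 1)
    have hdvd : p ∣ Fintype.card F := (CharP.cast_eq_zero_iff F p _).1 hq0
    rw [← succ_nsmul, Nat.sub_add_cancel (by omega)]
    obtain ⟨k, hk⟩ := hdvd
    rw [hk, mul_comm, mul_nsmul', hpv, nsmul_zero]
  let C := ψ₀.ker
  let σC : Additive ↥V →+ C := sm.codRestrict C hψσ
  let E₀ : Additive ↥V →+ F × F × C :=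
    ((Pi.evalAddMonoidHom (fun _ : Fin 2 => F) 0).comp ψ₀).prod
      (((Pi.evalAddMonoidHom (fun _ : Fin 2 => F) 1).comp ψ₀).prod σC)
  have hE₀ : ∀ v, E₀ v = (ψ₀ v 0, ψ₀ v 1, σC v) := fun v => rfl
  have hbij : Function.Bijective E₀ := by
    constructor
    · rw [injective_iff_map_eq_zero]
      intro v hv
      simp only [hE₀, Prod.mk_eq_zero] at hv
      have : ψ₀ v = 0 := by funext i; fin_cases i <;> simp [hv.1, hv.2.1]
      rw [← hσC v this]
      exact congrArg Subtype.val hv.2.2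
    · rintro ⟨a, b, c⟩
      obtain ⟨v, hv⟩ := hψs (Multiplicative.ofAdd ![a, b])
      have hv' : ψ₀ (Additive.ofMul v) = ![a, b] := congrArg Multiplicative.toAdd hv
      refine ⟨Additive.ofMul v - sm (Additive.ofMul v) + c.1, ?_⟩
      have h1 : ψ₀ (Additive.ofMul v - sm (Additive.ofMul v) + c.1) = ![a, b] := by
        rw [map_add, map_sub, hψσ, hv', show ψ₀ c.1 = 0 from c.2, sub_zero, add_zero]
      rw [hE₀, h1]
      refine Prod.ext rfl (Prod.ext rfl (Subtype.ext ?_))
      show sm _ = _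
      rw [map_add, map_sub, hσC _ (hψσ _), sub_self, zero_add, hσC _ c.2]
  let e : Additive ↥V ≃+ F × F × C := AddEquiv.ofBijective E₀ hbij
  have he : ∀ v, e v = (ψ₀ v 0, ψ₀ v 1, σC v) := fun v => rfl
  have hcv : ∀ (g : ↥L) (w : F × F × C), act e (g : G) w = e (cv g (e.symm w)) := fun g w => by
    refine vec_inj e ?_
    rw [vec_act e (hLV g.2)]
    simp [vec, cv]
  have hfixw : ∀ w : F × F × C, vec e w ∈ V ⊓ centralizer (L : Set G) ↔ w.1 = 0 ∧ w.2.1 = 0 := fun w => by
    obtain ⟨v, rfl⟩ := e.surjective w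
    have : vec e (e v) = ((Additive.toMul v : ↥V) : G) := vec_e e _
    rw [this, ← hfix, he]
    refine ⟨fun h' => by simp [h'], fun h' => ?_⟩
    funext i; fin_cases i
    · exact h'.1
    · exact h'.2
  have hfixU : ∀ w : F × F × C, vec e w ∈ V ⊓ centralizer (A : Set G) ↔ w.2.1 = 0 := fun w => by
    obtain ⟨v, rfl⟩ := e.surjective w
    have : vec e (e v) = ((Additive.toMul v : ↥V) : G) := vec_e e _
    rw [this, hψU]
    rfl
  -- torus and Weyl element in coordinates
  have hσh : ∀ l v, sm (cv (hl l) v) = sm v := fun l v => by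
    rw [hsum, hsum]
    refine congrArg Neg.neg (Fintype.sum_equiv (Equiv.mulRight l) _ _ fun m => ?_)
    rw [← hcv_mul]
    show cv (hl m * hl l) v = cv (hl (m * l)) v
    rw [show hl (m * l) = hl m * hl l by simp only [hl, hdg_mul, map_mul]]
  have hσw : ∀ v, sm (cv wl v) = sm v := fun v => by
    have h1 : sm (cv wl v) = cv wl (sm v) := by
      rw [hsum, hsum, map_neg, map_sum]
      refine congrArg Neg.neg (Fintype.sum_equiv (Equiv.inv Fˣ) _ _ fun m => ?_)
      rw [← hcv_mul, ← hcv_mul]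
      refine congrArg (fun g => cv g v) ?_
      show hl m * wl = wl * hl m⁻¹
      apply ρ.injective
      simp only [map_mul, hl, wl, MulEquiv.apply_symm_apply]
      apply Subtype.ext
      rw [Matrix.SpecialLinearGroup.coe_mul, Matrix.SpecialLinearGroup.coe_mul]
      simp [dg, ω, Matrix.mul_fin_two]
    rw [h1, hcvC _ _ (hψσ v)]
  have hah : ∀ (l : Fˣ) (w : F × F × C),
      act e (hl l : G) w = ((l : F) * w.1, (↑l⁻¹ : F) * w.2.1, w.2.2) := fun l w => by
    obtain ⟨v, rfl⟩ := e.surjective w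
    rw [hcv, e.symm_apply_apply, he, he, hψh]
    exact Prod.ext rfl (Prod.ext rfl (Subtype.ext (hσh l v)))
  have haw : ∀ w : F × F × C, act e (wl : G) w = (w.2.1, -w.1, w.2.2) := fun w => by
    obtain ⟨v, rfl⟩ := e.surjective w
    rw [hcv, e.symm_apply_apply, he, he, hψw]
    exact Prod.ext rfl (Prod.ext rfl (Subtype.ext (hσw v)))
  choose up₀ hup₁ hup₂ using hup
  have hWV : ∀ (a : G), a ∈ A → a ∈ normalizer (V : Set G) := fun a ha => hLV (hB.hAP ha)
  -- the shape of the elements of `A`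
  let k : F → F → C := fun t y => (act e (up₀ t : G) (0, y, 0)).2.2
  have hau : ∀ t w, act e (up₀ t : G) w = (w.1 + t * w.2.1, w.2.1, w.2.2 + k t w.2.1) := by
    intro t w
    obtain ⟨x, y, c⟩ := w
    have hsplit : ((x, y, c) : F × F × C) = (x, 0, c) + (0, y, 0) := by simp
    rw [hsplit, act_add e (hLV (up₀ t).2)]
    have h1 : act e (up₀ t : G) (x, 0, c) = (x, 0, c) :=
      (act_eq_iff_commute e (hLV (up₀ t).2) _).2
        (mem_centralizer_iff.1 ((hfixU (x, 0, c)).2 rfl).2 _ (hup₁ t))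
    have h2 : act e (up₀ t : G) (0, y, 0) = (t * y, y, k t y) := by
      have : e.symm (0, y, 0) = e.symm (0, y, 0) := rfl
      refine Prod.ext ?_ (Prod.ext ?_ rfl)
      · rw [hcv, he, hψcv, hup₂]
        have h0 := congrArg (fun z => z.1) (he (e.symm (0, y, 0)))
        have h1 := congrArg (fun z => z.2.1) (he (e.symm (0, y, 0)))
        simp only [AddEquiv.apply_symm_apply] at h0 h1
        simp [Matrix.mulVec, dotProduct, Fin.sum_univ_two, ← h0, ← h1]
      · rw [hcv, he, hψcv, hup₂]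
        have h1 := congrArg (fun z => z.2.1) (he (e.symm (0, y, 0)))
        simp only [AddEquiv.apply_symm_apply] at h1
        simp [Matrix.mulVec, dotProduct, Fin.sum_univ_two, ← h1]
    rw [h1, h2]
    simp only [Prod.mk_add_mk, zero_add, add_zero]
  have hkadd : ∀ t y y', k t (y + y') = k t y + k t y' := fun t y y' => by
    show (act e (up₀ t : G) (0, y + y', 0)).2.2 = _
    rw [show ((0 : F), y + y', (0 : C)) = (0, y, 0) + (0, y', 0) by simp, act_add e (hLV (up₀ t).2)]
    rfl
  have hkh : ∀ (l : Fˣ) t y, k ((l : F) ^ 2 * t) y = k t (l * y) := by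
    intro l t y
    have hu : hl l * up₀ t * (hl l)⁻¹ = up₀ ((l : F) ^ 2 * t) := by
      rw [mul_inv_eq_iff_eq_mul]
      apply ρ.injective
      simp only [map_mul, hl, MulEquiv.apply_symm_apply, hup₂]
      apply Subtype.ext
      rw [Matrix.SpecialLinearGroup.coe_mul, Matrix.SpecialLinearGroup.coe_mul]
      simp [dg, Matrix.mul_fin_two]
      field_simp
    have e1 := congrArg (fun g : ↥L => (act e (g : G) (0, y, 0)).2.2) hu
    simp only [coe_mul, coe_inv] at e1
    rw [act_conj e (hLV (hl l).2) (hLV (up₀ t).2)] at e1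
    have hinv : act e (hl l : G)⁻¹ (0, y, 0) = (0, (l : F) * y, 0) := by
      have := act_inv_act e (hLV (hl l).2) ((0, (l : F) * y, 0) : F × F × C)
      rwa [hah, show (↑l⁻¹ : F) * (l * y) = y by rw [← mul_assoc, Units.inv_mul, one_mul],
        mul_zero] at this
    rw [hinv, hah, hau, hau] at e1
    simpa using e1.symm
  have hupmul : ∀ s t, up₀ s * up₀ t = up₀ (s + t) := fun s t => by
    apply ρ.injective
    rw [map_mul, hup₂, hup₂, hup₂, Cfsg.Agent.H34.SL2.upper_mul]
  have hktadd : ∀ s t y, k (s + t) y = k s y + k t y := fun s t y => by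
    show (act e (up₀ (s + t) : G) (0, y, 0)).2.2 = _
    rw [← hupmul, coe_mul, act_mul e (hLV (up₀ s).2) (hLV (up₀ t).2), hau, hau]
    simp only [zero_add]; exact add_comm _ _
  obtain ⟨r, G0, hr, hk⟩ : ∃ (r : F ≃+* F) (G0 : F →+ C),
      (G0 = 0 ∨ ((2 : F) = 0 ∧ ∀ t, r t * r t = t)) ∧ ∀ t y, k t y = G0 (r t * y) := by
    by_cases h2 : p = 2
    · subst h2
      refine ⟨(frobeniusEquiv F 2).symm, AddMonoidHom.mk' (fun y => k 1 y) (hkadd 1),
        Or.inr ⟨by simpa using hpF, fun t => by rw [← pow_two, ← map_pow]; exact frobeniusEquiv_symm_pow F 2 t⟩,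
        fun t y => ?_⟩
      show k t y = k 1 _
      by_cases ht : t = 0
      · subst ht
        have h0 := hktadd 0 0 y
        rw [add_zero] at h0
        have h00 := hkadd 1 0 0
        rw [add_zero] at h00
        rw [map_zero, zero_mul]
        exact (left_eq_add.1 h0).trans (left_eq_add.1 h00).symm
      · have hr0 : (frobeniusEquiv F 2).symm t ≠ 0 := fun h' => ht (by simpa using h')
        have := hkh (Units.mk0 _ hr0) 1 y
        rw [Units.val_mk0, mul_one, ← map_pow, frobeniusEquiv_symm_pow] at this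
        exact this
    · refine ⟨RingEquiv.refl F, 0, Or.inl rfl, fun t y => ?_⟩
      have e1 := hkh (-1) t y
      simp only [Units.val_neg, Units.val_one, even_two, Even.neg_pow, one_pow, one_mul,
        neg_one_mul] at e1
      have e2 := hkadd t y (-y)
      rw [add_neg_cancel, ← e1] at e2
      have h00 := hkadd t 0 0
      rw [add_zero] at h00
      rw [left_eq_add.1 h00] at e2
      have hpk : p • k t y = 0 := Subtype.ext (congrArg Additive.ofMul
        (Subtype.ext (h.expV _ (Additive.toMul (k t y).1).2) : (Additive.toMul (k t y).1) ^ p = 1))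
      obtain ⟨j, hj⟩ := (Fact.out : p.Prime).odd_of_ne_two h2
      have h2k : 2 • k t y = 0 := by rw [two_nsmul]; exact e2.symm
      rw [hj, add_nsmul, mul_nsmul, h2k, nsmul_zero, zero_add, one_nsmul] at hpk
      rw [hpk]; rfl
  have hAe : ∀ a ∈ A, ∃ t, a = (up₀ t : G) := by
    let f : F → ↥A := fun t => ⟨_, hup₁ t⟩
    have hf : Function.Bijective f := by
      rw [Nat.bijective_iff_injective_and_card]
      refine ⟨fun s t hst => ?_, by rw [Nat.card_eq_fintype_card, hcard]⟩
      have : up₀ s = up₀ t := Subtype.ext (congrArg (fun a : ↥A => (a : G)) hst)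
      have := congrArg ρ this
      rw [hup₂, hup₂] at this
      simpa [Cfsg.Agent.H34.SL2.upper] using congrArg (fun m => m.1 0 1) this
    intro a ha
    obtain ⟨t, ht⟩ := hf.2 ⟨a, ha⟩
    exact ⟨t, congrArg (fun a : ↥A => (a : G)) ht.symm⟩
  have hwM : (wl : G) ∉ L ⊓ M := by
    intro hw
    have hst := hB.stab hw
    have h1 : vec e ((1, 0, 0) : F × F × C) ∈ V ⊓ centralizer (A : Set G) := (hfixU _).2 rfl
    have h2 := conj_mem_cj (x := (wl : G)) h1
    rw [hst, ← vec_act e (hLV wl.2), hfixU, haw] at h2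
    simp at h2
  refine ⟨F, iF, iF', C, inferInstance, ⟨{
    base := h
    hA := hA
    hAT := hAT
    hLP := hLP
    hAL := hB.hAP
    hLM := hLM
    gen := fun x hx hxM => hB.gen x hx (fun h' => hxM h'.2)
    hq := hqF
    card_F := hcard
    e := e
    mem_U := hfixU
    mem_C := hfixw
    r := r
    G0 := G0
    hr := hr
    up := fun t => (up₀ t : G)
    up_mem := hup₁
    up_all := hAe
    act_up := fun t w => by rw [hau, hk]
    hh := fun l => (hl l : G)
    hh_mem := fun l => (hl l).2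
    act_hh := hah
    ww := (wl : G)
    ww_mem := wl.2
    act_ww := haw
    gen_ww := hB.gen _ wl.2 hwM
    rho := ρ
    act_rho := fun g w => by
      obtain ⟨v, rfl⟩ := e.surjective w
      rw [hcv, e.symm_apply_apply, he, he]
      have h2 : ∀ x : Fin 2 → F, ![x 0, x 1] = x := fun x => by funext i; fin_cases i <;> rfl
      rw [h2, h2, hψcv] }⟩⟩

end Cfsg.Agent.H34.Para
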