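import Cfsg.Agent.H34.Para.Central
import Mathlib

/-!
Elements fixing the axis and acting trivially on the remaining sections fix the third summand.
-/

set_option autoImplicit false
set_option linter.style.haveILetI false
set_option maxHeartbeats 1000000

namespace Cfsg.Agent.H34.Para

open Subgroup
open Cfsg.Agent.H34.MinOffender

/-- An additive derivation of a finite field vanishes. -/
theorem deriv_zero {F : Type*} [Field F] [Fintype F] (D : F → F)
    (h : ∀ x y, D (x * y) = x * D y + y * D x) (x : F) : D x = 0 := by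
  have h1 : D 1 = 0 := by simpa using h 1 1
  have hn : ∀ n : ℕ, D (x ^ (n + 1)) = (n + 1 : ℕ) * (x ^ n * D x) := by
    intro n
    induction n with
    | zero => simp
    | succ n ih =>
      rw [pow_succ _ (n + 1), h, ih]
      push_cast
      ring
  have := hn (Fintype.card F - 1)
  rw [Nat.sub_add_cancel Fintype.card_pos, FiniteField.pow_card, Nat.cast_card_eq_zero] at this
  rw [this, zero_mul]

variable {G : Type*} [Group G] [Finite G] {p : ℕ} [Fact p.Prime] {V P T M A L : Subgroup G} {F : Type}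
  [Field F] [Fintype F] {C : Type*} [AddCommGroup C] (c : Chart p V P T M A L F C)
include c

/-- A member commuting with the second member and different from it centralises `L`. -/
theorem Chart.centralizesB {X : Subgroup G} (hX : Mem P A X) (hne : X ≠ cj c.ww A)
    (hc : ∀ x ∈ X, ∀ b ∈ cj c.ww A, x * b = b * x) : ∀ x ∈ X, ∀ g ∈ L, x * g = g * x := by
  have h := c.centralizes (hX.cj (P.inv_mem c.wwP)) (fun e => hne (by have := congrArg (cj c.ww) e; rwa [cj_cj_inv] at this)) (by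
    rintro _ ⟨x, hx, rfl⟩ a ha
    have e1 := hc x hx _ (conj_mem_cj (x := c.ww) ha)
    show c.ww⁻¹ * x * c.ww⁻¹⁻¹ * a = a * (c.ww⁻¹ * x * c.ww⁻¹⁻¹)
    calc c.ww⁻¹ * x * c.ww⁻¹⁻¹ * a = c.ww⁻¹ * (x * (c.ww * a * c.ww⁻¹)) * c.ww := by group
      _ = c.ww⁻¹ * ((c.ww * a * c.ww⁻¹) * x) * c.ww := by rw [e1]
      _ = a * (c.ww⁻¹ * x * c.ww⁻¹⁻¹) := by group)
  intro x hx g hg
  have e1 := h _ (conj_mem_cj (x := c.ww⁻¹) hx) (c.ww⁻¹ * g * c.ww)
    (L.mul_mem (L.mul_mem (L.inv_mem c.ww_mem) hg) c.ww_mem)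
  have e2 := congrArg (fun t => c.ww * t * c.ww⁻¹) e1
  simpa [mul_assoc] using e2

/-- An element preserving the fixed space of the second member normalises it. -/
theorem Chart.cj_B_of {g : G} (hg : g ∈ P) (h : ∀ w : F × F × C, w.1 = 0 → (act c.e g w).1 = 0) :
    cj g (cj c.ww A) = cj c.ww A := by
  have := c.cj_A_of (g := c.ww⁻¹ * g * c.ww) (P.mul_mem (P.mul_mem (P.inv_mem c.wwP) hg) c.wwP)
    fun w hw => by
      rw [act_mul c.e (c.hPV (P.mul_mem (P.inv_mem c.wwP) hg)) (c.hPV c.wwP),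
        act_mul c.e (c.hPV (P.inv_mem c.wwP)) (c.hPV hg), c.act_ww_inv]
      exact h _ (by rw [c.act_ww]; exact hw)
  calc cj g (cj c.ww A) = cj c.ww (cj (c.ww⁻¹ * g * c.ww) A) := by
        rw [← cj_mul, ← cj_mul]; congr 1; group
    _ = cj c.ww A := by rw [this]

omit [Finite G] [Fact p.Prime] in
theorem Chart.act_low (t : F) (a y : F) (k : C) :
    act c.e (c.ww * c.up t * c.ww⁻¹) ((a, y, k) : F × F × C) = (a, y - t * a, k + c.G0 (c.r t * a)) := by
  rw [act_conj c.e (c.hPV c.wwP) (c.hPV (c.upP t)), c.act_ww_inv, c.act_up, c.act_ww]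
  simp [sub_eq_add_neg, add_comm]

/-- Elements fixing the axis, trivial on both quotients, fix the third summand. -/
theorem Chart.delta_zero {u₀ : G} (hu₀ : u₀ ∈ c.stab) (hth₀ : ∀ k, c.th u₀ k = k) :
    ∀ k, (act c.e u₀ ((0, 0, k) : F × F × C)).1 = 0 := by
  classical
  have hPV := c.hPV
  let al : G → F → F := fun x y => (act c.e x ((0, y, 0) : F × F × C)).1
  let ga : G → F → C := fun x y => (act c.e x ((0, y, 0) : F × F × C)).2.2
  let de : G → C → F := fun x k => (act c.e x ((0, 0, k) : F × F × C)).1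
  have hde_add : ∀ g ∈ P, ∀ k k', de g (k + k') = de g k + de g k' := fun g hg k k' => by
    show (act c.e g ((0, 0, k + k') : F × F × C)).1 = _
    rw [show ((0, 0, k + k') : F × F × C) = (0, 0, k) + (0, 0, k') by simp, act_add c.e (hPV hg)]
    rfl
  have hal_add : ∀ g ∈ P, ∀ y y', al g (y + y') = al g y + al g y' := fun g hg y y' => by
    show (act c.e g ((0, y + y', 0) : F × F × C)).1 = _
    rw [show ((0, y + y', 0) : F × F × C) = (0, y, 0) + (0, y', 0) by simp, act_add c.e (hPV hg)]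
    rfl
  have hga_add : ∀ g ∈ P, ∀ y y', ga g (y + y') = ga g y + ga g y' := fun g hg y y' => by
    show (act c.e g ((0, y + y', 0) : F × F × C)).2.2 = _
    rw [show ((0, y + y', 0) : F × F × C) = (0, y, 0) + (0, y', 0) by simp, act_add c.e (hPV hg)]
    rfl
  have hde0 : ∀ g ∈ P, de g 0 = 0 := fun g hg => congrArg Prod.fst (act_zero c.e (hPV hg))
  have hga0 : ∀ g ∈ P, ga g 0 = 0 := fun g hg =>
    congrArg (fun z : F × F × C => z.2.2) (act_zero c.e (hPV hg))
  have hal0 : ∀ g ∈ P, al g 0 = 0 := fun g hg => congrArg Prod.fst (act_zero c.e (hPV hg))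
  have hform : ∀ g ∈ c.stab, (∀ k, c.th g k = k) → ∀ a y k, act c.e g ((a, y, k) : F × F × C) =
      (a + al g y + de g k, y, k + ga g y) := by
    intro g hg ht a y k
    obtain ⟨hgP, g1, g2⟩ := hg
    rw [show ((a, y, k) : F × F × C) = (a, 0, 0) + ((0, y, 0) + (0, 0, k)) by simp,
      act_add c.e (hPV hgP), act_add c.e (hPV hgP), g2 a]
    refine Prod.ext ?_ (Prod.ext ?_ ?_)
    · show a + (al g y + de g k) = _
      rw [add_assoc]
    · show 0 + ((act c.e g (0, y, 0)).2.1 + (act c.e g (0, 0, k)).2.1) = _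
      rw [g1, g1]; simp
    · show 0 + (ga g y + c.th g k) = _
      rw [zero_add, ht, add_comm]
  -- the class of these elements
  have hcl : ∀ g ∈ c.stab, (∀ k, c.th g k = k) → ∀ g' ∈ c.stab, (∀ k, c.th g' k = k) →
      (g * g' ∈ c.stab ∧ (∀ k, c.th (g * g') k = k)) ∧
      (∀ y, al (g * g') y = al g y + al g' y + de g (ga g' y)) ∧
      ∀ k, de (g * g') k = de g k + de g' k := by
    intro g hg ht g' hg' ht'
    refine ⟨⟨c.stab.mul_mem hg hg', fun k => by rw [c.th_mul hg hg', ht', ht]⟩, fun y => ?_, fun k => ?_⟩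
    · show (act c.e (g * g') ((0, y, 0) : F × F × C)).1 = _
      rw [act_mul c.e (hPV hg.1) (hPV hg'.1), hform g' hg' ht', hform g hg ht, hde0 g' hg'.1]
      simp only [zero_add, add_zero]
      ring
    · show (act c.e (g * g') ((0, 0, k) : F × F × C)).1 = _
      rw [act_mul c.e (hPV hg.1) (hPV hg'.1), hform g' hg' ht', hform g hg ht, hal0 g' hg'.1,
        hga0 g' hg'.1, hal0 g hg.1]
      simp only [zero_add, add_zero]
      ring
  -- they commute with `A` modulo translations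
  have hdG : ∀ g ∈ c.stab, (∀ k, c.th g k = k) → ∀ w, de g (c.G0 w) = 0 := by
    intro g hg ht w
    rcases c.hr with h0 | h2
    · rw [h0, AddMonoidHom.zero_apply]; exact hde0 g hg.1
    by_contra hne
    have hgA : cj g A = A := c.cj_A_of hg.1 fun v hv => by rw [hg.2.1]; exact hv
    have hw : w ≠ 0 := fun h' => hne (by rw [h', map_zero]; exact hde0 g hg.1)
    obtain ⟨t, y, ht0, hy0, e1, e2⟩ := c.exists_pair h2 (neg_ne_zero.2 hne) hw
    obtain ⟨τ, hτ⟩ := c.up_all _ (hgA.le (conj_mem_cj (c.up_mem t)))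
    have e3 := congrArg (fun f => act c.e f ((0, y, 0) : F × F × C))
      (mul_inv_eq_iff_eq_mul.1 hτ)
    rw [act_mul c.e (hPV hg.1) (hPV (c.upP t)), act_mul c.e (hPV (c.upP τ)) (hPV hg.1), c.act_up,
      hform g hg ht, hform g hg ht, c.act_up] at e3
    have e4 := congrArg Prod.fst e3
    simp only [zero_add, hde0 g hg.1, add_zero, e1, e2] at e4
    have hτ0 : τ * y = 0 := by linear_combination -e4
    rw [mul_eq_zero, or_iff_left hy0] at hτ0
    rw [hτ0, c.up_zero, mul_inv_eq_one, mul_eq_left] at hτ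
    exact ht0 (c.up_inj (hτ.trans c.up_zero.symm))
  -- equal displacement means equal modulo `A`
  have hsame : ∀ g ∈ c.stab, (∀ k, c.th g k = k) → ∀ g' ∈ c.stab, (∀ k, c.th g' k = k) →
      (∀ k, de g k = de g' k) → ∃ t, ∀ y, al g y = al g' y + t * y := by
    intro g hg ht g' hg' ht' hd
    have hmem : g'⁻¹ * g ∈ A := by
      refine c.mem_A_of (P.mul_mem (P.inv_mem hg'.1) hg.1) (fun w hw => ?_)
        (c.stab.mul_mem (c.stab.inv_mem hg') hg).2.1
      obtain ⟨a, y, k⟩ := w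
      obtain rfl : y = 0 := hw
      rw [act_mul c.e (inv_mem (hPV hg'.1)) (hPV hg.1)]
      conv_rhs => rw [← act_inv_act c.e (hPV hg'.1) ((a, 0, k) : F × F × C)]
      rw [hform g hg ht, hform g' hg' ht', hd, hal0 g hg.1, hal0 g' hg'.1, hga0 g hg.1, hga0 g' hg'.1]
    obtain ⟨t, ht0⟩ := c.up_all _ hmem
    rw [inv_mul_eq_iff_eq_mul] at ht0
    refine ⟨t, fun y => ?_⟩
    show (act c.e g ((0, y, 0) : F × F × C)).1 = _
    rw [ht0, act_mul c.e (hPV hg'.1) (hPV (c.upP t)), c.act_up, hform g' hg' ht']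
    simp only [zero_add, hdG g' hg' ht', add_zero]
    exact add_comm _ _
  -- the torus conjugates
  have hu₀P : u₀ ∈ P := hu₀.1
  have hcj : ∀ l : Fˣ, (c.hh l * u₀ * (c.hh l)⁻¹ ∈ c.stab ∧ ∀ k, c.th (c.hh l * u₀ * (c.hh l)⁻¹) k = k) ∧
      (∀ y, al (c.hh l * u₀ * (c.hh l)⁻¹) y = (l : F) * al u₀ ((l : F) * y)) ∧
      (∀ k, de (c.hh l * u₀ * (c.hh l)⁻¹) k = (l : F) * de u₀ k) ∧
      ∀ y, ga (c.hh l * u₀ * (c.hh l)⁻¹) y = ga u₀ ((l : F) * y) := by
    intro l
    have hact : ∀ a y k, act c.e (c.hh l * u₀ * (c.hh l)⁻¹) ((a, y, k) : F × F × C) =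
        (a + (l : F) * al u₀ ((l : F) * y) + (l : F) * de u₀ k, y, k + ga u₀ ((l : F) * y)) := by
      intro a y k
      rw [act_conj c.e (hPV (c.hhP l)) (hPV hu₀P), c.act_hh_inv, hform u₀ hu₀ hth₀, c.act_hh]
      refine Prod.ext ?_ (Prod.ext ?_ rfl)
      · show (l : F) * ((↑l⁻¹ : F) * a + al u₀ ((l : F) * y) + de u₀ k) = _
        rw [mul_add, mul_add, ← mul_assoc, Units.mul_inv, one_mul]
      · show (↑l⁻¹ : F) * ((l : F) * y) = _
        rw [← mul_assoc, Units.inv_mul, one_mul]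
    refine ⟨⟨⟨P.mul_mem (P.mul_mem (c.hhP l) hu₀P) (P.inv_mem (c.hhP l)), fun w => ?_, fun a => ?_⟩,
      fun k => ?_⟩, fun y => ?_, fun k => ?_, fun y => ?_⟩
    · obtain ⟨a, y, k⟩ := w; rw [hact]
    · rw [hact, mul_zero, hal0 _ hu₀P, hde0 _ hu₀P, hga0 _ hu₀P]; simp
    · show (act c.e _ ((0, 0, k) : F × F × C)).2.2 = k
      rw [hact, mul_zero, hga0 _ hu₀P, add_zero]
    · show (act c.e _ ((0, y, 0) : F × F × C)).1 = _
      rw [hact, hde0 _ hu₀P]; simp
    · show (act c.e _ ((0, 0, k) : F × F × C)).1 = _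
      rw [hact, mul_zero, hal0 _ hu₀P]; simp
    · show (act c.e _ ((0, y, 0) : F × F × C)).2.2 = _
      rw [hact]; simp
  let D : F → F := fun y => de u₀ (ga u₀ y)
  have hDadd : ∀ a b, D (a + b) = D a + D b := fun a b => by
    simp only [D, hga_add _ hu₀P, hde_add _ hu₀P]
  have hD0 : D 0 = 0 := by simp only [D, hga0 _ hu₀P, hde0 _ hu₀P]
  have hDlin : ∀ y, D y = D 1 * y := by
    have key : ∀ x y, D (x * y) - D 1 * (x * y) = x * (D y - D 1 * y) + y * (D x - D 1 * x) := by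
      intro x y
      by_cases hx : x = 0
      · subst hx; simp [hD0]
      obtain ⟨⟨hs, ht⟩, h1, h2, h3⟩ := hcj (Units.mk0 x hx)
      set v := c.hh (Units.mk0 x hx) * u₀ * (c.hh (Units.mk0 x hx))⁻¹
      obtain ⟨⟨hs1, ht1⟩, a1, d1⟩ := hcl v hs ht u₀ hu₀ hth₀
      obtain ⟨⟨hs2, ht2⟩, a2, d2⟩ := hcl u₀ hu₀ hth₀ v hs ht
      obtain ⟨t, e⟩ := hsame _ hs1 ht1 _ hs2 ht2 fun k => by rw [d1, d2, add_comm]
      have e1 : ∀ y, x * D y = D (x * y) + t * y := fun y => by
        have := e y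
        rw [a1, a2, h2, h3, Units.val_mk0] at this
        linear_combination this
      have e11 := e1 1
      rw [mul_one] at e11
      linear_combination -(e1 y) + y * e11
    intro y
    exact sub_eq_zero.1 (deriv_zero (fun y => D y - D 1 * y) key y)
  set f := al u₀ 1 with hf
  have hlin : ∀ y, al u₀ y = f * y := by
    let E : F → F := fun y => al u₀ y - f * y
    have hE0 : E 0 = 0 := by simp only [E, hal0 _ hu₀P, mul_zero, sub_zero]
    have hE1 : E 1 = 0 := by simp [E, hf]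
    have key : ∀ x y, 1 + x ≠ 0 → E (x * y) + x * E y = E x * y := by
      intro x y hx1
      by_cases hx : x = 0
      · subst hx; simp [hE0]
      obtain ⟨⟨hs, ht⟩, h1, h2, h3⟩ := hcj (Units.mk0 x hx)
      obtain ⟨⟨hs', ht'⟩, h1', h2', h3'⟩ := hcj (Units.mk0 _ hx1)
      obtain ⟨⟨hs1, ht1⟩, a1, d1⟩ := hcl u₀ hu₀ hth₀ _ hs ht
      obtain ⟨t, e⟩ := hsame _ hs1 ht1 _ hs' ht' fun k => by
        rw [d1, h2, h2', Units.val_mk0, Units.val_mk0]; ring
      have e1 : ∀ y, al u₀ y + x * al u₀ (x * y) + D 1 * (x * y) =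
          (1 + x) * (al u₀ y + al u₀ (x * y)) + t * y := fun y => by
        have := e y
        rw [a1, h1, h1', h3, Units.val_mk0, Units.val_mk0] at this
        rw [← hal_add _ hu₀P, ← hDlin, show y + x * y = (1 + x) * y by ring]
        exact this
      have e11 := e1 1
      rw [mul_one, ← hf] at e11
      show al u₀ (x * y) - f * (x * y) + x * (al u₀ y - f * y) = (al u₀ x - f * x) * y
      linear_combination -(e1 y) + y * e11
    intro y
    refine sub_eq_zero.1 (show E y = 0 from ?_)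
    by_cases h2 : (2 : F) = 0
    · refine deriv_zero E (fun a b => ?_) y
      have hneg : ∀ z : F, -z = z := fun z => by
        rw [neg_eq_iff_add_eq_zero, ← two_mul, h2, zero_mul]
      by_cases ha : 1 + a = 0
      · have : a = 1 := by rw [← hneg a]; linear_combination -ha
        subst this
        rw [hE1]; simp
      · have := key a b ha
        rw [← hneg (a * E b)]
        linear_combination this
    · have := key 1 y (by rwa [one_add_one_eq_two])
      rw [one_mul, one_mul, hE1, zero_mul, ← two_mul] at this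
      exact (mul_eq_zero.1 this).resolve_left h2
  set u := u₀ * c.up (-f) with hu
  have huP : u ∈ P := P.mul_mem hu₀P (c.upP _)
  let g' : F → C := fun y => c.G0 (c.r (-f) * y) + ga u₀ y
  have huact : ∀ a y k, act c.e u ((a, y, k) : F × F × C) = (a + de u₀ k, y, k + g' y) := by
    intro a y k
    rw [hu, act_mul c.e (hPV hu₀P) (hPV (c.upP _)), c.act_up, hform u₀ hu₀ hth₀]
    refine Prod.ext ?_ (Prod.ext rfl ?_)
    · show a + -f * y + al u₀ y + de u₀ (k + c.G0 (c.r (-f) * y)) = a + de u₀ k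
      rw [hde_add _ hu₀P, hdG u₀ hu₀ hth₀, hlin]; ring
    · show k + c.G0 (c.r (-f) * y) + ga u₀ y = k + g' y
      rw [add_assoc]
  set B := cj c.ww A with hB
  set B' := cj u B with hB'
  have hB'm : Mem P A B' := c.memB.cj huP
  have hnorm : ∀ b ∈ B', cj b B = B := by
    rintro _ ⟨_, ⟨a, ha, rfl⟩, rfl⟩
    obtain ⟨t, rfl⟩ := c.up_all a ha
    show cj (u * (c.ww * c.up t * c.ww⁻¹) * u⁻¹) B = B
    have hbP : c.ww * c.up t * c.ww⁻¹ ∈ P := P.mul_mem (P.mul_mem c.wwP (c.upP t)) (P.inv_mem c.wwP)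
    refine c.cj_B_of (P.mul_mem (P.mul_mem huP hbP) (P.inv_mem huP)) fun w hw => ?_
    obtain ⟨a, y, k⟩ := w
    obtain rfl : a = 0 := hw
    have hinv : act c.e u⁻¹ ((0, y, k) : F × F × C) = (-de u₀ (k - g' y), y, k - g' y) := by
      have := act_inv_act c.e (hPV huP) ((-de u₀ (k - g' y), y, k - g' y) : F × F × C)
      rwa [huact, neg_add_cancel, sub_add_cancel] at this
    rw [act_conj c.e (hPV huP) (hPV hbP), hinv, c.act_low, huact, hde_add _ hu₀P, hdG u₀ hu₀ hth₀]
    simp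
  have hBP : B ≤ P := cj_le c.wwP c.hAP
  have hB'P : B' ≤ P := cj_le huP hBP
  have hpA : IsPGroup p A := fun a => ⟨1, Subtype.ext (by simpa using c.hA.expA a a.2)⟩
  have hpB : IsPGroup p B := hpA.map _
  have hpB' : IsPGroup p B' := hpB.map _
  have hcomm := c.base.commute c.hAP c.hA (Nat.card ↥(B' ⊔ B)) B' B le_rfl hB'm c.memB
    (hpB'.to_sup_of_normal_right' hpB fun b hb => mem_normalizer_of_cj_eq (hnorm b hb))
  have hBB : B' = B := by
    by_contra hne
    have hcent := c.centralizesB hB'm hne hcomm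
    have hu1 : u * c.up 1 = c.up 1 * u := c.ext (P.mul_mem huP (c.upP 1)) (P.mul_mem (c.upP 1) huP)
      fun w => by
        obtain ⟨a, y, k⟩ := w
        rw [act_mul c.e (hPV huP) (hPV (c.upP 1)), act_mul c.e (hPV (c.upP 1)) (hPV huP), c.act_up, huact,
          huact, c.act_up, hde_add _ hu₀P, hdG u₀ hu₀ hth₀]
        refine Prod.ext ?_ (Prod.ext rfl ?_)
        · show a + 1 * y + (de u₀ k + 0) = a + de u₀ k + 1 * y
          ring
        · show k + c.G0 (c.r 1 * y) + g' y = k + g' y + c.G0 (c.r 1 * y)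
          abel
    set b := c.ww * c.up 1 * c.ww⁻¹
    have e1 := hcent (u * b * u⁻¹) (conj_mem_cj (conj_mem_cj (c.up_mem 1))) (c.up 1) (c.hAL (c.up_mem 1))
    have e2 : b * c.up 1 = c.up 1 * b := by
      calc b * c.up 1 = u⁻¹ * ((u * b * u⁻¹) * (u * c.up 1)) := by group
        _ = u⁻¹ * ((u * b * u⁻¹) * c.up 1 * u) := by rw [hu1]; group
        _ = u⁻¹ * (c.up 1 * (u * b * u⁻¹) * u) := by rw [e1]
        _ = u⁻¹ * (c.up 1 * u) * b := by group
        _ = c.up 1 * b := by rw [← hu1, inv_mul_cancel_left]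
    have hbP : b ∈ P := P.mul_mem (P.mul_mem c.wwP (c.upP 1)) (P.inv_mem c.wwP)
    have e3 := congrArg (fun g => (act c.e g ((1, 0, 0) : F × F × C)).1) e2
    rw [act_mul c.e (hPV hbP) (hPV (c.upP 1)), act_mul c.e (hPV (c.upP 1)) (hPV hbP), c.act_up, c.act_low,
      c.act_low, c.act_up] at e3
    simp at e3
  intro k
  have h1 : vec c.e ((0, 0, k) : F × F × C) ∈ V ⊓ centralizer (B : Set G) :=
    (vec_mem_fixed c.e (hBP.trans hPV) _).2 ((c.fixed_cj c.wwP _).2 (by rw [c.act_ww_inv]))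
  have h2 := conj_mem_cj (x := u) h1
  rw [← cent_cj (hPV huP), ← hB', hBB, ← vec_act c.e (hPV huP)] at h2
  have h3 := (c.fixed_cj c.wwP _).1 ((vec_mem_fixed c.e (hBP.trans hPV) _).1 h2)
  rw [c.act_ww_inv, huact] at h3
  simpa using h3

end Cfsg.Agent.H34.Para
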