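import Cfsg.Agent.H34.Para.LLemma
import Cfsg.Agent.H34.MinOffender.Plane
import Mathlib

/-!
Minimal parabolics with offenders: no over-offenders, and members of the class of a minimal offender
inside a common `p`-group commute.
-/

set_option autoImplicit false
set_option linter.style.haveILetI false

namespace Cfsg.Agent.H34.Para

open Subgroup
open Cfsg.Agent.H34.MinOffender
open scoped commutatorElement

variable {G : Type*} [Group G]

/-- A minimal parabolic without normal `p`-subgroups, moving a fixed point of its Sylow subgroup. -/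
structure FFP (p : ℕ) (V P T M : Subgroup G) : Prop where
  comm : ∀ a ∈ V, ∀ b ∈ V, a * b = b * a
  expV : ∀ v ∈ V, v ^ p = 1
  hPV : P ≤ normalizer (V : Set G)
  faith : P ⊓ centralizer (V : Set G) = ⊥
  pm : PMin p P T M
  op1 : ∀ K ≤ P, IsPGroup p K → P ≤ normalizer (K : Set G) → K = ⊥
  hz : ∃ z ∈ V, z ∈ centralizer (T : Set G) ∧ z ∉ centralizer (P : Set G)

variable {p : ℕ} {V P T M A : Subgroup G}

theorem mem_cent_singleton {a v : G} (h : a * v = v * a) : a ∈ centralizer ({v} : Set G) :=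
  mem_centralizer_singleton_iff.2 h

variable [Finite G] [Fact p.Prime] (h : FFP p V P T M)
include h

theorem FFP.hTP : T ≤ P := h.pm.hTP

omit [Finite G] [Fact p.Prime] in
theorem FFP.conj_V {g v : G} (hg : g ∈ P) (hv : v ∈ V) : g * v * g⁻¹ ∈ V :=
  conj_mem_of_mem_normalizer (h.hPV hg) hv

theorem FFP.not_stable (hAT : A ≤ T) (hne : A ≠ ⊥) : ¬ ∀ g ∈ P, cj g A ≤ T := by
  intro hall
  let K : Subgroup G := ⨆ g : P, cj (g : G) A
  have hKT : K ≤ T := iSup_le fun g => hall g g.2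
  have hK : P ≤ normalizer (K : Set G) := fun x hx => by
    refine mem_normalizer_of_cj_eq (eq_of_le_of_card_ge ?_ (card_cj _ _).ge)
    rw [cj, Subgroup.map_iSup]
    refine iSup_le fun g => ?_
    show cj x (cj (g : G) A) ≤ K
    rw [← cj_mul]
    exact le_iSup (fun g : P => cj (g : G) A) (⟨x, hx⟩ * g)
  have hbot := h.op1 K (hKT.trans h.hTP) (h.pm.Tp.to_le hKT) hK
  refine hne (le_bot_iff.1 (hbot ▸ ?_))
  refine le_trans ?_ (le_iSup (fun g : P => cj (g : G) A) 1)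
  rw [OneMemClass.coe_one, cj_one]

/-- Good subgroups through some conjugate in `T`. -/
theorem FFP.exists_good (hAP : A ≤ P) (hA : MinOff p V A) :
    ∃ k ∈ P, ∃ L R : Subgroup G, L ≤ P ∧ R ≤ T ∧ cj k A ≤ T ∧ ¬ L ≤ M ∧
      Base p V L R (L ⊓ M) (cj k A) ∧
      ∀ K ≤ L, (∀ g ∈ K, g ^ p = 1) → L ≤ normalizer (K : Set G) → K ≤ R := by
  obtain ⟨z, hzV, hzT, hzP⟩ := h.hz
  have hAp : IsPGroup p A := fun g => ⟨1, Subtype.ext (by simpa using hA.expA g g.2)⟩
  obtain ⟨x, hx, hxT⟩ := h.pm.sylow_conj le_rfl h.hTP hAP hAp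
  obtain ⟨k, hk, L, R, h1, h2, h3, h4, h5, h6⟩ := Para.exists_good h.comm h.expV (Nat.card P) P T M (cj x A) z
    le_rfl h.pm h.hPV h.faith hxT (hA.cj (h.hPV hx)) (h.not_stable hxT (hA.cj (h.hPV hx)).ne) hzV hzT hzP
  rw [← cj_mul] at h3 h5
  exact ⟨k * x, P.mul_mem hk hx, L, R, h1, h2, h3, h4, h5, h6⟩

/-- The offender number of a minimal offender is `|V|`. -/
theorem FFP.card_eq (hAP : A ≤ P) (hA : MinOff p V A) :
    Nat.card V = Nat.card A * Nat.card ↥(V ⊓ centralizer (A : Set G)) := by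
  obtain ⟨k, hk, L, R, -, -, -, -, hB, -⟩ := h.exists_good hAP hA
  have e := hB.numbers.2.1
  rwa [card_cj, cent_cj (h.hPV hk), card_cj] at e

/-- Nontrivial elements of a minimal offender have the same fixed points as the offender. -/
theorem FFP.fix (hAP : A ≤ P) (hA : MinOff p V A) {a v : G} (ha : a ∈ A) (ha1 : a ≠ 1) (hv : v ∈ V)
    (hav : a * v = v * a) : v ∈ V ⊓ centralizer (A : Set G) := by
  obtain ⟨k, hk, L, R, -, -, -, -, hB, -⟩ := h.exists_good hAP hA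
  have e := hB.R1 (conj_mem_cj (x := k) ha) (fun e => ha1 (by
    have := congrArg (fun t => k⁻¹ * t * k) e
    simpa [mul_assoc] using this)) (h.conj_V hk hv) (v := k * v * k⁻¹) (by
    rw [show ⁅k * a * k⁻¹, k * v * k⁻¹⁆ = k * ⁅a, v⁆ * k⁻¹ from (comm_conj k a v).symm,
      commutatorElement_eq_one_iff_mul_comm.2 hav, mul_one, mul_inv_cancel]
    exact one_mem _)
  rw [cent_cj (h.hPV hk), mem_cj] at e
  simpa [mul_assoc] using e

theorem FFP.quad (hAP : A ≤ P) (hA : MinOff p V A) {a v : G} (ha : a ∈ A) (hv : v ∈ V) :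
    ⁅a, v⁆ ∈ V ⊓ centralizer (A : Set G) := by
  obtain ⟨k, hk, L, R, -, -, -, -, hB, -⟩ := h.exists_good hAP hA
  have e := hB.comm_mem (conj_mem_cj (x := k) ha) (h.conj_V hk hv)
  rw [cent_cj (h.hPV hk), ← comm_conj, mem_cj] at e
  simpa [mul_assoc] using e

/-- There are no over-offenders. -/
theorem FFP.bound {B : Subgroup G} (hB : B ≤ P) (hBc : ∀ a ∈ B, ∀ b ∈ B, a * b = b * a)
    (hBp : ∀ a ∈ B, a ^ p = 1) :
    Nat.card B * Nat.card ↥(V ⊓ centralizer (B : Set G)) ≤ Nat.card V := by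
  classical
  by_contra hlt
  rw [not_le] at hlt
  let good : Set (Subgroup G) :=
    {B | B ≤ P ∧ (∀ a ∈ B, ∀ b ∈ B, a * b = b * a) ∧ (∀ a ∈ B, a ^ p = 1)}
  obtain ⟨B₁, hB₁, hmax⟩ := Set.exists_max_image good (fun B => Cfsg.Agent.H34.offNum V B)
    (Set.toFinite good) ⟨B, hB, hBc, hBp⟩
  obtain ⟨A, ⟨hA, hAe⟩, hmin⟩ := Set.exists_min_image
    {B ∈ good | Cfsg.Agent.H34.offNum V B = Cfsg.Agent.H34.offNum V B₁} (fun B => Nat.card B)
    (Set.toFinite _) ⟨B₁, hB₁, rfl⟩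
  have hgt : Nat.card V < Cfsg.Agent.H34.offNum V A := hAe ▸ lt_of_lt_of_le hlt (hmax B ⟨hB, hBc, hBp⟩)
  have hne : A ≠ ⊥ := fun e => absurd hgt (not_lt.2 (by
    rw [e, Cfsg.Agent.H34.offNum, card_bot, one_mul]
    exact card_le_of_le inf_le_left))
  have hMin : MinOff p V A :=
    { commA := hA.2.1
      expA := hA.2.2
      ne := hne
      large := hgt.le
      strict := fun C hC _ hCA => by
        have hC' : C ∈ good := ⟨hC.trans hA.1, fun a ha b hb => hA.2.1 a (hC ha) b (hC hb),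
          fun a ha => hA.2.2 a (hC ha)⟩
        refine lt_of_le_of_ne (le_trans (hmax C hC') hAe.ge) fun e => hCA ?_
        exact eq_of_le_of_card_ge hC (hmin C ⟨hC', e.trans hAe⟩) }
  exact absurd hgt (not_lt.2 (h.card_eq hA.1 hMin).ge)

/-- The fixed space determines the minimal offender. -/
theorem FFP.eq_of_fixed {B : Subgroup G} (hAP : A ≤ P) (hA : MinOff p V A) (hBP : B ≤ P)
    (hB : MinOff p V B) (e : V ⊓ centralizer (A : Set G) = V ⊓ centralizer (B : Set G)) : A = B := by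
  classical
  set U := V ⊓ centralizer (A : Set G)
  let K : Subgroup G :=
    { carrier := {g | g ∈ P ∧ (∀ u ∈ U, g * u = u * g) ∧ ∀ v ∈ V, ⁅g, v⁆ ∈ U}
      one_mem' := ⟨P.one_mem, fun u _ => by simp, fun v _ => by simp⟩
      mul_mem' := by
        rintro g k ⟨hg, h1, h1'⟩ ⟨hk, h2, h2'⟩
        refine ⟨P.mul_mem hg hk, fun u hu => ?_, fun v hv => ?_⟩
        · rw [mul_assoc, h2 u hu, ← mul_assoc, h1 u hu, mul_assoc]
        · rw [comm_mul_left, h1 _ (h2' v hv), mul_inv_cancel_right]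
          exact U.mul_mem (h2' v hv) (h1' v hv)
      inv_mem' := by
        rintro g ⟨hg, h1, h1'⟩
        have hi : ∀ u ∈ U, g⁻¹ * u = u * g⁻¹ := fun u hu => by
          rw [inv_mul_eq_iff_eq_mul, ← mul_assoc, h1 u hu, mul_inv_cancel_right]
        refine ⟨P.inv_mem hg, hi, fun v hv => ?_⟩
        have : ⁅g⁻¹, v⁆ = (g⁻¹ * ⁅g, v⁆ * g)⁻¹ := by simp only [commutatorElement_def]; group
        rw [this, hi _ (h1' v hv), inv_mul_cancel_right]
        exact inv_mem (h1' v hv) }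
  have hmem : ∀ {X : Subgroup G}, X ≤ P → MinOff p V X → V ⊓ centralizer (X : Set G) = U → X ≤ K :=
    fun {X} hX hXm eX x hx => ⟨hX hx, fun u hu => mem_centralizer_iff.1 ((eX.symm ▸ hu) : u ∈ V ⊓ centralizer (X : Set G)).2 x hx,
      fun v hv => eX ▸ h.quad hX hXm hx hv⟩
  have hAK : A ≤ K := hmem hAP hA rfl
  have hBK : B ≤ K := hmem hBP hB e.symm
  have hconj : ∀ g ∈ K, ∀ v ∈ V, g * v * g⁻¹ = ⁅g, v⁆ * v := fun g _ v _ => conj_eq g v
  have hKc : ∀ g ∈ K, ∀ k ∈ K, g * k = k * g := by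
    intro g hg k hk
    have hmem : (k * g)⁻¹ * (g * k) ∈ P ⊓ centralizer (V : Set G) := by
      refine ⟨P.mul_mem (P.inv_mem (P.mul_mem hk.1 hg.1)) (P.mul_mem hg.1 hk.1),
        mem_centralizer_iff.2 fun v hv => ?_⟩
      have e1 : ⁅g * k, v⁆ = ⁅k * g, v⁆ := by
        rw [comm_mul_left, comm_mul_left, hg.2.1 _ (hk.2.2 v hv), mul_inv_cancel_right,
          hk.2.1 _ (hg.2.2 v hv), mul_inv_cancel_right,
          h.comm _ (hg.2.2 v hv).1 _ (hk.2.2 v hv).1]
      have e2 : g * k * v * (g * k)⁻¹ = k * g * v * (k * g)⁻¹ := by rw [conj_eq, conj_eq, e1]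
      calc v * ((k * g)⁻¹ * (g * k)) = (k * g)⁻¹ * (k * g * v * (k * g)⁻¹) * (g * k) := by group
        _ = (k * g)⁻¹ * (g * k * v * (g * k)⁻¹) * (g * k) := by rw [e2]
        _ = (k * g)⁻¹ * (g * k) * v := by group
    rw [h.faith, mem_bot, inv_mul_eq_one] at hmem
    exact hmem.symm
  have hKp : ∀ g ∈ K, g ^ p = 1 := by
    intro g hg
    have hmem : g ^ p ∈ P ⊓ centralizer (V : Set G) := by
      refine ⟨P.pow_mem hg.1 p, mem_centralizer_iff.2 fun v hv => ?_⟩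
      obtain ⟨c, hcdef⟩ : ∃ c, c = ⁅g, v⁆ := ⟨_, rfl⟩
      have hc : c ∈ U := hcdef ▸ hg.2.2 v hv
      have hn : ∀ n : ℕ, g ^ n * v * (g ^ n)⁻¹ = c ^ n * v := by
        intro n
        induction n with
        | zero => simp
        | succ n ih =>
          have e1 : g ^ (n + 1) * v * (g ^ (n + 1))⁻¹ = g * (g ^ n * v * (g ^ n)⁻¹) * g⁻¹ := by
            rw [pow_succ']; group
          have e2 : g * (c ^ n * v) * g⁻¹ = (g * c ^ n * g⁻¹) * (⁅g, v⁆ * v) := by
            simp only [commutatorElement_def]; group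
          rw [e1, ih, e2, ← hcdef, hg.2.1 _ (U.pow_mem hc n), mul_inv_cancel_right, pow_succ, mul_assoc]
      have := hn p
      rw [h.expV c hc.1, one_mul, mul_inv_eq_iff_eq_mul] at this
      exact this.symm
    rwa [h.faith, mem_bot] at hmem
  have hle : U ≤ V ⊓ centralizer (K : Set G) := fun u hu =>
    ⟨hu.1, mem_centralizer_iff.2 fun g hg => hg.2.1 u hu⟩
  have hb := h.bound (B := K) (fun g hg => hg.1) hKc hKp
  have hKA : K ≤ A := (eq_of_le_of_card_ge hAK (by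
    have hc := h.card_eq hAP hA
    refine Nat.le_of_mul_le_mul_right (c := Nat.card U) ?_ Nat.card_pos
    calc Nat.card K * Nat.card U ≤ Nat.card K * Nat.card ↥(V ⊓ centralizer (K : Set G)) :=
          Nat.mul_le_mul_left _ (card_le_of_le hle)
      _ ≤ _ := hb.trans hc.le)).ge
  have hcard : Nat.card A = Nat.card B := by
    have e1 := h.card_eq hAP hA
    have e2 := h.card_eq hBP hB
    rw [← e, e1] at e2
    exact Nat.eq_of_mul_eq_mul_right Nat.card_pos e2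
  exact (eq_of_le_of_card_ge (hBK.trans hKA) hcard.le).symm

/-- Minimal offenders meeting nontrivially are equal. -/
theorem FFP.ti {B : Subgroup G} (hAP : A ≤ P) (hA : MinOff p V A) (hBP : B ≤ P) (hB : MinOff p V B)
    {a : G} (ha : a ∈ A) (hb : a ∈ B) (ha1 : a ≠ 1) : A = B := by
  refine h.eq_of_fixed hAP hA hBP hB (le_antisymm (fun v hv => ?_) (fun v hv => ?_))
  · exact h.fix hBP hB hb ha1 hv.1 (mem_centralizer_iff.1 hv.2 a ha)
  · exact h.fix hAP hA ha ha1 hv.1 (mem_centralizer_iff.1 hv.2 a hb)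

/-- A group element fixing the fixed space normalises the offender. -/
theorem FFP.cj_eq_of_fixed (hAP : A ≤ P) (hA : MinOff p V A) {g : G} (hg : g ∈ P)
    (e : cj g (V ⊓ centralizer (A : Set G)) = V ⊓ centralizer (A : Set G)) : cj g A = A :=
  h.eq_of_fixed (cj_le hg hAP) (hA.cj (h.hPV hg)) hAP hA (by rw [cent_cj (h.hPV hg), e])

/-- An element commuting with a nontrivial element of a minimal offender normalises it. -/
theorem FFP.normalizes_of_commute (hAP : A ≤ P) (hA : MinOff p V A) {a g : G} (ha : a ∈ A)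
    (ha1 : a ≠ 1) (hg : g ∈ P) (hga : g * a = a * g) : cj g A = A :=
  h.ti (cj_le hg hAP) (hA.cj (h.hPV hg)) hAP hA
    (by rw [mem_cj, mul_assoc, ← hga, inv_mul_cancel_left]; exact ha) ha ha1

/-- The members: conjugates of one fixed minimal offender. -/
def Mem (P A₀ X : Subgroup G) : Prop := ∃ g ∈ P, X = cj g A₀

variable {A₀ : Subgroup G} (hA₀P : A₀ ≤ P) (hA₀ : MinOff p V A₀)

omit h [Finite G] [Fact p.Prime] in
theorem Mem.cj {X : Subgroup G} (hX : Mem P A₀ X) {g : G} (hg : g ∈ P) : Mem P A₀ (cj g X) := by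
  obtain ⟨k, hk, rfl⟩ := hX
  exact ⟨g * k, P.mul_mem hg hk, by rw [cj_mul]⟩

include hA₀P hA₀

theorem FFP.mem_le {X : Subgroup G} (hX : Mem P A₀ X) : X ≤ P := by
  obtain ⟨g, hg, rfl⟩ := hX
  exact cj_le hg hA₀P

theorem FFP.mem_minOff {X : Subgroup G} (hX : Mem P A₀ X) : MinOff p V X := by
  obtain ⟨g, hg, rfl⟩ := hX
  exact hA₀.cj (h.hPV hg)

omit h in
theorem mem_card {X : Subgroup G} (hX : Mem P A₀ X) : Nat.card X = Nat.card A₀ := by
  obtain ⟨g, _, rfl⟩ := hX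
  exact card_cj _ _

/-- Two commuting members have complementary fixed spaces. -/
theorem FFP.pair_top {X Y : Subgroup G} (hX : Mem P A₀ X) (hY : Mem P A₀ Y) (hne : X ≠ Y)
    (hc : ∀ x ∈ X, ∀ y ∈ Y, x * y = y * x) :
    V ≤ (V ⊓ centralizer (X : Set G)) ⊔ (V ⊓ centralizer (Y : Set G)) := by
  have hXP := h.mem_le hA₀P hA₀ hX
  have hYP := h.mem_le hA₀P hA₀ hY
  have hXm := h.mem_minOff hA₀P hA₀ hX
  have hYm := h.mem_minOff hA₀P hA₀ hY
  set UX := V ⊓ centralizer (X : Set G)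
  set UY := V ⊓ centralizer (Y : Set G)
  have hd : X ⊓ Y = ⊥ := le_bot_iff.1 fun a ha => by
    by_contra h1
    exact hne (h.ti hXP hXm hYP hYm ha.1 ha.2 (fun e => h1 (by rw [e]; exact one_mem _)))
  have hn : X ≤ normalizer (Y : Set G) := fun a ha =>
    centralizer_le_normalizer _ (mem_centralizer_iff.2 fun b hb => (hc a ha b hb).symm)
  have hDP : X ⊔ Y ≤ P := sup_le hXP hYP
  have hmem : ∀ d ∈ X ⊔ Y, ∃ a ∈ X, ∃ b ∈ Y, d = a * b := by
    intro d hd
    rw [← SetLike.mem_coe, coe_mul_of_left_le_normalizer_right _ _ hn] at hd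
    obtain ⟨a, ha, b, hb, rfl⟩ := hd
    exact ⟨a, ha, b, hb, rfl⟩
  have hb := h.bound hDP (by
      intro d hd e he
      obtain ⟨a, ha, b, hb, rfl⟩ := hmem d hd
      obtain ⟨a', ha', b', hb', rfl⟩ := hmem e he
      calc a * b * (a' * b') = a * (b * a') * b' := by group
        _ = a * (a' * b) * b' := by rw [hc a' ha' b hb]
        _ = (a * a') * (b * b') := by group
        _ = (a' * a) * (b' * b) := by rw [hXm.commA a ha a' ha', hYm.commA b hb b' hb']
        _ = a' * (a * b') * b := by group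
        _ = a' * (b' * a) * b := by rw [hc a ha b' hb']
        _ = a' * b' * (a * b) := by group) (by
      intro d hd
      obtain ⟨a, ha, b, hb, rfl⟩ := hmem d hd
      rw [(show Commute a b from hc a ha b hb).mul_pow, hXm.expA a ha, hYm.expA b hb, one_mul])
  have h1 := Cfsg.Agent.H34.card_mul_card_le X Y
  rw [hd, card_bot, mul_one] at h1
  have h2 := Cfsg.Agent.H34.card_mul_card_le UX UY
  have h3 : UX ⊓ UY ≤ V ⊓ centralizer ((X ⊔ Y : Subgroup G) : Set G) := by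
    rw [Cfsg.Agent.H34.centralizer_sup_eq]
    exact fun v hv => ⟨hv.1.1, hv.1.2, hv.2.2⟩
  have eX := h.card_eq hXP hXm
  have eY := h.card_eq hYP hYm
  have hV : V ≤ UX ⊔ UY := by
    refine (eq_of_le_of_card_ge (sup_le inf_le_left inf_le_left) ?_).ge
    refine Nat.le_of_mul_le_mul_right (c := Nat.card V) ?_ Nat.card_pos
    calc Nat.card V * Nat.card V = (Nat.card X * Nat.card Y) * (Nat.card UX * Nat.card UY) := by
          conv_lhs => rw [eX]; arg 2; rw [← eX, eY]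
          ring
      _ ≤ Nat.card ↥(X ⊔ Y) * (Nat.card ↥(UX ⊔ UY) * Nat.card ↥(UX ⊓ UY)) := Nat.mul_le_mul h1 h2
      _ ≤ Nat.card ↥(UX ⊔ UY) * (Nat.card ↥(X ⊔ Y) *
            Nat.card ↥(V ⊓ centralizer ((X ⊔ Y : Subgroup G) : Set G))) := by
          rw [mul_left_comm]
          exact Nat.mul_le_mul_left _ (Nat.mul_le_mul_left _ (card_le_of_le h3))
      _ ≤ _ := Nat.mul_le_mul_left _ hb
  exact hV

/-- Two commuting members meet the hyperplane bound. -/
theorem FFP.pair_sum {X Y : Subgroup G} (hX : Mem P A₀ X) (hY : Mem P A₀ Y) (hne : X ≠ Y)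
    (hc : ∀ x ∈ X, ∀ y ∈ Y, x * y = y * x) {x v : G} (hx : x ∈ X) (hv : v ∈ V) :
    ⁅x, v⁆ ∈ V ⊓ centralizer (Y : Set G) := by
  have hXP := h.mem_le hA₀P hA₀ hX
  have hYP := h.mem_le hA₀P hA₀ hY
  set UX := V ⊓ centralizer (X : Set G)
  set UY := V ⊓ centralizer (Y : Set G)
  have hn : X ≤ normalizer (Y : Set G) := fun a ha =>
    centralizer_le_normalizer _ (mem_centralizer_iff.2 fun b hb => (hc a ha b hb).symm)
  have hV : V ≤ UX ⊔ UY := h.pair_top hA₀P hA₀ hX hY hne hc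
  have hnUV : UX ≤ normalizer (UY : Set G) := fun a ha =>
    centralizer_le_normalizer _ (mem_centralizer_iff.2 fun b hb => h.comm b hb.1 a ha.1)
  have hv' := hV hv
  rw [← SetLike.mem_coe, coe_mul_of_left_le_normalizer_right _ _ hnUV] at hv'
  obtain ⟨d, hd', e, he, rfl⟩ := hv'
  have e1 : ⁅x, d * e⁆ = ⁅x, d⁆ * (d * ⁅x, e⁆ * d⁻¹) := by
    simp only [commutatorElement_def]; group
  have hce : ⁅x, e⁆ ∈ UY := by
    rw [commutatorElement_def]
    refine UY.mul_mem ?_ (UY.inv_mem he)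
    have : cj x UY = UY := by rw [← cent_cj (h.hPV (hXP hx)), cj_eq_of_mem_normalizer (hn hx)]
    exact this ▸ conj_mem_cj he
  rw [e1, commutatorElement_eq_one_iff_mul_comm.2 (mem_centralizer_iff.1 hd'.2 x hx), one_mul,
    h.comm d hd'.1 _ hce.1, mul_inv_cancel_right]
  exact hce

/-- The fixed space of a member is preserved by a member centralised by it. -/
theorem FFP.cj_fixed_eq {X : Subgroup G} (hX : Mem P A₀ X) {g : G} (hg : g ∈ P)
    (hgX : ∀ u ∈ V ⊓ centralizer (X : Set G), ⁅g, u⁆ ∈ V ⊓ centralizer (X : Set G)) : cj g X = X := by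
  refine h.cj_eq_of_fixed (h.mem_le hA₀P hA₀ hX) (h.mem_minOff hA₀P hA₀ hX) hg
    (eq_of_le_of_card_ge ?_ (card_cj _ _).ge)
  rintro _ ⟨u, hu, rfl⟩
  show g * u * g⁻¹ ∈ _
  rw [conj_eq]
  exact mul_mem (hgX u hu) hu

/-- Members generating a `p`-group commute. -/
theorem FFP.commute (n : ℕ) : ∀ X Y : Subgroup G, Nat.card ↥(X ⊔ Y) ≤ n → Mem P A₀ X → Mem P A₀ Y →
    IsPGroup p ↥(X ⊔ Y) → ∀ x ∈ X, ∀ y ∈ Y, x * y = y * x := by
  classical
  induction n using Nat.strong_induction_on with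
  | _ n ih =>
  intro X Y hn hX hY hp
  have hXP := h.mem_le hA₀P hA₀ hX
  have hYP := h.mem_le hA₀P hA₀ hY
  have hXm := h.mem_minOff hA₀P hA₀ hX
  have hYm := h.mem_minOff hA₀P hA₀ hY
  by_cases hXY : X = Y
  · subst hXY; exact hXm.commA
  have hqX := mem_card hA₀P hA₀ hX
  have hqY := mem_card hA₀P hA₀ hY
  set R := X ⊔ Y
  -- conjugates of one member under the group commute
  have hconj : ∀ Z : Subgroup G, Mem P A₀ Z → Z ≤ R → ∀ r ∈ R,
      ∀ a ∈ Z, ∀ b ∈ cj r Z, a * b = b * a := by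
    intro Z hZ hZR r hr
    have hZne : Z.subgroupOf R ≠ ⊤ := by
      rw [Ne, subgroupOf_eq_top]
      intro hRZ
      have hZc := mem_card hA₀P hA₀ hZ
      have h1 : X = Z := eq_of_le_of_card_ge (le_sup_left.trans hRZ) (by rw [hqX, hZc])
      have h2 : Y = Z := eq_of_le_of_card_ge (le_sup_right.trans hRZ) (by rw [hqY, hZc])
      exact hXY (h1.trans h2.symm)
    obtain ⟨Q, hQ, hZQ⟩ := (eq_top_or_exists_le_coatom (Z.subgroupOf R)).resolve_left hZne
    haveI := hp.isNilpotent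
    haveI : Q.Normal := NormalizerCondition.normal_of_coatom Q normalizerCondition_of_isNilpotent hQ
    have hle : Z ⊔ cj r Z ≤ Q.map R.subtype := by
      refine sup_le (fun a ha => ⟨⟨a, hZR ha⟩, hZQ (by rw [mem_subgroupOf]; exact ha), rfl⟩) ?_
      rintro _ ⟨a, ha, rfl⟩
      exact ⟨⟨r, hr⟩ * ⟨a, hZR ha⟩ * ⟨r, hr⟩⁻¹,
        ‹Q.Normal›.conj_mem _ (hZQ (by rw [mem_subgroupOf]; exact ha)) _, rfl⟩
    have hlt : Nat.card ↥(Z ⊔ cj r Z) < n := by
      refine lt_of_le_of_lt (card_le_of_le hle) (lt_of_lt_of_le ?_ hn)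
      obtain ⟨y, -, hy⟩ := SetLike.exists_of_lt hQ.1.lt_top
      exact card_lt_of_mem (map_subtype_le _) y.2 fun hm => hy ((mem_map_iff_mem R.subtype_injective).1 hm)
    have hrP : r ∈ P := sup_le hXP hYP hr
    exact ih _ hlt Z (cj r Z) le_rfl hZ (hZ.cj hrP) (hp.to_le (hle.trans (map_subtype_le _)))
  -- a member normalising the other but not conversely is impossible
  have hone : ∀ A B : Subgroup G, Mem P A₀ A → Mem P A₀ B → A ≠ B → A ≤ R → B ≤ R →
      (∀ b ∈ B, cj b A = A) → ∀ a ∈ A, ∀ b ∈ B, a * b = b * a := by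
    intro A B hA hB hAB hAR hBR hnA a ha b hb
    have hAP := h.mem_le hA₀P hA₀ hA
    have hBP := h.mem_le hA₀P hA₀ hB
    have hAm := h.mem_minOff hA₀P hA₀ hA
    have hBm := h.mem_minOff hA₀P hA₀ hB
    have hin : ∀ a' ∈ A, ∀ b' ∈ B, ⁅a', b'⁆ ∈ A := fun a' ha' b' hb' => by
      rw [show ⁅a', b'⁆ = a' * (b' * a'⁻¹ * b'⁻¹) by simp only [commutatorElement_def]; group]
      exact A.mul_mem ha' ((hnA b' hb').le (conj_mem_cj (A.inv_mem ha')))
    by_cases hnB : cj a B = B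
    · rw [← commutatorElement_eq_one_iff_mul_comm]
      by_contra h1
      refine hAB (h.ti hAP hAm hBP hBm (hin a ha b hb) ?_ h1)
      rw [commutatorElement_def]
      exact B.mul_mem (hnB.le (conj_mem_cj hb)) (B.inv_mem hb)
    exfalso
    -- `b ↦ [a, b]` embeds `B` into a proper subgroup of `A`
    set D := B ⊔ cj a B
    have hcD := hconj B hB hBR a (hAR ha)
    have haD : a ∉ A ⊓ D := fun had => hnB (by
      refine cj_eq_of_mem_normalizer (centralizer_le_normalizer _ ?_)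
      have : D ≤ centralizer (B : Set G) := sup_le
        (fun x hx => mem_centralizer_iff.2 fun y hy => hBm.commA y hy x hx)
        (fun x hx => mem_centralizer_iff.2 fun y hy => hcD y hy x hx)
      exact this had.2)
    have hlt : Nat.card ↥(A ⊓ D) < Nat.card A := card_lt_of_mem inf_le_left ha haD
    let φ : B → ↥(A ⊓ D) := fun b' => ⟨⁅a, (b' : G)⁆, hin a ha b' b'.2, by
      rw [commutatorElement_def]
      exact D.mul_mem (le_sup_right (a := B) (conj_mem_cj b'.2))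
        (D.inv_mem (le_sup_left (b := cj a B) b'.2))⟩
    have hinj : Function.Injective φ := by
      rintro ⟨b₁, hb₁⟩ ⟨b₂, hb₂⟩ e
      have e' : ⁅a, b₁⁆ = ⁅a, b₂⁆ := congrArg Subtype.val e
      by_contra hne
      refine hnB ?_
      have hd : b₂⁻¹ * b₁ ≠ 1 := fun h1 => hne (Subtype.ext (inv_mul_eq_one.1 h1).symm)
      have h5 : b₁ = b₂ * (b₂⁻¹ * b₁) := by group
      have h6 : a * (b₂⁻¹ * b₁) * a⁻¹ = (b₂⁻¹ * b₁) := by
        have e1 : a * b₁ * a⁻¹ * b₁⁻¹ = a * b₂ * a⁻¹ * b₂⁻¹ := by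
          simpa only [commutatorElement_def] using e'
        have hc2 : b₂⁻¹ * b₁ = b₁ * b₂⁻¹ := hBm.commA _ (B.inv_mem hb₂) _ hb₁
        calc a * (b₂⁻¹ * b₁) * a⁻¹ = (a * b₂ * a⁻¹)⁻¹ * (a * b₁ * a⁻¹ * b₁⁻¹) * b₁ := by group
          _ = (a * b₂ * a⁻¹)⁻¹ * (a * b₂ * a⁻¹ * b₂⁻¹) * b₁ := by rw [e1]
          _ = b₂⁻¹ * b₁ := by group
      exact h.ti (cj_le (hAP ha) hBP) (hBm.cj (h.hPV (hAP ha))) hBP hBm
        (h6 ▸ conj_mem_cj (B.mul_mem (B.inv_mem hb₂) hb₁)) (B.mul_mem (B.inv_mem hb₂) hb₁) hd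
    have := Nat.card_le_card_of_injective φ hinj
    rw [mem_card hA₀P hA₀ hB, ← mem_card hA₀P hA₀ hA] at this
    omega
  by_cases h1 : ∀ y ∈ Y, cj y X = X
  · exact hone X Y hX hY hXY le_sup_left le_sup_right h1
  by_cases h2 : ∀ x ∈ X, cj x Y = Y
  · intro x hx y hy
    exact (hone Y X hY hX (Ne.symm hXY) le_sup_right le_sup_left h2 y hy x hx).symm
  exfalso
  push Not at h1 h2
  obtain ⟨b, hb, hbX⟩ := h1
  obtain ⟨a₀, ha₀, haY⟩ := h2
  set a := a₀⁻¹
  have ha : a ∈ X := X.inv_mem ha₀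
  -- commutators are supported on both sides
  set UA := V ⊓ centralizer (X : Set G)
  set UB := V ⊓ centralizer (Y : Set G)
  have hbP := hYP hb
  have haP := hXP ha
  have ha₀P := hXP ha₀
  set IX := UA ⊓ cj b UA
  set IY := UB ⊓ cj a UB
  have hbY1 : b ≠ 1 := fun e => hbX (by rw [e, cj_one])
  have ha1 : a ≠ 1 := fun e => haY (by rw [show a₀ = 1 by simpa [a] using e, cj_one])
  have hba : ∀ w ∈ UA, w ∈ IY → w ∈ cj b UA := by
    intro w hw hwI
    have hB1 : a * b⁻¹ * a⁻¹ * b ∈ centralizer ({w} : Set G) := by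
      refine mul_mem ?_ (mem_cent_singleton (mem_centralizer_iff.1 hwI.1.2 b hb))
      have hw2 : a⁻¹ * w * a ∈ UB := mem_cj.1 hwI.2
      have e := mem_centralizer_iff.1 hw2.2 _ (Y.inv_mem hb)
      refine mem_cent_singleton ?_
      calc a * b⁻¹ * a⁻¹ * w = a * (b⁻¹ * (a⁻¹ * w * a)) * a⁻¹ := by group
        _ = a * (a⁻¹ * w * a * b⁻¹) * a⁻¹ := by rw [e]
        _ = w * (a * b⁻¹ * a⁻¹) := by group
    have hca : a ∈ centralizer ({w} : Set G) := mem_cent_singleton (mem_centralizer_iff.1 hw.2 a ha)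
    have hB2 : b⁻¹ * a⁻¹ * b ∈ centralizer ({w} : Set G) := by
      have := mul_mem (inv_mem hca) hB1
      rwa [show a⁻¹ * (a * b⁻¹ * a⁻¹ * b) = b⁻¹ * a⁻¹ * b by group] at this
    have hfix : b * w * b⁻¹ = w := by
      rw [mem_centralizer_iff.1 hwI.1.2 b hb, mul_inv_cancel_right]
    rw [mem_cj]
    refine h.fix hXP hXm (X.inv_mem ha) (inv_ne_one.2 ha1)
      (by simpa using h.conj_V (P.inv_mem hbP) hw.1) ?_
    have e := mem_centralizer_singleton_iff.1 hB2
    have hfix' : b⁻¹ * w * b = w := by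
      conv_lhs => rw [← hfix]
      group
    calc a⁻¹ * (b⁻¹ * w * b) = b * (b⁻¹ * a⁻¹ * b * (b⁻¹ * (b⁻¹ * w * b) * b)) * b⁻¹ := by group
      _ = b * ((b⁻¹ * a⁻¹ * b) * w) * b⁻¹ := by rw [hfix', hfix']
      _ = b * (w * (b⁻¹ * a⁻¹ * b)) * b⁻¹ := by rw [e]
      _ = b * ((b⁻¹ * (b⁻¹ * w * b) * b) * (b⁻¹ * a⁻¹ * b)) * b⁻¹ := by rw [hfix', hfix']
      _ = b⁻¹ * w * b * a⁻¹ := by group
  have hab : ∀ w ∈ UB, w ∈ IX → w ∈ cj a UB := by
    intro w hw hwI
    have hca : a ∈ centralizer ({w} : Set G) := mem_cent_singleton (mem_centralizer_iff.1 hwI.1.2 a ha)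
    have hfix' : a⁻¹ * w * a = w := by
      rw [mul_assoc, ← mem_centralizer_singleton_iff.1 hca, inv_mul_cancel_left]
    rw [mem_cj, hfix']; exact hw
  have hab' : ∀ u ∈ UB, ⁅a, u⁆ ∈ IX := fun u hu => ⟨h.quad hXP hXm ha hu.1, by
    rw [← cent_cj (h.hPV hbP)]
    exact h.pair_sum hA₀P hA₀ hX (hX.cj hbP) (Ne.symm hbX)
      (hconj X hX le_sup_left b (le_sup_right (a := X) hb)) ha hu.1⟩
  -- `U_B / I_Y` embeds into `I_X / (I_X ∩ U_B)`
  have hkey : ∀ u ∈ UB, ⁅a, u⁆ ∈ UB → a * u * a⁻¹ ∈ IY := fun u hu hc => by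
    refine ⟨?_, conj_mem_cj hu⟩
    rw [conj_eq]; exact UB.mul_mem hc hu
  have hcommU : ∀ u ∈ UB, ∀ w ∈ UB, ⁅a, u * w⁆ = ⁅a, u⁆ * ⁅a, w⁆ := fun u hu w hw => by
    have : ⁅a, u * w⁆ = ⁅a, u⁆ * (u * ⁅a, w⁆ * u⁻¹) := by simp only [commutatorElement_def]; group
    rw [this, h.comm u hu.1 _ (hab' w hw).1.1, mul_inv_cancel_right]
  have hfixI : ∀ w ∈ IX, a * w * a⁻¹ = w := fun w hw => by
    rw [mem_centralizer_iff.1 hw.1.2 a ha, mul_inv_cancel_right]
  let ψ : UB ⧸ (cj a⁻¹ IY).subgroupOf UB → IX ⧸ UB.subgroupOf IX := fun q =>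
    QuotientGroup.mk ⟨⁅a, ((Quotient.out q : UB) : G)⁆, hab' _ (Quotient.out q : UB).2⟩
  have hψ : Function.Injective ψ := by
    intro q₁ q₂ e
    rw [← QuotientGroup.out_eq' q₁, ← QuotientGroup.out_eq' q₂, QuotientGroup.eq, mem_subgroupOf]
    rw [QuotientGroup.eq, mem_subgroupOf] at e
    simp only [coe_mul, coe_inv] at e ⊢
    set u : G := ((Quotient.out q₁ : UB) : G)
    set w : G := ((Quotient.out q₂ : UB) : G)
    have hu : u ∈ UB := (Quotient.out q₁ : UB).2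
    have hw : w ∈ UB := (Quotient.out q₂ : UB).2
    have h1 : ⁅a, u⁻¹ * w⁆ = ⁅a, u⁆⁻¹ * ⁅a, w⁆ := by
      rw [hcommU _ (UB.inv_mem hu) _ hw]
      congr 1
      exact eq_inv_of_mul_eq_one_left (by
        rw [← hcommU _ (UB.inv_mem hu) _ hu, inv_mul_cancel, commutatorElement_one_right])
    have := hkey _ (UB.mul_mem (UB.inv_mem hu) hw) (h1 ▸ e)
    rw [mem_cj, inv_inv]
    exact this
  have hc1 : (cj a⁻¹ IY).relIndex UB ≤ UB.relIndex IX := Nat.card_le_card_of_injective ψ hψ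
  have hIY : IY ≤ V := fun w hw => hw.1.1
  have hIYle : cj a⁻¹ IY ≤ UB := by
    intro w hw
    rw [mem_cj, inv_inv] at hw
    have := mem_cj.1 hw.2
    rwa [show a⁻¹ * (a * w * a⁻¹) * a = w by group] at this
  have e1 : Nat.card IY * (cj a⁻¹ IY).relIndex UB = Nat.card UB := by
    rw [← card_cj a⁻¹ IY, ← relIndex_bot_left, ← relIndex_bot_left,
      relIndex_mul_relIndex _ _ _ bot_le hIYle]
  have e2 : Nat.card ↥(UB ⊓ IX) * UB.relIndex IX = Nat.card IX := by
    rw [← inf_relIndex_right, ← relIndex_bot_left, ← relIndex_bot_left,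
      relIndex_mul_relIndex _ _ _ bot_le inf_le_right]
  have hJ : UB ⊓ IX = IX ⊓ IY := le_antisymm (fun w hw => ⟨hw.2, hw.1, hab w hw.1 hw.2⟩)
    (fun w hw => ⟨hw.2.1, hw.1⟩)
  have hJ2 : UA ⊓ IY ≤ IX ⊓ IY := fun w hw => ⟨⟨hw.1, hba w hw.1 hw.2⟩, hw.2⟩
  -- the two intersections have the same order
  have hcardI : ∀ (Z : Subgroup G) (r : G), Mem P A₀ Z → r ∈ P → r ∈ R → Z ≤ R → cj r Z ≠ Z →
      Nat.card ↥((V ⊓ centralizer (Z : Set G)) ⊓ cj r (V ⊓ centralizer (Z : Set G))) * Nat.card V =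
        Nat.card ↥(V ⊓ centralizer (Z : Set G)) * Nat.card ↥(V ⊓ centralizer (Z : Set G)) := by
    intro Z r hZ hr hrR hZR hne
    have hZP := h.mem_le hA₀P hA₀ hZ
    have hZm := h.mem_minOff hA₀P hA₀ hZ
    have hc := hconj Z hZ hZR r hrR
    set U₁ := V ⊓ centralizer (Z : Set G)
    set U₂ := cj r U₁ with hU₂
    have h2' : U₂ = V ⊓ centralizer ((cj r Z : Subgroup G) : Set G) := (cent_cj (h.hPV hr)).symm
    have hU₂V : U₂ ≤ V := h2' ▸ inf_le_left
    have hb' : Nat.card ↥(Z ⊔ cj r Z) * Nat.card ↥(U₁ ⊓ U₂) ≤ Nat.card V := by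
      have hn2 : Z ≤ normalizer ((cj r Z : Subgroup G) : Set G) := fun x hx =>
        centralizer_le_normalizer _ (mem_centralizer_iff.2 fun y hy => (hc x hx y hy).symm)
      have hmem : ∀ d ∈ Z ⊔ cj r Z, ∃ x ∈ Z, ∃ y ∈ cj r Z, d = x * y := fun d hd => by
        rw [← SetLike.mem_coe, coe_mul_of_left_le_normalizer_right _ _ hn2] at hd
        obtain ⟨x, hx, y, hy, rfl⟩ := hd
        exact ⟨x, hx, y, hy, rfl⟩
      have hrm := hZm.cj (h.hPV hr)
      refine le_trans (Nat.mul_le_mul_left _ (card_le_of_le ?_))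
        (h.bound (sup_le hZP (cj_le hr hZP)) ?_ ?_)
      · rw [Cfsg.Agent.H34.centralizer_sup_eq, h2']
        exact fun v hv => ⟨hv.1.1, hv.1.2, hv.2.2⟩
      · intro d hd e he
        obtain ⟨x, hx, y, hy, rfl⟩ := hmem d hd
        obtain ⟨x', hx', y', hy', rfl⟩ := hmem e he
        calc x * y * (x' * y') = x * (y * x') * y' := by group
          _ = x * (x' * y) * y' := by rw [hc x' hx' y hy]
          _ = (x * x') * (y * y') := by group
          _ = (x' * x) * (y' * y) := by rw [hZm.commA x hx x' hx', hrm.commA y hy y' hy']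
          _ = x' * (x * y') * y := by group
          _ = x' * (y' * x) * y := by rw [hc x hx y' hy']
          _ = x' * y' * (x * y) := by group
      · intro d hd
        obtain ⟨x, hx, y, hy, rfl⟩ := hmem d hd
        rw [(show Commute x y from hc x hx y hy).mul_pow, hZm.expA x hx, hrm.expA y hy, one_mul]
    have hd : Z ⊓ cj r Z = ⊥ := le_bot_iff.1 fun x hx => by
      by_contra h1'
      exact hne (h.ti hZP hZm (cj_le hr hZP) (hZm.cj (h.hPV hr)) hx.1 hx.2
        (fun e => h1' (by rw [e]; exact one_mem _))).symm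
    have k1 := Cfsg.Agent.H34.card_mul_card_le Z (cj r Z)
    rw [hd, card_bot, mul_one, card_cj] at k1
    have k2 := Cfsg.Agent.H34.card_mul_card_le U₁ U₂
    rw [hU₂, card_cj, ← hU₂] at k2
    have k3 := card_le_of_le (sup_le (inf_le_left : U₁ ≤ V) hU₂V)
    refine le_antisymm ?_ (k2.trans ((Nat.mul_le_mul_right _ k3).trans_eq (mul_comm _ _)))
    refine Nat.le_of_mul_le_mul_right (c := Nat.card V) ?_ Nat.card_pos
    calc Nat.card ↥(U₁ ⊓ U₂) * Nat.card V * Nat.card V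
        = (Nat.card Z * Nat.card Z * Nat.card ↥(U₁ ⊓ U₂)) * (Nat.card U₁ * Nat.card U₁) := by
          rw [h.card_eq hZP hZm]; ring
      _ ≤ (Nat.card ↥(Z ⊔ cj r Z) * Nat.card ↥(U₁ ⊓ U₂)) * (Nat.card U₁ * Nat.card U₁) := by gcongr
      _ ≤ Nat.card V * (Nat.card U₁ * Nat.card U₁) := Nat.mul_le_mul_right _ hb'
      _ = _ := mul_comm _ _
  have hIXc := hcardI X b hX hbP (le_sup_right (a := X) hb) le_sup_left hbX
  have hIYc := hcardI Y a hY haP (le_sup_left (b := Y) ha) le_sup_right (fun e => haY (by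
    have := congrArg (cj a₀) e
    rw [← cj_mul, mul_inv_cancel, cj_one] at this
    exact this.symm))
  have eX := h.card_eq hXP hXm
  have eY := h.card_eq hYP hYm
  rw [hqX] at eX
  rw [hqY] at eY
  have hUU : Nat.card UA = Nat.card UB := Nat.eq_of_mul_eq_mul_left Nat.card_pos (eX.symm.trans eY)
  have hII : Nat.card IX = Nat.card IY := by
    refine Nat.eq_of_mul_eq_mul_right Nat.card_pos (hIXc.trans ?_)
    rw [hIYc, hUU]
  -- hence `V = U_A + I_Y`
  have hVsum : V ≤ UA ⊔ IY := by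
    refine (eq_of_le_of_card_ge (sup_le inf_le_left hIY) ?_).ge
    have k1 := Cfsg.Agent.H34.card_mul_card_le UA IY
    refine Nat.le_of_mul_le_mul_right (c := Nat.card ↥(IX ⊓ IY)) ?_ Nat.card_pos
    refine le_trans ?_ (le_trans k1 (Nat.mul_le_mul_left _ (card_le_of_le hJ2)))
    have h2 : Nat.card UB * Nat.card ↥(IX ⊓ IY) ≤ Nat.card IY * Nat.card IY := by
      rw [← e1]
      calc Nat.card IY * (cj a⁻¹ IY).relIndex UB * Nat.card ↥(IX ⊓ IY)
          ≤ Nat.card IY * UB.relIndex IX * Nat.card ↥(IX ⊓ IY) := by gcongr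
        _ = Nat.card IY * (Nat.card ↥(UB ⊓ IX) * UB.relIndex IX) := by rw [hJ]; ring
        _ = _ := by rw [e2, hII]
    refine Nat.le_of_mul_le_mul_right (c := Nat.card IY) ?_ Nat.card_pos
    calc Nat.card V * Nat.card ↥(IX ⊓ IY) * Nat.card IY
        = (Nat.card IY * Nat.card V) * Nat.card ↥(IX ⊓ IY) := by ring
      _ = Nat.card UB * (Nat.card UB * Nat.card ↥(IX ⊓ IY)) := by rw [hIYc]; ring
      _ ≤ Nat.card UB * (Nat.card IY * Nat.card IY) := Nat.mul_le_mul_left _ h2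
      _ = _ := by rw [hUU]; ring
  refine haY (h.cj_fixed_eq hA₀P hA₀ hY (hXP ha₀) fun u hu => ?_)
  -- `[V, a₀] ≤ U_B`
  obtain ⟨d, hd, e, he, hde⟩ : ∃ d ∈ UA, ∃ e ∈ IY, u = d * e := by
    have hu' := hVsum hu.1
    have hn' : UA ≤ normalizer (IY : Set G) := fun x hx =>
      centralizer_le_normalizer _ (mem_centralizer_iff.2 fun y hy => h.comm y (hIY hy) x hx.1)
    rw [← SetLike.mem_coe, coe_mul_of_left_le_normalizer_right _ _ hn'] at hu'
    obtain ⟨d, hd, e, he, rfl⟩ := hu'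
    exact ⟨d, hd, e, he, rfl⟩
  have hee : ⁅a₀, e⁆ ∈ UB := by
    rw [commutatorElement_def]
    refine UB.mul_mem ?_ (UB.inv_mem he.1)
    have h3 := mem_cj.1 he.2
    simpa [a] using h3
  have e1 : ⁅a₀, d * e⁆ = ⁅a₀, d⁆ * (d * ⁅a₀, e⁆ * d⁻¹) := by
    simp only [commutatorElement_def]; group
  rw [hde, e1, commutatorElement_eq_one_iff_mul_comm.2 (mem_centralizer_iff.1 hd.2 a₀ ha₀), one_mul,
    h.comm d hd.1 _ hee.1, mul_inv_cancel_right]
  exact hee

end Cfsg.Agent.H34.Para
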