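import Cfsg.Prelude.Def_PLocal
import Cfsg.Prelude.Def_LocalEven
import Cfsg.Agent.H34.Para.Members
import Cfsg.Agent.H74.PMinimalBasic
import Mathlib

/-!
From a `p`-minimal group with an offender to the hypotheses of the structure theorems.
-/

set_option autoImplicit false
set_option linter.style.haveILetI false

namespace Cfsg.Agent.H34.Para

open Subgroup
open Cfsg.Agent.H34.MinOffender
open scoped commutatorElement

variable {G : Type*} [Group G] {p : ℕ} {V P : Subgroup G}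

theorem pmin_of [Finite G] [Fact p.Prime] (hmin : Cfsg.IsPMinimal p ↥P) (T : Sylow p ↥P) {M : Subgroup ↥P}
    (hM : IsCoatom M) (hTM : (T : Subgroup ↥P) ≤ M) :
    PMin p P ((T : Subgroup ↥P).map P.subtype) (M.map P.subtype) where
  hTM := map_mono hTM
  hMP := map_subtype_le M
  hne := fun e => hM.1 (map_injective P.subtype_injective (by
    rw [e, ← MonoidHom.range_eq_map, Subgroup.range_subtype]))
  Tp := T.2.map _
  syl := fun R hRP hR hTR => by
    have h1 : IsPGroup p ↥(R.subgroupOf P) := hR.of_equiv (subgroupOfEquivOfLe hRP).symm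
    have h2 : (T : Subgroup ↥P) ≤ R.subgroupOf P := fun t ht => hTR (mem_map_of_mem _ ht)
    have h3 := T.is_maximal' h1 h2
    rw [← h3, map_subgroupOf_eq_of_le hRP]
  max := fun X hXP hTX hne => by
    have h1 : X.subgroupOf P ≠ ⊤ := fun e => hne (le_antisymm hXP (subgroupOf_eq_top.1 e))
    have h2 := Cfsg.Agent.H74.pmin_le hmin hM hTM
      (fun t (ht : t ∈ (T : Subgroup ↥P)) => hTX (mem_map_of_mem _ ht)) h1
    rw [← map_subgroupOf_eq_of_le hXP]
    exact map_mono h2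

theorem op1_of (hOp : Cfsg.pCore p ↥P = ⊥) :
    ∀ K ≤ P, IsPGroup p K → P ≤ normalizer (K : Set G) → K = ⊥ := by
  intro K hKP hK hn
  haveI : (K.subgroupOf P).Normal := (normal_subgroupOf_iff_le_normalizer hKP).2 hn
  have hle : K.subgroupOf P ≤ Cfsg.pCore p ↥P :=
    le_sSup ⟨inferInstance, hK.of_equiv (subgroupOfEquivOfLe hKP).symm⟩
  rw [hOp, le_bot_iff, subgroupOf_eq_bot, disjoint_iff, inf_eq_left.2 hKP] at hle
  exact hle

/-- A best offender of a faithful action is elementary and large. -/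
theorem offender_of (hfaith : P ⊓ centralizer (V : Set G) = ⊥) {A : Subgroup G} (hAP : A ≤ P)
    (hAV : ¬ A ≤ centralizer (V : Set G)) (hA : Cfsg.IsBestOffenderOn p V A) :
    A ≠ ⊥ ∧ (∀ a ∈ A, ∀ b ∈ A, a * b = b * a) ∧ (∀ a ∈ A, a ^ p = 1) ∧
      Nat.card V ≤ Nat.card A * Nat.card ↥(V ⊓ centralizer (A : Set G)) := by
  obtain ⟨hbest, hcomm, hexp⟩ := hA
  refine ⟨fun e => hAV (e.le.trans bot_le), fun a ha b hb => ?_, fun a ha => ?_, ?_⟩
  · refine commutatorElement_eq_one_iff_mul_comm.1 ?_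
    rw [← mem_bot, ← hfaith]
    have hc := commutator_mem_commutator ha hb
    exact ⟨hAP (A.commutator_le_self hc), hcomm hc⟩
  · rw [← mem_bot, ← hfaith]
    exact ⟨P.pow_mem (hAP ha) p, hexp a ha⟩
  · have h1 := hbest ⊥ bot_le
    have h2 : centralizer ((⊥ : Subgroup G) : Set G) = ⊤ := by
      ext x; simp [mem_centralizer_iff]
    rwa [card_bot, one_mul, h2, inf_top_eq] at h1

/-- A minimal offender in a group with an offender. -/
theorem exists_minOff [Finite G] {A : Subgroup G} (hAP : A ≤ P) (hne : A ≠ ⊥)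
    (hAc : ∀ a ∈ A, ∀ b ∈ A, a * b = b * a) (hAe : ∀ a ∈ A, a ^ p = 1)
    (hAl : Nat.card V ≤ Nat.card A * Nat.card ↥(V ⊓ centralizer (A : Set G))) :
    ∃ A₀ : Subgroup G, A₀ ≤ P ∧ MinOff p V A₀ := by
  let good : Set (Subgroup G) := {B | B ≤ P ∧ B ≠ ⊥ ∧ (∀ a ∈ B, ∀ b ∈ B, a * b = b * a) ∧
    (∀ a ∈ B, a ^ p = 1) ∧ Nat.card V ≤ Nat.card B * Nat.card ↥(V ⊓ centralizer (B : Set G))}
  obtain ⟨A₀, ⟨h1, h2, h3, h4, h5⟩, hmin⟩ :=
    Set.exists_min_image good (fun B => Nat.card B) (Set.toFinite good) ⟨A, hAP, hne, hAc, hAe, hAl⟩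
  refine ⟨A₀, h1, h3, h4, h2, h5, fun B hB hBne hBA => lt_of_not_ge fun hge => hBA ?_⟩
  exact eq_of_le_of_card_ge hB (hmin B ⟨hB.trans h1, hBne, fun a ha b hb => h3 a (hB ha) b (hB hb),
    fun a ha => h4 a (hB ha), h5.trans hge⟩)

end Cfsg.Agent.H34.Para
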