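import Cfsg.Agent.H34.Para.LiftLarge
import Cfsg.Agent.H34.Para.Setup
import Mathlib

/-!
The reduction to a faithful irreducible section: an offender moves a fixed point of the Sylow subgroup.
-/

set_option autoImplicit false
set_option linter.style.haveILetI false
set_option maxHeartbeats 1000000

namespace Cfsg.Agent.H34.Para

open Subgroup
open Cfsg.Agent.H34.MinOffender
open scoped commutatorElement

universe u

variable {G : Type u} [Group G] [Finite G] {p : ℕ} [Fact p.Prime]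

/-- A `p`-group acting on an elementary abelian group fixes a nontrivial element. -/
theorem exists_fixed_ne_one {T V : Subgroup G} (hT : IsPGroup p T) (hTV : T ≤ normalizer (V : Set G))
    (hexp : ∀ v ∈ V, v ^ p = 1) (hne : V ≠ ⊥) : ∃ v ∈ V, v ≠ 1 ∧ ∀ t ∈ T, t * v = v * t := by
  letI : MulAction ↥T ↥V :=
    { smul := fun t v => ⟨(t : G) * v * (t : G)⁻¹, Cfsg.Agent.H34.conj_mem_of_mem_normalizer (hTV t.2) v.2⟩
      one_smul := fun v => Subtype.ext (show (1 : G) * v * (1 : G)⁻¹ = v by group)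
      mul_smul := fun s t v => Subtype.ext (show ((s : G) * t) * v * ((s : G) * t)⁻¹ =
        (s : G) * ((t : G) * v * (t : G)⁻¹) * (s : G)⁻¹ by group) }
  obtain ⟨v, hv, hv1⟩ := (bot_or_exists_ne_one V).resolve_left hne
  have hdvd : p ∣ Nat.card ↥V := by
    have : orderOf (⟨v, hv⟩ : ↥V) = p := orderOf_eq_prime (Subtype.ext (by simpa using hexp v hv))
      (fun e => hv1 (congrArg Subtype.val e))
    exact this ▸ orderOf_dvd_natCard _
  obtain ⟨b, hb, hb1⟩ := hT.exists_fixed_point_of_prime_dvd_card_of_fixed_point ↥V hdvd (a := 1)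
    fun t => Subtype.ext (show (t : G) * 1 * (t : G)⁻¹ = 1 by group)
  refine ⟨b, b.2, fun e => hb1 (Subtype.ext e.symm), fun t ht => ?_⟩
  have e : t * (b : G) * t⁻¹ = b := congrArg Subtype.val (hb ⟨t, ht⟩)
  conv_rhs => rw [← e]
  group

variable {V P T M : Subgroup G}

/-- A normal subgroup inside `M` meets `T` trivially. -/
theorem PMin.inf_eq_bot (h : PMin p P T M)
    (op1 : ∀ K ≤ P, IsPGroup p K → P ≤ normalizer (K : Set G) → K = ⊥) {N : Subgroup G} (hNM : N ≤ M)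
    (hNn : ∀ k ∈ P, cj k N = N) : T ⊓ N = ⊥ := by
  set Q := T ⊓ N
  refine op1 Q (inf_le_left.trans h.hTP) (h.Tp.to_le inf_le_left) ?_
  have hTQ : T ≤ P ⊓ normalizer (Q : Set G) := fun t ht => ⟨h.hTP ht, by
    refine mem_normalizer_of_cj_eq (eq_of_le_of_card_ge (le_inf ?_ ?_) (card_cj _ _).ge)
    · exact (cj_mono t inf_le_left).trans (cj_le_self ht)
    · exact (cj_mono t inf_le_right).trans (hNn t (h.hTP ht)).le⟩
  by_contra hne
  have hQM := h.max _ inf_le_left hTQ fun e => hne fun g hg => (e.symm.le hg).2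
  refine h.hne (le_antisymm h.hMP fun g hg => ?_)
  have hQg : cj g Q ≤ N := (cj_mono g inf_le_right).trans (hNn g hg).le
  obtain ⟨m, hm, hmT⟩ := h.sylow_conj (H := N ⊔ T) (sup_le (hNM.trans h.hMP) h.hTP) le_sup_right
    (hQg.trans le_sup_left) ((h.Tp.to_le inf_le_left).map _)
  have hmM : m ∈ M := sup_le hNM h.hTM hm
  have hmP := h.hMP hmM
  have h1 : cj (m * g) Q = Q := by
    refine eq_of_le_of_card_ge (le_inf ?_ ?_) (card_cj _ _).ge
    · rw [cj_mul]; exact hmT
    · exact (cj_mono _ inf_le_right).trans (hNn _ (P.mul_mem hmP hg)).le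
  have := hQM ⟨P.mul_mem hmP hg, mem_normalizer_of_cj_eq h1⟩
  simpa using M.mul_mem (M.inv_mem hmM) this

/-- A normal subgroup inside `M` has order prime to `p`. -/
theorem PMin.coprime_of_le (h : PMin p P T M)
    (op1 : ∀ K ≤ P, IsPGroup p K → P ≤ normalizer (K : Set G) → K = ⊥) {N : Subgroup G} (hNM : N ≤ M)
    (hNn : ∀ k ∈ P, cj k N = N) {g : G} (hg : g ∈ N) : ¬ p ∣ orderOf g := by
  intro hdvd
  set a := g ^ (orderOf g / p)
  have ha : orderOf a = p := orderOf_pow_orderOf_div (orderOf_pos g).ne' hdvd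
  have hap : IsPGroup p ↥(zpowers a) := IsPGroup.of_card (n := 1) (by rw [Nat.card_zpowers, ha, pow_one])
  have haN : a ∈ N := N.pow_mem hg _
  obtain ⟨x, hx, hxT⟩ := h.sylow_conj le_rfl h.hTP (zpowers_le.2 ((hNM.trans h.hMP) haN)) hap
  have h1 : x * a * x⁻¹ ∈ T ⊓ N := ⟨hxT (conj_mem_cj (mem_zpowers a)), (hNn x hx).le (conj_mem_cj haN)⟩
  rw [h.inf_eq_bot op1 hNM hNn, mem_bot, conj_eq_one_iff] at h1
  rw [h1, orderOf_one] at ha
  exact (Fact.out : p.Prime).ne_one ha.symm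

omit [Finite G] [Fact p.Prime] in
/-- Two different base points for a lift. -/
def Lift.rebase {U : Type*} [AddCommGroup U] {A₀ A : Subgroup G} (Lf : Lift p V P T A₀ U) (hA₀P : A₀ ≤ P)
    (hA : Mem P A₀ A) : Lift p V P T A U :=
  { Lf with fix := fun _ ha _ hu => Lf.fix_mem hA₀P hA ha hu }

set_option maxHeartbeats 4000000 in
/-- An offender moves a fixed point of `T`. -/
theorem fixed_moved (comm : ∀ a ∈ V, ∀ b ∈ V, a * b = b * a) (expV : ∀ v ∈ V, v ^ p = 1)
    (hPV : P ≤ normalizer (V : Set G)) (faith : P ⊓ centralizer (V : Set G) = ⊥) (pm : PMin p P T M)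
    (op1 : ∀ K ≤ P, IsPGroup p K → P ≤ normalizer (K : Set G) → K = ⊥) {A : Subgroup G} (hAP : A ≤ P)
    (hne : A ≠ ⊥) (hAc : ∀ a ∈ A, ∀ b ∈ A, a * b = b * a) (hAe : ∀ a ∈ A, a ^ p = 1)
    (hbest : ∀ B ≤ A, Nat.card B * Nat.card ↥(V ⊓ centralizer (B : Set G)) ≤
      Nat.card A * Nat.card ↥(V ⊓ centralizer (A : Set G))) :
    ∃ z ∈ V, z ∈ centralizer (T : Set G) ∧ z ∉ centralizer (P : Set G) := by
  classical
  by_contra hcon
  push Not at hcon
  have hTP := pm.hTP
  -- elements of order prime to `p`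
  let D : Subgroup G := closure {g | g ∈ P ∧ ¬ p ∣ orderOf g}
  have hDP : D ≤ P := (closure_le _).2 fun g hg => hg.1
  let V1 : Subgroup G := V ⊓ centralizer (D : Set G)
  have hconjV : ∀ g ∈ P, ∀ v ∈ V, g * v * g⁻¹ ∈ V := fun g hg v hv =>
    Cfsg.Agent.H34.conj_mem_of_mem_normalizer (hPV hg) hv
  have hV1P : ∀ g ∈ P, ∀ v ∈ V1, g * v * g⁻¹ ∈ V1 := by
    intro g hg v hv
    refine ⟨hconjV g hg v hv.1, ?_⟩
    show g * v * g⁻¹ ∈ centralizer (↑(closure {g | g ∈ P ∧ ¬ p ∣ orderOf g}) : Set G)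
    rw [centralizer_closure, mem_centralizer_iff]
    rintro x ⟨hx, hxo⟩
    have hx' : g⁻¹ * x * g ∈ D := subset_closure ⟨P.mul_mem (P.mul_mem (P.inv_mem hg) hx) hg, by
      have e : orderOf (g⁻¹ * x * g) = orderOf x := by
        have := MulEquiv.orderOf_eq (MulAut.conj g⁻¹) x
        simpa using this
      rwa [e]⟩
    have e1 := mem_centralizer_iff.1 hv.2 _ hx'
    calc x * (g * v * g⁻¹) = g * (g⁻¹ * x * g * v) * g⁻¹ := by group
      _ = g * (v * (g⁻¹ * x * g)) * g⁻¹ := by rw [e1]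
      _ = g * v * g⁻¹ * x := by group
  have hfixed : ∀ v ∈ V, (∀ t ∈ T, t * v = v * t) → v ∈ V1 := fun v hv hvT =>
    ⟨hv, centralizer_le (SetLike.coe_subset_coe.2 hDP)
      (hcon v hv (mem_centralizer_iff.2 fun t ht => hvT t ht))⟩
  have hV1ne : ¬ V ≤ V1 := by
    intro hle
    have hD : D ≤ P ⊓ centralizer (V : Set G) :=
      le_inf hDP (le_centralizer_iff.1 (hle.trans inf_le_right))
    rw [faith, le_bot_iff] at hD
    have hPp : IsPGroup p P := by
      rintro ⟨g, hg⟩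
      refine ⟨(orderOf g).factorization p, Subtype.ext ?_⟩
      show g ^ p ^ (orderOf g).factorization p = 1
      rw [← mem_bot, ← hD]
      refine subset_closure ⟨P.pow_mem hg _, ?_⟩
      rw [orderOf_pow' g (pow_ne_zero _ (Fact.out : p.Prime).ne_zero),
        Nat.gcd_eq_right (Nat.ordProj_dvd (orderOf g) p)]
      exact Nat.not_dvd_ordCompl Fact.out (orderOf_pos g).ne'
    have := pm.syl P le_rfl hPp hTP
    exact pm.hne (le_antisymm pm.hMP (this.le.trans pm.hTM))
  -- a minimal invariant subgroup above `V1`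
  obtain ⟨W, ⟨hV1W, hWV, hWne, hWP⟩, hWmin⟩ := Set.exists_min_image
    {X : Subgroup G | V1 ≤ X ∧ X ≤ V ∧ ¬ X ≤ V1 ∧ ∀ g ∈ P, ∀ v ∈ X, g * v * g⁻¹ ∈ X}
    (fun X => Nat.card X) (Set.toFinite _) ⟨V, inf_le_left, le_rfl, hV1ne, hconjV⟩
  have hWc : ∀ a ∈ W, ∀ b ∈ W, a * b = b * a := fun a ha b hb => comm a (hWV ha) b (hWV hb)
  -- stabilisers of the series
  have hcm : ∀ g ∈ P, ∀ w ∈ W, ⁅g, w⁆ ∈ W := fun g hg w hw => by
    rw [commutatorElement_def]; exact W.mul_mem (hWP g hg w hw) (W.inv_mem hw)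
  have hstab : ∀ g ∈ P, ¬ p ∣ orderOf g → ∀ w ∈ W, ⁅g, w⁆ ∈ V1 → g * w = w * g := by
    intro g hg hgo w hw hc
    set v := ⁅g, w⁆ with hv
    have hgv : g * v * g⁻¹ = v := by
      rw [mem_centralizer_iff.1 hc.2 g (subset_closure ⟨hg, hgo⟩), mul_inv_cancel_right]
    have hn : ∀ n : ℕ, g ^ n * w * (g ^ n)⁻¹ = v ^ n * w := by
      intro n
      induction n with
      | zero => simp
      | succ n ih =>
        calc g ^ (n + 1) * w * (g ^ (n + 1))⁻¹ = g * (g ^ n * w * (g ^ n)⁻¹) * g⁻¹ := by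
              rw [pow_succ']; group
          _ = g * (v ^ n * w) * g⁻¹ := by rw [ih]
          _ = (g * v * g⁻¹) ^ n * (g * w * g⁻¹) := by rw [conj_pow]; group
          _ = v ^ n * (v * w) := by rw [hgv, conj_eq]
          _ = v ^ (n + 1) * w := by rw [pow_succ, mul_assoc]
    have h1 := hn (orderOf g)
    rw [pow_orderOf_eq_one, one_mul, inv_one, mul_one, eq_comm, mul_eq_right] at h1
    have h2 : v = 1 := by
      have hcop : Nat.Coprime (orderOf g) p :=
        ((Fact.out : p.Prime).coprime_iff_not_dvd.2 hgo).symm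
      have := (pow_gcd_eq_one (a := v) (m := orderOf g) (n := p)).2 ⟨h1, expV v hc.1⟩
      rwa [hcop, pow_one] at this
    exact commutatorElement_eq_one_iff_mul_comm.1 h2
  -- the kernel on the section
  have hnoinv : ∀ w ∈ W, (∀ g ∈ P, ⁅g, w⁆ ∈ V1) → w ∈ V1 := by
    intro w hw hwP
    by_contra hw1
    let X : Subgroup G :=
      { carrier := {x | x ∈ W ∧ ∀ g ∈ P, ⁅g, x⁆ ∈ V1}
        one_mem' := ⟨W.one_mem, fun g _ => by simp [one_mem]⟩
        mul_mem' := by
          rintro a b ⟨ha, a1⟩ ⟨hb, b1⟩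
          refine ⟨W.mul_mem ha hb, fun g hg => ?_⟩
          have hbW := hcm g hg b hb
          rw [show ⁅g, a * b⁆ = ⁅g, a⁆ * (a * ⁅g, b⁆ * a⁻¹) by simp only [commutatorElement_def]; group,
            hWc a ha _ hbW, mul_inv_cancel_right]
          exact V1.mul_mem (a1 g hg) (b1 g hg)
        inv_mem' := by
          rintro a ⟨ha, a1⟩
          refine ⟨W.inv_mem ha, fun g hg => ?_⟩
          rw [show ⁅g, a⁻¹⁆ = a⁻¹ * ⁅g, a⁆⁻¹ * a by simp only [commutatorElement_def]; group,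
            hWc a⁻¹ (W.inv_mem ha) _ (W.inv_mem (hcm g hg a ha)), inv_mul_cancel_right]
          exact V1.inv_mem (a1 g hg) }
    have hXmem : X ∈ {X : Subgroup G | V1 ≤ X ∧ X ≤ V ∧ ¬ X ≤ V1 ∧ ∀ g ∈ P, ∀ v ∈ X, g * v * g⁻¹ ∈ X} := by
      refine ⟨fun v hv => ⟨hV1W hv, fun g hg => ?_⟩, fun x hx => hWV hx.1, fun h => hw1 (h ⟨hw, hwP⟩),
        fun g hg x hx => ⟨hWP g hg x hx.1, fun k hk => ?_⟩⟩
      · rw [commutatorElement_def]; exact V1.mul_mem (hV1P g hg v hv) (V1.inv_mem hv)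
      · have e := hV1P g hg _ (hx.2 (g⁻¹ * k * g) (P.mul_mem (P.mul_mem (P.inv_mem hg) hk) hg))
        rwa [comm_conj, show g * (g⁻¹ * k * g) * g⁻¹ = k by group] at e
    have hXW : X = W := eq_of_le_of_card_ge (fun x hx => hx.1) (hWmin X hXmem)
    refine hWne fun x hx => ⟨hWV hx, ?_⟩
    show x ∈ centralizer (↑(closure {g | g ∈ P ∧ ¬ p ∣ orderOf g}) : Set G)
    rw [centralizer_closure, mem_centralizer_iff]
    rintro g ⟨hg, hgo⟩
    exact hstab g hg hgo x hx ((hXW.ge hx).2 g hg)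
  -- the quotient
  haveI : (V1.subgroupOf W).Normal := ⟨fun n hn g => by
    rw [mem_subgroupOf] at hn ⊢
    rw [show ((g * n * g⁻¹ : ↥W) : G) = (g : G) * n * (g : G)⁻¹ from rfl, hWc _ g.2 _ (hV1W hn),
      mul_inv_cancel_right]
    exact hn⟩
  let fW : ↥P → ↥W →* ↥W := fun g => MonoidHom.mk'
    (fun w => ⟨(g : G) * w * (g : G)⁻¹, hWP g g.2 w w.2⟩) (fun a b => Subtype.ext (by simp only [coe_mul]; group))
  let Fq : ↥P → ↥W ⧸ V1.subgroupOf W →* ↥W ⧸ V1.subgroupOf W := fun g =>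
    QuotientGroup.map _ _ (fW g) fun w hw => hV1P g g.2 w hw
  have hFq_mul : ∀ g k x, Fq (g * k) x = Fq g (Fq k x) := fun g k x => by
    induction x using QuotientGroup.induction_on with
    | H w => exact congrArg QuotientGroup.mk (Subtype.ext (by simp [fW, mul_assoc]))
  have hFq_one : ∀ x, Fq 1 x = x := fun x => by
    induction x using QuotientGroup.induction_on with
    | H w => exact congrArg QuotientGroup.mk (Subtype.ext (by simp [fW]))
  let π : ↥P →* Equiv.Perm (↥W ⧸ V1.subgroupOf W) := MonoidHom.mk'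
    (fun g => ⟨Fq g, Fq g⁻¹, fun x => by rw [← hFq_mul, inv_mul_cancel, hFq_one],
      fun x => by rw [← hFq_mul, mul_inv_cancel, hFq_one]⟩)
    (fun g k => Equiv.ext fun x => hFq_mul g k x)
  let θ : ↥W →* Equiv.Perm (↥W ⧸ V1.subgroupOf W) :=
    (MulAction.toPermHom (↥W ⧸ V1.subgroupOf W) (↥W ⧸ V1.subgroupOf W)).comp (QuotientGroup.mk' _)
  have hθconj : ∀ g w, π g * θ w * (π g)⁻¹ = θ (fW g w) := by
    intro g w
    ext x
    show Fq g (QuotientGroup.mk w * Fq g⁻¹ x) = QuotientGroup.mk (fW g w) * x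
    rw [map_mul, ← hFq_mul, mul_inv_cancel, hFq_one]
    rfl
  have hθker : ∀ w, θ w = 1 ↔ (w : G) ∈ V1 := by
    intro w
    rw [← mem_subgroupOf, ← QuotientGroup.eq_one_iff]
    constructor
    · intro h
      have := Equiv.ext_iff.1 h 1
      change (QuotientGroup.mk w : ↥W ⧸ V1.subgroupOf W) * 1 = 1 at this
      rwa [mul_one] at this
    · intro h
      ext x
      show (QuotientGroup.mk w : ↥W ⧸ V1.subgroupOf W) * x = x
      rw [h, one_mul]
  have hπker : ∀ g, π g = 1 ↔ ∀ w ∈ W, ⁅(g : G), w⁆ ∈ V1 := by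
    intro g
    constructor
    · intro h w hw
      have e := hθconj g ⟨w, hw⟩
      rw [h, inv_one, one_mul, mul_one] at e
      have e1 := (hθker _).1 (show θ (fW g ⟨w, hw⟩ * (⟨w, hw⟩ : ↥W)⁻¹) = 1 by
        rw [map_mul, map_inv, ← e, mul_inv_cancel])
      rw [commutatorElement_def]
      exact e1
    · intro h
      ext x
      induction x using QuotientGroup.induction_on with
      | H w =>
        show QuotientGroup.mk (fW g w) = QuotientGroup.mk w
        rw [QuotientGroup.eq, mem_subgroupOf]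
        have e := V1.inv_mem (h w w.2)
        rw [commutatorElement_inv, commutatorElement_def] at e
        show ((g : G) * (w : G) * (g : G)⁻¹)⁻¹ * (w : G) ∈ V1
        rw [show ((g : G) * (w : G) * (g : G)⁻¹)⁻¹ = (g : G) * (w : G)⁻¹ * (g : G)⁻¹ by group,
          hWc _ (hWP g g.2 _ (W.inv_mem w.2)) _ w.2]
        simpa only [mul_assoc] using e
  let K : Subgroup G := π.ker.map P.subtype
  have hKmem : ∀ g : ↥P, (g : G) ∈ K ↔ π g = 1 := fun g => mem_map_iff_mem P.subtype_injective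
  have hKn : ∀ k ∈ P, cj k K = K := fun k hk => by
    refine eq_of_le_of_card_ge ?_ (card_cj _ _).ge
    rintro _ ⟨_, ⟨g, hg, rfl⟩, rfl⟩
    exact (hKmem (⟨k, hk⟩ * g * ⟨k, hk⟩⁻¹)).2 (by
      rw [map_mul, map_mul, show π g = 1 from hg, mul_one, ← map_mul, mul_inv_cancel, map_one])
  -- the section
  let Vb := θ.range
  let Pb := π.range
  let Tb := (T.subgroupOf P).map π
  let Mb := (M.subgroupOf P).map π
  have hTbP : Tb ≤ Pb := Subgroup.map_le_range π _
  have hPbV : Pb ≤ normalizer (Vb : Set _) := by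
    rintro _ ⟨g, rfl⟩
    refine mem_normalizer_of_cj_eq (eq_of_le_of_card_ge ?_ (card_cj _ _).ge)
    rintro _ ⟨_, ⟨w, rfl⟩, rfl⟩
    exact ⟨fW g w, (hθconj g w).symm⟩
  have hVexp : ∀ v ∈ Vb, v ^ p = 1 := by
    rintro _ ⟨w, rfl⟩
    rw [← map_pow, show w ^ p = 1 from Subtype.ext (expV _ (hWV w.2)), map_one]
  have hVbne : Vb ≠ ⊥ := fun e => hWne fun w hw =>
    (hθker ⟨w, hw⟩).1 (mem_bot.1 (e.le ⟨⟨w, hw⟩, rfl⟩))
  have hTb : IsPGroup p Tb := (pm.Tp.of_equiv (subgroupOfEquivOfLe hTP).symm).map π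
  obtain ⟨_, ⟨w₀, rfl⟩, hw₀, hw₀T⟩ := exists_fixed_ne_one hTb (hTbP.trans hPbV) hVexp hVbne
  have hw₀1 : (w₀ : G) ∉ V1 := fun h => hw₀ ((hθker w₀).2 h)
  have hfix0 : ∀ g : ↥P, π g * θ w₀ = θ w₀ * π g → ⁅(g : G), (w₀ : G)⁆ ∈ V1 := by
    intro g e
    have e1 := hθconj g w₀
    rw [e, mul_inv_cancel_right] at e1
    exact (hθker (fW g w₀ * w₀⁻¹)).1 (by rw [map_mul, map_inv, ← e1, mul_inv_cancel])
  have hKM : K ≤ M := by
    by_contra hKM
    have hsup : K ⊔ T = P := by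
      by_contra hne'
      exact hKM (le_sup_left.trans (pm.max _ (sup_le (Subgroup.map_subtype_le _) hTP) le_sup_right hne'))
    refine hw₀1 (hnoinv w₀ w₀.2 fun g hg => hfix0 ⟨g, hg⟩ ?_)
    let S : Subgroup G :=
      ((centralizer ({θ w₀} : Set (Equiv.Perm (↥W ⧸ V1.subgroupOf W)))).comap π).map P.subtype
    have hS : K ⊔ T ≤ S := by
      refine sup_le ?_ fun t ht => ?_
      · refine map_mono fun x hx => mem_centralizer_singleton_iff.2 ?_
        rw [show π x = 1 from hx, one_mul, mul_one]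
      · exact ⟨⟨t, hTP ht⟩, mem_centralizer_singleton_iff.2 (hw₀T _ (mem_map_of_mem π ht)), rfl⟩
    obtain ⟨x, hx, hxe⟩ := hS (hsup.symm ▸ hg)
    obtain rfl : x = ⟨g, hg⟩ := Subtype.ext hxe
    exact mem_centralizer_singleton_iff.1 hx
  have hKo : ∀ g ∈ K, ¬ p ∣ orderOf g := fun g hg => pm.coprime_of_le op1 hKM hKn hg
  have hKW : ∀ g : ↥P, π g = 1 → ∀ w ∈ W, (g : G) * w = w * g := fun g hg w hw =>
    hstab g g.2 (hKo _ ((hKmem g).2 hg)) w hw ((hπker g).1 hg w hw)
  have hlift : ∀ X : Subgroup ↥P, ∀ g : ↥P, π g ∈ X.map π → ∃ x ∈ X, (x⁻¹ * g : ↥P) ∈ π.ker := by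
    rintro X g ⟨x, hx, e⟩
    exact ⟨x, hx, by rw [MonoidHom.mem_ker, map_mul, map_inv, e, inv_mul_cancel]⟩
  have hMb : ∀ g : ↥P, π g ∈ Mb → (g : G) ∈ M := by
    intro g hg
    obtain ⟨x, hx, hk⟩ := hlift _ g hg
    have := M.mul_mem (show (x : G) ∈ M from hx) (hKM ((hKmem (x⁻¹ * g)).2 hk))
    simpa using this
  have hpmb : PMin p Pb Tb Mb :=
    { hTM := map_mono fun t ht => pm.hTM ht
      hMP := Subgroup.map_le_range π _
      hne := fun e => pm.hne (le_antisymm pm.hMP fun g hg => hMb ⟨g, hg⟩ (e.ge ⟨_, rfl⟩))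
      Tp := hTb
      syl := by
        intro R hR hRp hTR
        refine le_antisymm ?_ hTR
        rintro r hr
        obtain ⟨g, rfl⟩ := hR hr
        let R' : Subgroup G := (R.comap π).map P.subtype
        have hR'P : R' ≤ P := Subgroup.map_subtype_le _
        have hTR' : T ≤ R' := fun t ht => ⟨⟨t, hTP ht⟩, hTR (mem_map_of_mem π ht), rfl⟩
        let f : ↥(R.comap π) →* ↥R := π.subgroupComap R
        have hf : Function.Surjective f := by
          rintro ⟨r, hr⟩
          obtain ⟨k, rfl⟩ := hR hr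
          exact ⟨⟨k, hr⟩, rfl⟩
        let S : Sylow p ↥(R.comap π) :=
          { toSubgroup := (T.subgroupOf P).subgroupOf (R.comap π)
            isPGroup' := (pm.Tp.of_equiv (subgroupOfEquivOfLe hTP).symm).comap_subtype
            is_maximal' := by
              intro Q hQ hle
              have h3 := pm.syl ((Q.map (R.comap π).subtype).map P.subtype) (Subgroup.map_subtype_le _)
                ((hQ.map _).map _) fun t ht =>
                  ⟨⟨t, hTP ht⟩, ⟨⟨⟨t, hTP ht⟩, hTR (mem_map_of_mem π ht)⟩, hle ht, rfl⟩, rfl⟩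
              refine le_antisymm (fun q hq => ?_) hle
              show ((q : ↥P) : G) ∈ T
              rw [← h3]
              exact ⟨q, ⟨q, hq, rfl⟩, rfl⟩ }
        have htop : (S.mapSurjective hf : Subgroup ↥R) = ⊤ :=
          ((S.mapSurjective hf).is_maximal' (Q := ⊤) (hRp.to_subgroup ⊤) le_top).symm
        rw [Sylow.coe_mapSurjective] at htop
        obtain ⟨x, hx, e⟩ := htop.ge (mem_top (⟨π g, hr⟩ : ↥R))
        exact ⟨x, hx, congrArg Subtype.val e⟩
      max := by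
        intro X hX hTX hne'
        rintro x hx
        obtain ⟨g, rfl⟩ := hX hx
        have h1 := pm.max ((X.comap π).map P.subtype) (Subgroup.map_subtype_le _)
          (fun t ht => ⟨⟨t, hTP ht⟩, hTX (mem_map_of_mem π ht), rfl⟩) fun e => hne' (le_antisymm hX (by
            rintro _ ⟨k, rfl⟩
            exact (mem_map_iff_mem P.subtype_injective).1 (e.ge k.2)))
        exact mem_map_of_mem π (h1 ((mem_map_iff_mem P.subtype_injective).2 hx : (g : G) ∈ _)) }
  have hfb : Pb ⊓ centralizer (Vb : Set _) = ⊥ := by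
    refine le_bot_iff.1 ?_
    rintro _ ⟨⟨g, rfl⟩, hg⟩
    refine (hπker g).2 fun w hw => ?_
    have e := mem_centralizer_iff.1 hg (θ ⟨w, hw⟩) ⟨⟨w, hw⟩, rfl⟩
    have e1 := hθconj g ⟨w, hw⟩
    rw [← e, mul_inv_cancel_right] at e1
    rw [commutatorElement_def]
    exact (hθker (fW g ⟨w, hw⟩ * (⟨w, hw⟩ : ↥W)⁻¹)).1 (by rw [map_mul, map_inv, ← e1, mul_inv_cancel])
  have hop : ∀ K' ≤ Pb, IsPGroup p K' → Pb ≤ normalizer (K' : Set _) → K' = ⊥ := by
    intro K' hK' hK'p hK'n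
    let N : Subgroup G := (K'.comap π).map P.subtype
    have hNn : ∀ k ∈ P, cj k N = N := fun k hk => by
      refine eq_of_le_of_card_ge ?_ (card_cj _ _).ge
      rintro _ ⟨_, ⟨g, hg, rfl⟩, rfl⟩
      refine ⟨⟨k, hk⟩ * g * ⟨k, hk⟩⁻¹, ?_, rfl⟩
      show π (⟨k, hk⟩ * g * ⟨k, hk⟩⁻¹) ∈ K'
      rw [map_mul, map_mul, map_inv]
      exact Cfsg.Agent.H34.conj_mem_of_mem_normalizer (hK'n ⟨_, rfl⟩) hg
    by_cases hNM : N ≤ M
    · refine le_bot_iff.1 fun x hx => ?_
      obtain ⟨g, rfl⟩ := hK' hx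
      have hgo := pm.coprime_of_le op1 hNM hNn (g := (g : G)) ⟨g, hx, rfl⟩
      obtain ⟨m, hm⟩ := hK'p ⟨π g, hx⟩
      have hm' : π g ^ p ^ m = 1 := by simpa using congrArg Subtype.val hm
      have h2 : π g ^ orderOf (g : G) = 1 := by
        rw [orderOf_coe, ← map_pow, pow_orderOf_eq_one, map_one]
      have hcop : Nat.Coprime (orderOf (g : G)) (p ^ m) :=
        Nat.Coprime.pow_right _ ((Fact.out : p.Prime).coprime_iff_not_dvd.2 hgo).symm
      have := (pow_gcd_eq_one (a := π g) (m := orderOf (g : G)) (n := p ^ m)).2 ⟨h2, hm'⟩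
      rwa [hcop, pow_one] at this
    · exfalso
      have hsup : N ⊔ T = P := by
        by_contra hne'
        exact hNM (le_sup_left.trans (pm.max _ (sup_le (Subgroup.map_subtype_le _) hTP) le_sup_right hne'))
      have hle : Pb ≤ K' ⊔ Tb := by
        rintro _ ⟨g, rfl⟩
        obtain ⟨g, hg⟩ := g
        have hle' : N ⊔ T ≤ ((K' ⊔ Tb).comap π).map P.subtype := by
          refine sup_le (map_mono (comap_mono le_sup_left)) fun t ht => ?_
          exact ⟨⟨t, hTP ht⟩, mem_sup_right (mem_map_of_mem π ht), rfl⟩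
        obtain ⟨x, hx, hxe⟩ := hle' (hsup.symm ▸ hg)
        obtain rfl : x = ⟨g, hg⟩ := Subtype.ext hxe
        exact hx
      have hPp : IsPGroup p Pb :=
        (hTb.to_sup_of_normal_right' hK'p (fun t ht => hK'n (hTbP ht))).to_le (hle.trans (le_of_eq (sup_comm K' Tb)))
      exact hpmb.hne (le_antisymm hpmb.hMP ((hpmb.syl Pb le_rfl hPp hTbP).le.trans hpmb.hTM))
  have hFFP : FFP p Vb Pb Tb Mb :=
    { comm := by
        rintro _ ⟨a, rfl⟩ _ ⟨b, rfl⟩
        rw [← map_mul, ← map_mul, show a * b = b * a from Subtype.ext (hWc a a.2 b b.2)]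
      expV := hVexp
      hPV := hPbV
      faith := hfb
      pm := hpmb
      op1 := hop
      hz := by
        refine ⟨θ w₀, ⟨w₀, rfl⟩, mem_centralizer_iff.2 hw₀T, fun h => hw₀1 (hnoinv w₀ w₀.2 fun g hg => ?_)⟩
        exact hfix0 ⟨g, hg⟩ (mem_centralizer_iff.1 h _ ⟨⟨g, hg⟩, rfl⟩) }
  -- the offender
  let A' := A.subgroupOf P
  let Ab := A'.map π
  have hAW : A ⊓ centralizer (W : Set G) = ⊥ := by
    refine le_bot_iff.1 fun a ha => ?_
    have hak : π ⟨a, hAP ha.1⟩ = 1 := (hπker _).2 fun w hw => by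
      rw [commutatorElement_eq_one_iff_mul_comm.2 (mem_centralizer_iff.1 ha.2 w hw).symm]
      exact one_mem _
    by_contra ha1
    exact hKo a ((hKmem _).2 hak) (orderOf_eq_prime (hAe a ha.1) (fun e => ha1 (mem_bot.2 e)) ▸ dvd_rfl)
  have hAinj : Function.Injective (fun a : ↥A => π ⟨a, hAP a.2⟩) := by
    intro a b e
    have hk : π (⟨a, hAP a.2⟩⁻¹ * ⟨b, hAP b.2⟩) = 1 := by
      rw [map_mul, map_inv, show π ⟨a, hAP a.2⟩ = π ⟨b, hAP b.2⟩ from e, inv_mul_cancel]
    have hmem : (a : G)⁻¹ * b ∈ A ⊓ centralizer (W : Set G) :=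
      ⟨A.mul_mem (A.inv_mem a.2) b.2, mem_centralizer_iff.2 fun w hw => (hKW _ hk w hw).symm⟩
    rw [hAW, mem_bot, inv_mul_eq_one] at hmem
    exact Subtype.ext hmem
  have hcardA : Nat.card ↥Ab = Nat.card ↥A := by
    refine (Nat.card_congr (Equiv.ofBijective
      (fun a : ↥A => (⟨π ⟨a, hAP a.2⟩, mem_map_of_mem π (show (⟨a, hAP a.2⟩ : ↥P) ∈ A' from a.2)⟩ : ↥Ab))
      ⟨fun a b e => hAinj (congrArg Subtype.val e), ?_⟩)).symm
    rintro ⟨_, x, hx, rfl⟩
    exact ⟨⟨x, hx⟩, rfl⟩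
  have hAb : Ab ≤ Pb := Subgroup.map_le_range π _
  have hAbc : ∀ a ∈ Ab, ∀ b ∈ Ab, a * b = b * a := by
    rintro _ ⟨a, ha, rfl⟩ _ ⟨b, hb, rfl⟩
    rw [← map_mul, ← map_mul, show a * b = b * a from Subtype.ext (hAc a ha b hb)]
  have hAbe : ∀ a ∈ Ab, a ^ p = 1 := by
    rintro _ ⟨a, ha, rfl⟩
    rw [← map_pow, show a ^ p = 1 from Subtype.ext (by simpa using hAe a ha), map_one]
  have hlarge : Nat.card ↥W ≤ Nat.card ↥A * Nat.card ↥(W ⊓ centralizer (A : Set G)) := by
    set CA := V ⊓ centralizer (A : Set G)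
    have h1 := hbest ⊥ bot_le
    have h2 := Cfsg.Agent.H34.card_mul_card_le W CA
    have h3 : W ⊔ CA ≤ V := sup_le hWV inf_le_left
    have h4 : W ⊓ CA = W ⊓ centralizer (A : Set G) := by rw [← inf_assoc, inf_eq_left.2 hWV]
    have h5 : V ⊓ centralizer ((⊥ : Subgroup G) : Set G) = V := by
      rw [show centralizer ((⊥ : Subgroup G) : Set G) = ⊤ by ext x; simp [mem_centralizer_iff], inf_top_eq]
    rw [card_bot, one_mul, h5] at h1
    rw [h4] at h2
    have h6 := card_le_of_le h3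
    refine le_of_mul_le_mul_right ?_ (Nat.card_pos (α := ↥CA))
    calc Nat.card ↥W * Nat.card ↥CA ≤ Nat.card ↥(W ⊔ CA) * Nat.card ↥(W ⊓ centralizer (A : Set G)) := h2
      _ ≤ Nat.card ↥V * Nat.card ↥(W ⊓ centralizer (A : Set G)) := Nat.mul_le_mul_right _ h6
      _ ≤ Nat.card ↥A * Nat.card ↥CA * Nat.card ↥(W ⊓ centralizer (A : Set G)) := Nat.mul_le_mul_right _ h1
      _ = _ := by ring
  set C := W ⊓ centralizer (A : Set G) with hCdef
  have hbound := hFFP.bound hAb hAbc hAbe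
  -- cardinalities along `θ`
  have hcardW : Nat.card ↥Vb * Nat.card ↥V1 = Nat.card ↥W := by
    rw [← Nat.card_congr (QuotientGroup.quotientKerEquivRange θ).toEquiv,
      show θ.ker = V1.subgroupOf W from by ext w; exact (hθker w).trans mem_subgroupOf.symm,
      ← Nat.card_congr (subgroupOfEquivOfLe hV1W).toEquiv, ← card_eq_card_quotient_mul_card_subgroup]
  let θC : ↥C →* Equiv.Perm (↥W ⧸ V1.subgroupOf W) := θ.comp (inclusion inf_le_left)
  have hθCle : θC.range ≤ Vb ⊓ centralizer (Ab : Set _) := by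
    rintro _ ⟨w, rfl⟩
    refine ⟨⟨_, rfl⟩, mem_centralizer_iff.2 ?_⟩
    rintro _ ⟨a, ha, rfl⟩
    have e := hθconj a (inclusion inf_le_left w)
    rw [show fW a (inclusion inf_le_left w) = inclusion inf_le_left w from Subtype.ext (by
      show (a : G) * w * (a : G)⁻¹ = w
      rw [mem_centralizer_iff.1 w.2.2 a ha, mul_inv_cancel_right])] at e
    conv_rhs => rw [show θC w = θ (inclusion inf_le_left w) from rfl, ← e, inv_mul_cancel_right]
    rfl
  have hcardC : Nat.card ↥θC.range * Nat.card ↥(C ⊓ V1) = Nat.card ↥C := by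
    rw [← Nat.card_congr (QuotientGroup.quotientKerEquivRange θC).toEquiv,
      show θC.ker = (C ⊓ V1).subgroupOf C from by
        ext w
        rw [mem_subgroupOf, mem_inf, and_iff_right w.2]
        exact hθker _,
      ← Nat.card_congr (subgroupOfEquivOfLe (inf_le_left : C ⊓ V1 ≤ C)).toEquiv,
      ← card_eq_card_quotient_mul_card_subgroup]
  have hA1 : V1 ≤ C ∧ Nat.card ↥Vb ≤ Nat.card ↥Ab * Nat.card ↥(Vb ⊓ centralizer (Ab : Set _)) := by
    have e1 := card_le_of_le hθCle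
    rw [hcardA] at hbound ⊢
    have key : Nat.card ↥Vb * Nat.card ↥V1 ≤
        Nat.card ↥A * Nat.card ↥(Vb ⊓ centralizer (Ab : Set _)) * Nat.card ↥(C ⊓ V1) := by
      rw [hcardW]
      refine hlarge.trans ?_
      rw [← hcardC, ← mul_assoc]
      gcongr
    have e2 : Nat.card ↥(C ⊓ V1) = Nat.card ↥V1 := by
      refine le_antisymm (card_le_of_le inf_le_right) ?_
      exact Nat.le_of_mul_le_mul_left (key.trans (Nat.mul_le_mul_right _ hbound)) Nat.card_pos
    refine ⟨(eq_of_le_of_card_ge inf_le_right e2.ge).ge.trans inf_le_left, ?_⟩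
    rw [e2] at key
    exact Nat.le_of_mul_le_mul_right key Nat.card_pos
  obtain ⟨hV1C, hAl⟩ := hA1
  have hAbne : Ab ≠ ⊥ := fun e => hne ((card_eq_one).1 (by rw [← hcardA, e, card_bot]))
  obtain ⟨A₀, hA₀A, hA₀⟩ := exists_minOff (P := Ab) (A := Ab) le_rfl hAbne hAbc hAbe hAl
  have hA₀P : A₀ ≤ Pb := hA₀A.trans hAb
  -- the lift
  letI : CommGroup ↥W :=
    { (inferInstance : Group ↥W) with mul_comm := fun a b => Subtype.ext (hWc a a.2 b b.2) }
  let la : Equiv.Perm (↥W ⧸ V1.subgroupOf W) → Additive ↥W →+ Additive ↥W := fun γ =>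
    if hγ : γ ∈ Pb then MonoidHom.toAdditive (fW hγ.choose) else 0
  have hla : ∀ (g : ↥P) (u : Additive ↥W), la (π g) u = Additive.ofMul (fW g (Additive.toMul u)) := by
    intro g u
    have hγ : π g ∈ Pb := ⟨g, rfl⟩
    simp only [la, dif_pos hγ]
    refine congrArg Additive.ofMul (Subtype.ext ?_)
    have hk : π (hγ.choose⁻¹ * g) = 1 := by
      rw [map_mul, map_inv, hγ.choose_spec, inv_mul_cancel]
    have e := hKW _ hk _ (Additive.toMul u).2
    show (hγ.choose : G) * _ * (hγ.choose : G)⁻¹ = (g : G) * _ * (g : G)⁻¹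
    calc (hγ.choose : G) * _ * (hγ.choose : G)⁻¹
        = (hγ.choose : G) * (((hγ.choose⁻¹ * g : ↥P) : G) * ((Additive.toMul u : ↥W) : G) *
            ((hγ.choose⁻¹ * g : ↥P) : G)⁻¹) * (hγ.choose : G)⁻¹ := by rw [e]; group
      _ = _ := by simp only [coe_mul, coe_inv]; group
  let Lf : Lift p Vb Pb Tb A₀ (Additive ↥W) :=
    { la := la
      la_mul := by
        rintro _ _ ⟨g, rfl⟩ ⟨k, rfl⟩ u
        rw [← map_mul, hla, hla, hla]
        exact congrArg Additive.ofMul (Subtype.ext (by simp [fW, mul_assoc]))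
      la_one := fun u => by
        rw [← map_one π, hla]
        refine Additive.toMul.injective (Subtype.ext ?_)
        show (1 : G) * ((Additive.toMul u : ↥W) : G) * (1 : G)⁻¹ = ((Additive.toMul u : ↥W) : G)
        group
      pr := MonoidHom.toAdditive θ.rangeRestrict
      surj := θ.rangeRestrict_surjective
      pr_la := by
        rintro _ ⟨g, rfl⟩ u
        rw [hla]
        exact (hθconj g _).symm
      expU := fun u => congrArg Additive.ofMul (Subtype.ext (by simpa using expV _ (hWV (Additive.toMul u).2)) :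
        (Additive.toMul u) ^ p = 1)
      fix := by
        intro a ha u hu
        obtain ⟨x, hx, rfl⟩ := hA₀A ha
        have hv : θ (Additive.toMul u) = 1 := congrArg Subtype.val hu
        rw [hla]
        refine Additive.toMul.injective (Subtype.ext ?_)
        show (x : G) * ((Additive.toMul u : ↥W) : G) * (x : G)⁻¹ = ((Additive.toMul u : ↥W) : G)
        have e : (x : G) * ((Additive.toMul u : ↥W) : G) = ((Additive.toMul u : ↥W) : G) * (x : G) :=
          mem_centralizer_iff.1 (hV1C ((hθker _).1 hv)).2 _ hx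
        rw [e, mul_inv_cancel_right]
      noFixed := by
        intro u hu
        refine Additive.toMul.injective (Subtype.ext ((hθker _).2 (hfixed _ (hWV (Additive.toMul u).2) fun t ht => ?_)))
        have e : t * ((Additive.toMul u : ↥W) : G) * t⁻¹ = ((Additive.toMul u : ↥W) : G) :=
          congrArg Subtype.val ((hla ⟨t, hTP ht⟩ u).symm.trans (hu _ (mem_map_of_mem π ht)))
        conv_rhs => rw [← e]
        group }
  by_cases hq : 3 ≤ Nat.card ↥A₀
  · obtain ⟨k, hk, L, R, hLP, -, hkT, hLM, hB, hnormp⟩ := hFFP.exists_good hA₀P hA₀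
    obtain ⟨F, iF, iF', C', iC, ⟨c⟩⟩ := exists_chart hFFP (hA₀.cj (hPbV hk)) hkT hLP hLM hB hnormp
      (by rwa [card_cj])
    exact Lift.false_large c (Lf.rebase hA₀P ⟨k, hk, rfl⟩)
  · have h1 : 1 < Nat.card ↥A₀ := (Subgroup.one_lt_card_iff_ne_bot _).2 hA₀.ne
    have h2 : Nat.card ↥A₀ = 2 := by omega
    have hA₀p : IsPGroup p ↥A₀ := fun g => ⟨1, Subtype.ext (by simpa using hA₀.expA g g.2)⟩
    obtain ⟨n, hn⟩ := IsPGroup.iff_card.1 hA₀p
    have hp2 : p = 2 := by
      rcases n with _ | n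
      · rw [pow_zero] at hn; omega
      have hle : p ∣ 2 := h2 ▸ hn.symm ▸ dvd_pow_self p (Nat.succ_ne_zero n)
      exact (Nat.prime_dvd_prime_iff_eq Fact.out Nat.prime_two).1 hle
    subst hp2
    letI : CommGroup ↥Vb :=
      { (inferInstance : Group ↥Vb) with mul_comm := fun a b => Subtype.ext (hFFP.comm a a.2 b b.2) }
    exact Lift.false_two hFFP (AddEquiv.refl (Additive ↥Vb)) Lf hA₀P hA₀ h2

end Cfsg.Agent.H34.Para
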