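import Mathlib

/-!
Systems of transvections over the field with two elements without over-offenders: connected parts are
symmetric.
-/

set_option autoImplicit false
set_option linter.style.haveILetI false

namespace Cfsg.Agent.H34.Para

/-- Transvection centres with their functionals. -/
structure TS (W : Type*) [AddCommGroup W] where
  ctr : Set W
  φ : W → W → ZMod 2
  two : ∀ w : W, w + w = 0
  ne0 : ∀ c ∈ ctr, c ≠ 0
  add : ∀ c ∈ ctr, ∀ w w', φ c (w + w') = φ c w + φ c w'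
  self : ∀ c ∈ ctr, φ c c = 0
  symm : ∀ c ∈ ctr, ∀ d ∈ ctr, φ c d = φ d c
  conj : ∀ c ∈ ctr, ∀ d ∈ ctr, φ c d = 1 → c + d ∈ ctr ∧ ∀ w, φ (c + d) w = φ c w + φ d w
  four : ∀ a ∈ ctr, ∀ b ∈ ctr, ∀ d ∈ ctr, ∀ s ∈ ctr, a ≠ b → a ≠ d → a ≠ s → b ≠ d → b ≠ s → d ≠ s →
    φ a b = 0 → φ a d = 0 → φ a s = 0 → φ b d = 0 → φ b s = 0 → φ d s = 0 →
    (∀ w, φ s w = φ a w + φ b w + φ d w) → False

/-- The indicator of a point. -/
def ind {n : ℕ} (i k : Fin n) : ZMod 2 := if i = k then 1 else 0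

theorem z2_cases : ∀ a : ZMod 2, a = 0 ∨ a = 1 := by decide

theorem z2_ne_zero : ∀ {a : ZMod 2}, a ≠ 0 → a = 1 := by decide

theorem z2_add_self : ∀ a : ZMod 2, a + a = 0 := by decide

theorem z2_add_eq_one : ∀ {a b : ZMod 2}, a + b = 1 → a ≠ b := by decide

theorem z2_ne_add : ∀ {a b : ZMod 2}, a ≠ b → a + b = 1 := by decide

variable {W : Type*} [AddCommGroup W] (S : TS W)

/-- A labelling of transvections by pairs of points. -/
structure Frame (n : ℕ) where
  ω : Fin n → W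
  Φ : Fin n → W → ZMod 2
  mem : ∀ i j, i ≠ j → ω i + ω j ∈ S.ctr
  phi : ∀ i j, i ≠ j → ∀ w, S.φ (ω i + ω j) w = Φ i w + Φ j w
  pair : ∀ i j k l, i ≠ j → k ≠ l → S.φ (ω i + ω j) (ω k + ω l) = ind i k + ind i l + ind j k + ind j l
  inj : ∀ i j k l, i ≠ j → k ≠ l → ω i + ω j = ω k + ω l → (i = k ∧ j = l) ∨ (i = l ∧ j = k)

variable {S}

theorem TS.add_cancel (S : TS W) (a b : W) : a + (a + b) = b := by rw [← add_assoc, S.two, zero_add]

theorem TS.eq_of_add_eq_zero (S : TS W) {a b : W} (h : a + b = 0) : a = b := by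
  have := S.add_cancel a b
  rw [h, add_zero] at this
  exact this

variable {n : ℕ} (F : Frame S n)

/-- The centres labelled by the pairs. -/
def Frame.pairs : Set W := {c | ∃ i j, i ≠ j ∧ c = F.ω i + F.ω j}

theorem Frame.pairs_ctr {c : W} (hc : c ∈ F.pairs) : c ∈ S.ctr := by
  obtain ⟨i, j, hij, rfl⟩ := hc
  exact F.mem i j hij

theorem Frame.mem_pairs {i j : Fin n} (h : i ≠ j) : F.ω i + F.ω j ∈ F.pairs := ⟨i, j, h, rfl⟩

theorem Frame.tri (i j k : Fin n) : (F.ω i + F.ω j) + (F.ω j + F.ω k) = F.ω i + F.ω k := by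
  rw [add_assoc, S.add_cancel]

/-- The frame of a pair of noncommuting transvections. -/
theorem exists_frame_three {c d : W} (hc : c ∈ S.ctr) (hd : d ∈ S.ctr) (h : S.φ c d = 1) :
    ∃ F : Frame S 3, c ∈ F.pairs ∧ d ∈ F.pairs := by
  obtain ⟨hcd, hφ⟩ := S.conj c hc d hd h
  have h' : S.φ d c = 1 := (S.symm d hd c hc).trans h
  have e1 : S.φ c c = 0 := S.self c hc
  have e2 : S.φ d d = 0 := S.self d hd
  have e3 : ∀ w, S.φ (d + c) w = S.φ c w + S.φ d w := fun w => by rw [add_comm d c, hφ]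
  have hcd' : c ≠ d := fun e => by rw [e, e2] at h; exact zero_ne_one h
  refine ⟨{ ω := ![0, c, d], Φ := ![fun _ => 0, S.φ c, S.φ d], mem := ?_, phi := ?_, pair := ?_, inj := ?_ },
    ⟨0, 1, by decide, by simp⟩, ⟨0, 2, by decide, by simp⟩⟩
  · intro i j hij
    fin_cases i <;> fin_cases j <;> simp_all [add_comm d c]
  · intro i j hij w
    fin_cases i <;> fin_cases j <;> simp_all [add_comm]
  · intro i j k l hij hkl
    fin_cases i <;> fin_cases j <;> simp at hij ⊢ <;> fin_cases k <;> fin_cases l <;>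
      simp [ind, hφ, e3, S.add c hc, S.add d hd, h, h', e1, e2] at hkl ⊢ <;> decide
  · intro i j k l hij hkl he
    have n1 : c + d ≠ c := fun e => S.ne0 d hd (by simpa using e)
    have n2 : c + d ≠ d := fun e => S.ne0 c hc (by simpa using e)
    fin_cases i <;> fin_cases j <;> simp at hij <;> fin_cases k <;> fin_cases l <;>
      simp_all [add_comm d c, eq_comm]

/-- One-point extension. -/
theorem Frame.extend {d : W} (hd : d ∈ S.ctr) (hnp : d ∉ F.pairs) (k₀ : Fin n)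
    (h : ∀ i, i ≠ k₀ → S.φ d (F.ω i + F.ω k₀) = 1) :
    ∃ F' : Frame S (n + 1), F.pairs ⊆ F'.pairs := by
  classical
  have hout : ∀ i j, i ≠ j → i ≠ k₀ → j ≠ k₀ → S.φ d (F.ω i + F.ω j) = 0 := by
    intro i j hij hi hj
    rw [← F.tri i k₀ j, S.add d hd, h i hi, add_comm (F.ω k₀), h j hj, z2_add_self]
  have hval : ∀ k l, k ≠ l → S.φ d (F.ω k + F.ω l) = ind k₀ k + ind k₀ l := by
    intro k l hkl
    by_cases hk : k = k₀
    · subst hk
      rw [add_comm (F.ω k), h l (Ne.symm hkl)]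
      simp [ind, hkl]
    by_cases hl : l = k₀
    · subst hl
      rw [h k hk]
      simp [ind, Ne.symm hkl]
    rw [hout k l hkl hk hl]
    simp [ind, Ne.symm hk, Ne.symm hl]
  let ω' : Fin (n + 1) → W := Fin.snoc F.ω (F.ω k₀ + d)
  let Φ' : Fin (n + 1) → W → ZMod 2 := Fin.snoc F.Φ (fun w => F.Φ k₀ w + S.φ d w)
  have hω1 : ∀ i : Fin n, ω' i.castSucc = F.ω i := fun i => Fin.snoc_castSucc ..
  have hω2 : ω' (Fin.last n) = F.ω k₀ + d := Fin.snoc_last ..
  have hΦ1 : ∀ i : Fin n, Φ' i.castSucc = F.Φ i := fun i => Fin.snoc_castSucc ..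
  have hΦ2 : Φ' (Fin.last n) = fun w => F.Φ k₀ w + S.φ d w := Fin.snoc_last ..
  have hnew : ∀ i : Fin n, F.ω i + (F.ω k₀ + d) ∈ S.ctr ∧
      ∀ w, S.φ (F.ω i + (F.ω k₀ + d)) w = F.Φ i w + (F.Φ k₀ w + S.φ d w) := by
    intro i
    by_cases hi : i = k₀
    · subst hi
      rw [S.add_cancel]
      exact ⟨hd, fun w => by rw [← add_assoc, z2_add_self, zero_add]⟩
    · have h1 := F.mem i k₀ hi
      obtain ⟨h2, h3⟩ := S.conj _ h1 d hd (by rw [S.symm _ h1 d hd]; exact h i hi)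
      rw [← add_assoc]
      exact ⟨h2, fun w => by rw [h3, F.phi i k₀ hi, add_assoc]⟩
  have hp1 : ∀ k l, k ≠ l → ∀ i, S.φ (F.ω i + (F.ω k₀ + d)) (F.ω k + F.ω l) = ind i k + ind i l := by
    intro k l hkl i
    rw [(hnew i).2, ← add_assoc]
    by_cases hi : i = k₀
    · subst hi
      rw [z2_add_self, zero_add, hval k l hkl]
    · rw [← F.phi i k₀ hi, F.pair i k₀ k l hi hkl, hval k l hkl]
      generalize ind i k = a; generalize ind i l = b; generalize ind k₀ k = a'; generalize ind k₀ l = b'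
      revert a b a' b'; decide
  have hp2 : ∀ i k, S.φ (F.ω i + (F.ω k₀ + d)) (F.ω k + (F.ω k₀ + d)) = ind i k + 1 := by
    intro i k
    have hadd := S.add _ (hnew i).1
    have hdd : S.φ (F.ω i + (F.ω k₀ + d)) d = if i = k₀ then 0 else 1 := by
      by_cases hi : i = k₀
      · subst hi
        rw [S.add_cancel, if_pos rfl, S.self d hd]
      · rw [(hnew i).2, ← add_assoc, ← F.phi i k₀ hi, S.self d hd, add_zero, if_neg hi,
          S.symm _ (F.mem i k₀ hi) d hd, h i hi]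
    by_cases hk : k = k₀
    · subst hk
      rw [S.add_cancel, hdd]
      by_cases hi : i = k
      · subst hi; simp [ind, z2_add_self]
      · simp [ind, hi]
    · rw [← add_assoc (F.ω k), hadd, hp1 k k₀ hk i, hdd]
      by_cases hi : i = k₀
      · subst hi; simp [ind, Ne.symm hk]
      · simp [ind, hi]
  have hold : ∀ i, ∀ k l, k ≠ l → F.ω i + (F.ω k₀ + d) ≠ F.ω k + F.ω l := by
    intro i k l hkl e
    by_cases hi : i = k₀
    · subst hi
      rw [S.add_cancel] at e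
      exact hnp ⟨k, l, hkl, e⟩
    have hdsum : d = (F.ω i + F.ω k₀) + (F.ω k + F.ω l) := by
      rw [← e, ← add_assoc (F.ω i) (F.ω k₀) d, S.add_cancel]
    by_cases h1 : k = i ∨ l = i ∨ k = k₀ ∨ l = k₀
    · rcases h1 with rfl | rfl | rfl | rfl
      · rw [add_comm (F.ω k), F.tri] at hdsum
        by_cases hl : l = k₀
        · subst hl; rw [S.two] at hdsum; exact S.ne0 d hd hdsum
        · exact hnp ⟨k₀, l, Ne.symm hl, hdsum⟩
      · rw [add_comm (F.ω l), add_comm (F.ω k), F.tri] at hdsum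
        by_cases hk : k = k₀
        · subst hk; rw [S.two] at hdsum; exact S.ne0 d hd hdsum
        · exact hnp ⟨k₀, k, Ne.symm hk, hdsum⟩
      · rw [F.tri] at hdsum
        by_cases hl : l = i
        · subst hl; rw [S.two] at hdsum; exact S.ne0 d hd hdsum
        · exact hnp ⟨i, l, Ne.symm hl, hdsum⟩
      · rw [add_comm (F.ω k), F.tri] at hdsum
        by_cases hk : k = i
        · subst hk; rw [S.two] at hdsum; exact S.ne0 d hd hdsum
        · exact hnp ⟨i, k, Ne.symm hk, hdsum⟩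
    push Not at h1
    have h2 := h k h1.2.2.1
    rw [S.symm d hd _ (F.mem k k₀ h1.2.2.1), hdsum, S.add _ (F.mem k k₀ h1.2.2.1),
      F.pair k k₀ i k₀ h1.2.2.1 hi, F.pair k k₀ k l h1.2.2.1 hkl] at h2
    simp [ind, h1.1, h1.2.2.1, Ne.symm h1.2.2.1, Ne.symm hi, Ne.symm h1.2.2.2, hkl] at h2
  have hωinj : ∀ a b, F.ω a = F.ω b → a = b := fun a b e => by
    by_contra hab
    exact S.ne0 _ (F.mem a b hab) (by rw [e, S.two])
  refine ⟨{ ω := ω', Φ := Φ', mem := ?_, phi := ?_, pair := ?_, inj := ?_ }, ?_⟩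
  · intro i j hij
    induction i using Fin.lastCases <;> induction j using Fin.lastCases
    · exact absurd rfl hij
    · rw [hω1, hω2, add_comm]; exact (hnew _).1
    · rw [hω1, hω2]; exact (hnew _).1
    · rw [hω1, hω1]; exact F.mem _ _ (fun e => hij (by rw [e]))
  · intro i j hij w
    induction i using Fin.lastCases <;> induction j using Fin.lastCases
    · exact absurd rfl hij
    · rw [hω1, hω2, hΦ1, hΦ2, add_comm, (hnew _).2, add_comm]
    · rw [hω1, hω2, hΦ1, hΦ2, (hnew _).2]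
    · rw [hω1, hω1, hΦ1, hΦ1]; exact F.phi _ _ (fun e => hij (by rw [e])) w
  · intro i j k l hij hkl
    induction i using Fin.lastCases <;> induction j using Fin.lastCases <;>
      induction k using Fin.lastCases <;> induction l using Fin.lastCases
    all_goals first | exact absurd rfl hij | exact absurd rfl hkl | skip
    all_goals simp only [hω1, hω2, ind, Fin.castSucc_inj, Fin.castSucc_ne_last, Ne,
      (Fin.castSucc_ne_last _).symm, if_true, if_false, zero_add, add_zero] at *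
    · rw [add_comm (F.ω k₀ + d), add_comm (F.ω k₀ + d), hp2, add_comm]
    · rw [add_comm (F.ω k₀ + d), hp2, add_comm]
    · rw [add_comm (F.ω k₀ + d), hp1 _ _ hkl]
    · rw [add_comm (F.ω k₀ + d), hp2]
    · rw [hp2]
    · rw [hp1 _ _ hkl]
    · rw [add_comm (F.ω k₀ + d), S.symm _ (F.mem _ _ hij) _ (hnew _).1, hp1 _ _ hij]
      simp only [ind, eq_comm]
    · rw [S.symm _ (F.mem _ _ hij) _ (hnew _).1, hp1 _ _ hij]
      simp only [ind, eq_comm]
    · rw [F.pair _ _ _ _ hij hkl]; rfl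
  · intro i j k l hij hkl e
    induction i using Fin.lastCases <;> induction j using Fin.lastCases <;>
      induction k using Fin.lastCases <;> induction l using Fin.lastCases
    all_goals first | exact absurd rfl hij | exact absurd rfl hkl | skip
    all_goals simp only [hω1, hω2, Fin.castSucc_inj, Ne] at *
    all_goals first
      | (rw [add_comm (F.ω k₀ + d), add_comm (F.ω k₀ + d)] at e)
      | (rw [add_comm (F.ω k₀ + d)] at e)
      | skip
    all_goals first
      | exact absurd e (hold _ _ _ hkl)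
      | exact absurd e.symm (hold _ _ _ hij)
      | skip
    all_goals first
      | exact F.inj _ _ _ _ hij hkl e
      | (have := hωinj _ _ (add_right_cancel e); subst this; simp)
  · rintro c ⟨i, j, hij, rfl⟩
    exact ⟨i.castSucc, j.castSucc, fun e => hij (Fin.castSucc_inj.1 e), by show _ = ω' _ + ω' _; rw [hω1, hω1]⟩

/-- A maximal frame is closed. -/
theorem Frame.closed (hn : 3 ≤ n) (hmax : ¬ ∃ F' : Frame S (n + 1), F.pairs ⊆ F'.pairs) {d : W}
    (hd : d ∈ S.ctr) (hnp : d ∉ F.pairs) : ∀ c ∈ F.pairs, S.φ d c = 0 := by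
  classical
  rintro c ⟨i₁, j₁, hij₁, rfl⟩
  by_contra hne
  let o : Fin n := ⟨0, by omega⟩
  let f : Fin n → ZMod 2 := fun k => if k = o then 0 else S.φ d (F.ω o + F.ω k)
  have hf : ∀ i j, i ≠ j → S.φ d (F.ω i + F.ω j) = f i + f j := by
    intro i j hij
    simp only [f]
    by_cases hi : i = o
    · subst hi; rw [if_pos rfl, if_neg (Ne.symm hij), zero_add]
    by_cases hj : j = o
    · subst hj; rw [if_pos rfl, if_neg hij, add_zero, add_comm]
    rw [if_neg hi, if_neg hj, ← F.tri i o j, add_comm (F.ω i), S.add d hd]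
  -- both classes have at least two points
  have hsing : ∀ k₀, ∃ i, i ≠ k₀ ∧ f i = f k₀ := by
    intro k₀
    by_contra hall
    push Not at hall
    exact hmax (F.extend hd hnp k₀ fun i hi => by rw [hf i k₀ hi]; exact z2_ne_add (hall i hi))
  rw [hf i₁ j₁ hij₁] at hne
  have hne1 : f i₁ + f j₁ = 1 := z2_ne_zero hne
  obtain ⟨i₂, hi2, hfi⟩ := hsing i₁
  obtain ⟨j₂, hj2, hfj⟩ := hsing j₁
  have hd1 : i₁ ≠ j₂ := fun e => z2_add_eq_one hne1 (by rw [← hfj, e])
  have hd2 : i₂ ≠ j₁ := fun e => z2_add_eq_one hne1 (by rw [← hfi, e])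
  have hd3 : i₂ ≠ j₂ := fun e => z2_add_eq_one hne1 (by rw [← hfi, ← hfj, e])
  set a := F.ω i₁ + F.ω i₂ with ha_def
  set b := F.ω j₁ + F.ω j₂ with hb_def
  have ha := F.mem i₁ i₂ (Ne.symm hi2)
  have hb := F.mem j₁ j₂ (Ne.symm hj2)
  obtain ⟨h1, h1'⟩ := S.conj d hd _ (F.mem i₁ j₁ hij₁) (by rw [hf i₁ j₁ hij₁]; exact hne1)
  obtain ⟨h2, h2'⟩ := S.conj _ h1 _ (F.mem i₂ j₂ hd3) (by
    rw [h1', hf i₂ j₂ hd3, hfi, hfj, hne1, F.pair i₁ j₁ i₂ j₂ hij₁ hd3]
    simp [ind, Ne.symm hi2, hd1, Ne.symm hd2, Ne.symm hj2])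
  set s := d + (F.ω i₁ + F.ω j₁) + (F.ω i₂ + F.ω j₂)
  have hab : (F.ω i₁ + F.ω j₁) + (F.ω i₂ + F.ω j₂) = a + b := by rw [ha_def, hb_def]; abel
  have hs : s = d + (a + b) := by rw [← hab, ← add_assoc]
  have hφs : ∀ w, S.φ s w = S.φ a w + S.φ b w + S.φ d w := by
    intro w
    rw [h2', h1', F.phi _ _ hij₁, F.phi _ _ hd3, F.phi _ _ (Ne.symm hi2), F.phi _ _ (Ne.symm hj2)]
    abel
  have hda : d ≠ a := fun e => hnp (e ▸ F.mem_pairs (Ne.symm hi2))
  have hdb : d ≠ b := fun e => hnp (e ▸ F.mem_pairs (Ne.symm hj2))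
  have hab' : a ≠ b := fun e => by
    rcases F.inj _ _ _ _ (Ne.symm hi2) (Ne.symm hj2) e with ⟨e1, -⟩ | ⟨e1, -⟩
    · exact hij₁ e1
    · exact hd1 e1
  have hφad : S.φ a d = 0 := by rw [S.symm a ha d hd, hf _ _ (Ne.symm hi2), hfi, z2_add_self]
  have hφbd : S.φ b d = 0 := by rw [S.symm b hb d hd, hf _ _ (Ne.symm hj2), hfj, z2_add_self]
  have hφab : S.φ a b = 0 := by
    rw [F.pair _ _ _ _ (Ne.symm hi2) (Ne.symm hj2)]
    simp [ind, hij₁, hd1, hd2, hd3]
  refine S.four a ha b hb d hd s h2 hab' hda.symm (fun e => hdb ?_) hdb.symm (fun e => hda ?_)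
    (fun e => ?_) hφab hφad ?_ hφbd ?_ ?_ hφs
  · rw [hs, add_comm a b, ← add_assoc, right_eq_add] at e
    exact S.eq_of_add_eq_zero e
  · rw [hs, ← add_assoc, right_eq_add] at e
    exact S.eq_of_add_eq_zero e
  · rw [hs, left_eq_add] at e
    exact hab' (S.eq_of_add_eq_zero e)
  · rw [S.symm a ha s h2, hφs, S.self a ha, S.symm b hb a ha, hφab, S.symm d hd a ha, hφad]; rfl
  · rw [S.symm b hb s h2, hφs, S.self b hb, hφab, S.symm d hd b hb, hφbd]; rfl
  · rw [S.symm d hd s h2, hφs, hφad, hφbd, S.self d hd]; rfl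

end Cfsg.Agent.H34.Para
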