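import Cfsg.Agent.H34.MinOffender.Spread
import Mathlib

/-!
Minimal parabolics: a minimal offender lies in a subgroup to which the theorem on minimal offenders
applies.
-/

set_option autoImplicit false
set_option linter.style.haveILetI false

namespace Cfsg.Agent.H34.Para

open Subgroup
open Cfsg.Agent.H34.MinOffender
open scoped commutatorElement

variable {G : Type*} [Group G]

/-- `T` is a Sylow subgroup of `P` and `M` contains every proper subgroup of `P` containing `T`. -/
structure PMin (p : ℕ) (P T M : Subgroup G) : Prop where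
  hTM : T ≤ M
  hMP : M ≤ P
  hne : M ≠ P
  Tp : IsPGroup p T
  syl : ∀ R ≤ P, IsPGroup p R → T ≤ R → R = T
  max : ∀ X ≤ P, T ≤ X → X ≠ P → X ≤ M

/-- `A` is an elementary abelian offender on `V`, smaller offender numbers below it. -/
structure MinOff (p : ℕ) (V A : Subgroup G) : Prop where
  commA : ∀ a ∈ A, ∀ b ∈ A, a * b = b * a
  expA : ∀ a ∈ A, a ^ p = 1
  ne : A ≠ ⊥
  large : Nat.card V ≤ Nat.card A * Nat.card ↥(V ⊓ centralizer (A : Set G))
  strict : ∀ B ≤ A, B ≠ ⊥ → B ≠ A →
    Nat.card B * Nat.card ↥(V ⊓ centralizer (B : Set G)) <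
      Nat.card A * Nat.card ↥(V ⊓ centralizer (A : Set G))

theorem cj_mul (x y : G) (H : Subgroup G) : cj (x * y) H = cj x (cj y H) := by
  ext v
  simp only [mem_cj, mul_inv_rev, mul_assoc]

theorem cj_one (H : Subgroup G) : cj 1 H = H := by
  ext v
  simp [mem_cj]

theorem cj_inv_cj (x : G) (H : Subgroup G) : cj x⁻¹ (cj x H) = H := by
  rw [← cj_mul, inv_mul_cancel, cj_one]

theorem cj_cj_inv (x : G) (H : Subgroup G) : cj x (cj x⁻¹ H) = H := by
  rw [← cj_mul, mul_inv_cancel, cj_one]

theorem cj_mono (x : G) {H K : Subgroup G} (h : H ≤ K) : cj x H ≤ cj x K := map_mono h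

theorem cj_le_self {x : G} {H : Subgroup G} (hx : x ∈ H) : cj x H ≤ H := by
  rintro _ ⟨v, hv, rfl⟩
  exact H.mul_mem (H.mul_mem hx hv) (H.inv_mem hx)

theorem cj_eq_self {x : G} {H : Subgroup G} (hx : x ∈ H) : cj x H = H :=
  le_antisymm (cj_le_self hx) (by
    intro v hv
    rw [mem_cj]
    exact H.mul_mem (H.mul_mem (H.inv_mem hx) hv) hx)

theorem cj_le {x : G} {A H : Subgroup G} (hx : x ∈ H) (hA : A ≤ H) : cj x A ≤ H :=
  (cj_mono x hA).trans (cj_le_self hx)

theorem mem_normalizer_of_cj_eq {x : G} {H : Subgroup G} (h : cj x H = H) :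
    x ∈ normalizer (H : Set G) := by
  rw [mem_normalizer_iff]
  intro v
  have : x * v * x⁻¹ ∈ cj x H ↔ v ∈ H := by
    rw [mem_cj]; simp [mul_assoc]
  rw [h] at this
  exact this.symm

theorem cj_eq_of_mem_normalizer {x : G} {H : Subgroup G} (h : x ∈ normalizer (H : Set G)) :
    cj x H = H := by
  ext v
  rw [mem_cj, mem_normalizer_iff.1 h (x⁻¹ * v * x)]
  simp [mul_assoc]

theorem cent_cj {V A : Subgroup G} {x : G} (hx : x ∈ normalizer (V : Set G)) :
    V ⊓ centralizer (cj x A : Set G) = cj x (V ⊓ centralizer (A : Set G)) := by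
  ext v
  rw [mem_cj]
  have hV : v ∈ V ↔ x⁻¹ * v * x ∈ V := by
    rw [mem_normalizer_iff.1 hx (x⁻¹ * v * x)]; simp [mul_assoc]
  constructor
  · rintro ⟨h1, h2⟩
    refine ⟨hV.1 h1, mem_centralizer_iff.2 fun a ha => ?_⟩
    have e := mem_centralizer_iff.1 h2 _ (conj_mem_cj (x := x) ha)
    calc a * (x⁻¹ * v * x) = x⁻¹ * (x * a * x⁻¹ * v) * x := by group
      _ = x⁻¹ * (v * (x * a * x⁻¹)) * x := by rw [e]
      _ = x⁻¹ * v * x * a := by group
  · rintro ⟨h1, h2⟩
    refine ⟨hV.2 h1, mem_centralizer_iff.2 ?_⟩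
    rintro _ ⟨a, ha, rfl⟩
    have e := mem_centralizer_iff.1 h2 a ha
    show x * a * x⁻¹ * v = v * (x * a * x⁻¹)
    calc x * a * x⁻¹ * v = x * (a * (x⁻¹ * v * x)) * x⁻¹ := by group
      _ = x * (x⁻¹ * v * x * a) * x⁻¹ := by rw [e]
      _ = v * (x * a * x⁻¹) := by group

variable {p : ℕ} {V P T M A : Subgroup G}

theorem MinOff.cj (h : MinOff p V A) {x : G} (hx : x ∈ normalizer (V : Set G)) :
    MinOff p V (cj x A) where
  commA := by
    rintro _ ⟨a, ha, rfl⟩ _ ⟨b, hb, rfl⟩
    rw [← map_mul, ← map_mul, h.commA a ha b hb]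
  expA := by
    rintro _ ⟨a, ha, rfl⟩
    rw [← map_pow, h.expA a ha, map_one]
  ne := fun e => h.ne (by
    have := congrArg (MinOffender.cj x⁻¹) e
    rwa [cj_inv_cj, MinOffender.cj, Subgroup.map_bot] at this)
  large := by
    rw [cent_cj hx, card_cj, card_cj]; exact h.large
  strict := by
    intro B hB hne hneA
    have hx' : x⁻¹ ∈ normalizer (V : Set G) := inv_mem hx
    have hB' : MinOffender.cj x⁻¹ B ≤ A := (cj_mono x⁻¹ hB).trans (cj_inv_cj x A).le
    have := h.strict (MinOffender.cj x⁻¹ B) hB' (fun e => hne (by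
      have := congrArg (MinOffender.cj x) e
      rwa [cj_cj_inv, MinOffender.cj, Subgroup.map_bot] at this)) (fun e => hneA (by rw [← e, cj_cj_inv]))
    rw [cent_cj hx', card_cj, card_cj] at this
    rwa [cent_cj hx, card_cj, card_cj]

/-- `p`-subgroups are conjugate into `T`. -/
theorem PMin.sylow_conj [Finite G] [Fact p.Prime] (h : PMin p P T M) {H R : Subgroup G} (hH : H ≤ P)
    (hTH : T ≤ H) (hR : R ≤ H) (hRp : IsPGroup p R) : ∃ x ∈ H, MinOffender.cj x R ≤ T := by
  let S : Sylow p H :=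
    { toSubgroup := T.subgroupOf H
      isPGroup' := h.Tp.comap_subtype
      is_maximal' := by
        intro Q hQ hle
        have hmap := h.syl (Q.map H.subtype) ((Subgroup.map_subtype_le _).trans hH) (hQ.map _) (by
          intro t ht
          exact ⟨⟨t, hTH ht⟩, hle (by rw [mem_subgroupOf]; exact ht), rfl⟩)
        refine le_antisymm (fun q hq => ?_) hle
        rw [mem_subgroupOf, ← hmap]
        exact ⟨q, hq, rfl⟩ }
  obtain ⟨Q, hQ⟩ := (hRp.comap_subtype (K := H) : IsPGroup p (R.subgroupOf H)).exists_le_sylow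
  obtain ⟨x, hx⟩ := MulAction.exists_smul_eq H Q S
  refine ⟨x, x.2, ?_⟩
  rintro _ ⟨r, hr, rfl⟩
  have hrQ : (⟨r, hR hr⟩ : H) ∈ (Q : Subgroup H) :=
    hQ (show (⟨r, hR hr⟩ : H) ∈ R.subgroupOf H from hr)
  have : x * ⟨r, hR hr⟩ * x⁻¹ ∈ (S : Subgroup H) := by
    rw [← hx]; exact ⟨_, hrQ, rfl⟩
  exact (mem_subgroupOf.1 this)

/-- A proper subgroup of a `p`-group is properly contained in its normaliser. -/
theorem exists_normalizer_gt [Finite G] [Fact p.Prime] {R S : Subgroup G} (hS : IsPGroup p S)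
    (hle : R ≤ S) (hne : R ≠ S) : ∃ y ∈ S, y ∉ R ∧ y ∈ normalizer (R : Set G) := by
  have hlt : R.subgroupOf S < ⊤ := by
    rw [lt_top_iff_ne_top, Ne, subgroupOf_eq_top]
    exact fun h => hne (le_antisymm hle h)
  haveI := hS.isNilpotent
  obtain ⟨y, hy, hyn⟩ := SetLike.exists_of_lt (normalizerCondition_of_isNilpotent _ hlt)
  refine ⟨y, y.2, hyn, mem_normalizer_iff.2 fun z => ⟨fun hz => ?_, fun hz => ?_⟩⟩
  · exact (mem_normalizer_iff.1 hy ⟨z, hle hz⟩).1 hz
  · have hzS : z ∈ S := by
      have := S.mul_mem (S.mul_mem (S.inv_mem y.2) (hle hz)) y.2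
      simpa [mul_assoc] using this
    exact (mem_normalizer_iff.1 hy ⟨z, hzS⟩).2 hz

theorem card_lt_of_mem [Finite G] {H K : Subgroup G} (hle : H ≤ K) {y : G} (hy : y ∈ K) (hn : y ∉ H) :
    Nat.card H < Nat.card K :=
  lt_of_le_of_ne (card_le_of_le hle) fun e => hn ((eq_of_le_of_card_ge hle e.ge).symm ▸ hy)

variable [Finite G] [Fact p.Prime] (h : PMin p P T M)
include h

theorem PMin.hTP : T ≤ P := h.hTM.trans h.hMP

/-- If a conjugate of `A` is moved out of `T` then the normaliser of `T` is proper. -/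
theorem PMin.normalizer_T_le (hnot : ¬ ∀ g ∈ P, MinOffender.cj g A ≤ T) (hAT : A ≤ T) :
    P ⊓ normalizer (T : Set G) ≤ M := by
  refine h.max _ inf_le_left (le_inf h.hTP le_normalizer) fun e => hnot fun g hg => ?_
  exact (cj_mono g hAT).trans (cj_eq_of_mem_normalizer (e.symm.le hg).2).le

/-- `M` is self-normalising. -/
theorem PMin.normalizer_M_le (hnot : ¬ ∀ g ∈ P, MinOffender.cj g A ≤ T) (hAT : A ≤ T) :
    P ⊓ normalizer (M : Set G) ≤ M := by
  refine h.max _ inf_le_left (le_inf h.hTP (h.hTM.trans le_normalizer)) fun e => h.hne ?_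
  refine le_antisymm h.hMP fun g hg => ?_
  have hg' := cj_eq_of_mem_normalizer (e.symm.le hg).2
  obtain ⟨m, hm, hmT⟩ := h.sylow_conj h.hMP h.hTM ((cj_mono g h.hTM).trans hg'.le) (h.Tp.map _)
  rw [← cj_mul] at hmT
  have heq := cj_eq_of_mem_normalizer (x := m * g) (H := T)
  have h1 : MinOffender.cj (m * g) T = T := eq_of_le_of_card_ge hmT (card_cj _ _).ge
  have := h.normalizer_T_le hnot hAT ⟨P.mul_mem (h.hMP hm) hg, mem_normalizer_of_cj_eq h1⟩
  simpa using M.mul_mem (M.inv_mem hm) this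

omit h in
/-- The L-lemma. -/
theorem exists_good (comm : ∀ a ∈ V, ∀ b ∈ V, a * b = b * a) (expV : ∀ v ∈ V, v ^ p = 1) (n : ℕ) :
    ∀ P T M A : Subgroup G, ∀ z : G, Nat.card P ≤ n → PMin p P T M →
      P ≤ normalizer (V : Set G) → P ⊓ centralizer (V : Set G) = ⊥ →
      A ≤ T → MinOff p V A → (¬ ∀ g ∈ P, MinOffender.cj g A ≤ T) →
      z ∈ V → z ∈ centralizer (T : Set G) → z ∉ centralizer (P : Set G) →
      ∃ k ∈ P, ∃ L R : Subgroup G, L ≤ P ∧ R ≤ T ∧ MinOffender.cj k A ≤ T ∧ ¬ L ≤ M ∧
        Base p V L R (L ⊓ M) (MinOffender.cj k A) ∧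
        ∀ K ≤ L, (∀ g ∈ K, g ^ p = 1) → L ≤ normalizer (K : Set G) → K ≤ R := by
  induction n using Nat.strong_induction_on with
  | _ n ih =>
  intro P T M A z hn h hPV hfaith hAT hA hnot hzV hzT hzP
  by_cases hcase : ∀ K ≤ P, K ≠ P → A ≤ K → K ≤ M
  · -- `M` is the only maximal subgroup containing `A`
    refine ⟨1, P.one_mem, P, T, le_rfl, le_rfl, by rwa [cj_one], fun e => h.hne (le_antisymm h.hMP e),
      ?_, ?_⟩
    · rw [cj_one, inf_eq_right.2 h.hMP]
      have hAP : A ≤ P := hAT.trans h.hTP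
      have hNM := h.normalizer_M_le hnot hAT
      exact
        { comm := comm
          expV := expV
          hPV := hPV
          faith := hfaith
          hAT := hAT
          hTM := h.hTM
          hMP := h.hMP
          proper := SetLike.exists_of_lt (lt_of_le_of_ne h.hMP h.hne)
          commA := hA.commA
          expA := hA.expA
          gen := by
            intro x hx hxM
            have hle : A ⊔ MinOffender.cj x A ≤ P := sup_le hAP (cj_le hx hAP)
            by_contra hne
            have hK := hcase _ hle hne le_sup_left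
            have h1 : A ≤ MinOffender.cj x⁻¹ M :=
              le_trans (cj_inv_cj x A).ge (cj_mono _ (le_sup_right.trans hK))
            have h2 := hcase _ (cj_le (P.inv_mem hx) h.hMP) (fun e => h.hne (by
              have := congrArg (MinOffender.cj x) e
              rwa [cj_cj_inv, cj_eq_self hx] at this)) h1
            have h3 : MinOffender.cj x⁻¹ M = M := eq_of_le_of_card_ge h2 (card_cj _ _).ge
            exact hxM (by simpa using M.inv_mem (hNM ⟨P.inv_mem hx, mem_normalizer_of_cj_eq h3⟩))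
          large := hA.large
          strict := hA.strict
          fixed := ⟨z, hzV, hzT, hzP⟩
          sylM := by
            intro a ha _ x _ hb
            have hp : IsPGroup p (zpowers (x⁻¹ * a * x)) := by
              rintro ⟨_, j, rfl⟩
              refine ⟨1, Subtype.ext ?_⟩
              show ((x⁻¹ * a * x) ^ j) ^ p ^ 1 = 1
              have e : (x⁻¹ * a * x) ^ p = 1 := by
                have : (MulAut.conj x⁻¹) (a ^ p) = ((MulAut.conj x⁻¹) a) ^ p := map_pow _ _ _
                rw [hA.expA a ha, map_one] at this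
                simpa using this.symm
              rw [pow_one, ← zpow_natCast, ← zpow_mul, mul_comm, zpow_mul, zpow_natCast, e, one_zpow]
            obtain ⟨m, hm, hmT⟩ := h.sylow_conj h.hMP h.hTM (zpowers_le.2 hb) hp
            refine ⟨m⁻¹, M.inv_mem hm, ?_⟩
            rw [inv_inv]
            exact hmT (conj_mem_cj (mem_zpowers _))
          core := by
            intro a ha hall g hg
            -- the normal core of `M`
            let N : Subgroup G := P ⊓ ⨅ g : P, MinOffender.cj (g : G) M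
            have hNM : N ≤ M := fun v hv => by
              have := (mem_iInf.1 hv.2) 1
              rwa [OneMemClass.coe_one, cj_one] at this
            have hNn : ∀ k ∈ P, MinOffender.cj k N = N := fun k hk => by
              refine eq_of_le_of_card_ge ?_ (card_cj _ _).ge
              rintro _ ⟨v, hv, rfl⟩
              refine ⟨P.mul_mem (P.mul_mem hk hv.1) (P.inv_mem hk), mem_iInf.2 fun j => ?_⟩
              have := (mem_iInf.1 hv.2) ⟨k⁻¹ * j, P.mul_mem (P.inv_mem hk) j.2⟩
              rw [mem_cj] at this ⊢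
              simpa [mul_assoc] using this
            have haN : a ∈ N := by
              refine ⟨hAP ha, mem_iInf.2 fun k => ?_⟩
              rw [mem_cj]
              by_cases hk : (k : G) ∈ M
              · exact M.mul_mem (M.mul_mem (M.inv_mem hk) (h.hTM (hAT ha))) hk
              · exact hall k k.2 hk
            set Q := T ⊓ N
            have hall' : P ≤ normalizer (Q : Set G) := by
              have hTQ : T ≤ P ⊓ normalizer (Q : Set G) := fun t ht => ⟨h.hTP ht, by
                refine mem_normalizer_of_cj_eq (le_antisymm (le_inf ?_ ?_) ?_)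
                · exact (cj_mono t inf_le_left).trans (cj_le_self ht)
                · exact (cj_mono t inf_le_right).trans (hNn t (h.hTP ht)).le
                · intro v hv
                  rw [mem_cj]
                  refine ⟨T.mul_mem (T.mul_mem (T.inv_mem ht) hv.1) ht, ?_⟩
                  have := (hNn t⁻¹ (P.inv_mem (h.hTP ht))).le (conj_mem_cj (x := t⁻¹) hv.2)
                  simpa using this⟩
              by_contra hne
              have hQM := h.max _ inf_le_left hTQ fun e => hne fun g hg => (e.symm.le hg).2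
              -- Frattini
              refine h.hne (le_antisymm h.hMP fun g hg => ?_)
              have hQg : MinOffender.cj g Q ≤ N := (cj_mono g inf_le_right).trans (hNn g hg).le
              have hsup : IsPGroup p ↥(MinOffender.cj g Q) := (h.Tp.to_le inf_le_left).map _
              obtain ⟨m, hm, hmT⟩ := h.sylow_conj (H := N ⊔ T) (sup_le inf_le_left h.hTP) le_sup_right
                (hQg.trans le_sup_left) hsup
              have hmM : m ∈ M := sup_le hNM h.hTM hm
              have hmP := h.hMP hmM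
              have h1 : MinOffender.cj (m * g) Q = Q := by
                refine eq_of_le_of_card_ge (le_inf ?_ ?_) (card_cj _ _).ge
                · rw [cj_mul]; exact hmT
                · exact (cj_mono _ inf_le_right).trans (hNn _ (P.mul_mem hmP hg)).le
              have := hQM ⟨P.mul_mem hmP hg, mem_normalizer_of_cj_eq h1⟩
              simpa using M.mul_mem (M.inv_mem hmM) this
            have := (mem_normalizer_iff.1 (hall' (P.inv_mem hg)) a).1 ⟨hAT ha, haN⟩
            rw [inv_inv] at this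
            exact this.1 }
    · intro K hK hexp hKn
      have hKp : IsPGroup p K := fun g => ⟨1, Subtype.ext (by simpa using hexp g g.2)⟩
      obtain ⟨x, hx, hxT⟩ := h.sylow_conj le_rfl h.hTP hK hKp
      rwa [cj_eq_of_mem_normalizer (hKn hx)] at hxT
  · -- reduce to a smaller minimal parabolic
    push Not at hcase
    obtain ⟨K₀, hK₀P, hK₀ne, hAK₀, hK₀M⟩ := hcase
    let S : Set (Subgroup G) :=
      {K | K ≤ P ∧ K ≠ P ∧ ¬ K ≤ M ∧ ∃ k ∈ P, MinOffender.cj k A ≤ T ⊓ K}
    obtain ⟨K, ⟨hKP, hKne, hKM, k₁, hk₁, hk₁R⟩, hmax⟩ := Set.exists_max_image S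
      (fun K => Nat.card ↥(T ⊓ K)) (Set.toFinite S)
      ⟨K₀, hK₀P, hK₀ne, hK₀M, 1, P.one_mem, by rw [cj_one]; exact le_inf hAT hAK₀⟩
    set R := T ⊓ K with hR
    -- every conjugate-stable set inside `T` is excluded
    have hstable : ∀ Q : Subgroup G, Q ≤ T → (∃ k ∈ P, MinOffender.cj k A ≤ Q) →
        ¬ P ≤ normalizer (Q : Set G) := by
      rintro Q hQ ⟨k, hk, hkQ⟩ hn'
      refine hnot fun g hg => ?_
      have h1 := cj_mono (g * k⁻¹) hkQ
      rw [← cj_mul, inv_mul_cancel_right, cj_eq_of_mem_normalizer (hn' (P.mul_mem hg (P.inv_mem hk)))] at h1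
      exact h1.trans hQ
    have hRne : R ≠ T := fun e => hKM (h.max K hKP (e ▸ inf_le_right) hKne)
    obtain ⟨y, hyT, hyR, hyN⟩ := exists_normalizer_gt h.Tp (inf_le_left : R ≤ T) hRne
    have hbig : ∀ K' ∈ S, R ≤ K' → y ∉ K' := by
      intro K' hK' hRK' hy'
      refine absurd (hmax K' hK') (not_le.2 ?_)
      exact card_lt_of_mem (le_inf inf_le_left hRK') (y := y) ⟨hyT, hy'⟩ hyR
    have hNR : P ⊓ normalizer (R : Set G) ≤ M := by
      by_contra hN
      have hne' : P ⊓ normalizer (R : Set G) ≠ P := fun e =>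
        hstable R inf_le_left ⟨k₁, hk₁, hk₁R⟩ fun g hg => (e.symm.le hg).2
      have hRN : R ≤ P ⊓ normalizer (R : Set G) := le_inf (inf_le_right.trans hKP) le_normalizer
      exact hbig _ ⟨inf_le_left, hne', hN, k₁, hk₁, le_inf (hk₁R.trans inf_le_left) (hk₁R.trans hRN)⟩
        hRN ⟨h.hTP hyT, hyN⟩
    have hRsyl : ∀ R' ≤ K, IsPGroup p R' → R ≤ R' → R' = R := by
      intro R' hR' hR'p hRR'
      by_contra hne'
      obtain ⟨w, hw, hwR, hwN⟩ := exists_normalizer_gt hR'p hRR' fun e => hne' e.symm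
      set R'' := R' ⊓ normalizer (R : Set G)
      have hR''M : R'' ≤ M := le_trans (le_inf ((inf_le_left).trans (hR'.trans hKP)) inf_le_right) hNR
      obtain ⟨m, hm, hmT⟩ := h.sylow_conj h.hMP h.hTM hR''M (hR'p.to_le inf_le_left)
      have hmP := h.hMP hm
      have hK' : MinOffender.cj m K ∈ S := by
        refine ⟨cj_le hmP hKP, fun e => hKne ?_, fun e => hKM ?_, m * k₁, P.mul_mem hmP hk₁, ?_⟩
        · have := congrArg (MinOffender.cj m⁻¹) e
          rwa [cj_inv_cj, cj_eq_self (P.inv_mem hmP)] at this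
        · have := cj_mono m⁻¹ e
          rwa [cj_inv_cj, cj_eq_self (M.inv_mem hm)] at this
        · rw [cj_mul]
          exact le_inf ((cj_mono m (hk₁R.trans (le_inf hRR' le_normalizer))).trans hmT)
            (cj_mono m (hk₁R.trans inf_le_right))
      refine absurd (hmax _ hK') (not_le.2 ?_)
      show Nat.card ↥R < Nat.card ↥(T ⊓ MinOffender.cj m K)
      refine lt_of_lt_of_le ?_ (card_le_of_le (le_inf hmT (cj_mono m (inf_le_left.trans hR'))))
      rw [card_cj]
      exact card_lt_of_mem (le_inf hRR' le_normalizer) (y := w) ⟨hw, hwN⟩ hwR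
    obtain ⟨X, ⟨hRX, hXK, hXM⟩, hXmin⟩ := Set.exists_min_image
      {X : Subgroup G | R ≤ X ∧ X ≤ K ∧ ¬ X ≤ M} (fun X => Nat.card X) (Set.toFinite _)
      ⟨K, inf_le_right, le_rfl, hKM⟩
    have hXP : X ≤ P := hXK.trans hKP
    obtain ⟨k₂, hk₂, hk₂R, hk₂X⟩ : ∃ k ∈ P, MinOffender.cj k A ≤ R ∧
        ¬ ∀ x ∈ X, MinOffender.cj x (MinOffender.cj k A) ≤ R := by
      by_contra hcon
      push Not at hcon
      let Q₀ : Subgroup G := ⨆ k : {k : G // k ∈ P ∧ MinOffender.cj k A ≤ R}, MinOffender.cj (k : G) A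
      have hQR : Q₀ ≤ R := iSup_le fun k => k.2.2
      have hmemQ : ∀ k ∈ P, MinOffender.cj k A ≤ R → MinOffender.cj k A ≤ Q₀ := fun k hk hkR =>
        le_iSup (fun k : {k : G // k ∈ P ∧ MinOffender.cj k A ≤ R} => MinOffender.cj (k : G) A) ⟨k, hk, hkR⟩
      have hgen : ∀ x ∈ P, (∀ k ∈ P, MinOffender.cj k A ≤ R → MinOffender.cj (x * k) A ≤ R) →
          x ∈ normalizer (Q₀ : Set G) := by
        intro x hx hxR
        refine mem_normalizer_of_cj_eq (eq_of_le_of_card_ge ?_ (card_cj _ _).ge)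
        rw [MinOffender.cj, Subgroup.map_iSup]
        refine iSup_le fun k => ?_
        show MinOffender.cj x (MinOffender.cj (k : G) A) ≤ Q₀
        rw [← cj_mul]
        exact hmemQ _ (P.mul_mem hx k.2.1) (hxR k k.2.1 k.2.2)
      have hXN : X ≤ P ⊓ normalizer (Q₀ : Set G) := fun x hx => ⟨hXP hx, hgen x (hXP hx)
        fun k hk hkR => by rw [cj_mul]; exact hcon k hk hkR x hx⟩
      have hyQ : y ∈ P ⊓ normalizer (Q₀ : Set G) := ⟨h.hTP hyT, hgen y (h.hTP hyT) fun k hk hkR => by
        rw [cj_mul]; exact (cj_mono y hkR).trans (cj_eq_of_mem_normalizer hyN).le⟩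
      have hne' : P ⊓ normalizer (Q₀ : Set G) ≠ P := fun e =>
        hstable Q₀ (hQR.trans inf_le_left) ⟨k₁, hk₁, hmemQ k₁ hk₁ hk₁R⟩ fun g hg => (e.symm.le hg).2
      exact hbig _ ⟨inf_le_left, hne', fun e => hXM (hXN.trans e), k₁, hk₁,
        le_inf (hk₁R.trans inf_le_left) (hk₁R.trans (hRX.trans hXN))⟩ (hRX.trans hXN) hyQ
    have hpX : PMin p X R (X ⊓ M) :=
      { hTM := le_inf hRX (inf_le_left.trans h.hTM)
        hMP := inf_le_left
        hne := fun e => hXM (inf_eq_left.1 e)
        Tp := h.Tp.to_le inf_le_left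
        syl := fun R' hR' hp hle => hRsyl R' (hR'.trans hXK) hp hle
        max := fun Y hY hRY hne' => le_inf hY (by
          by_contra hYM
          exact hne' (eq_of_le_of_card_ge hY (hXmin Y ⟨hRY, hY.trans hXK, hYM⟩))) }
    have hzX : z ∉ centralizer (X : Set G) := by
      intro hzX
      have hC : P ⊓ centralizer ({z} : Set G) ≤ M := by
        refine h.max _ inf_le_left (le_inf h.hTP fun t ht => ?_) fun e => hzP ?_
        · exact mem_centralizer_singleton_iff.2 (mem_centralizer_iff.1 hzT t ht)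
        · exact mem_centralizer_iff.2 fun g hg => mem_centralizer_singleton_iff.1 (e.symm.le hg).2
      exact hXM fun x hx => hC ⟨hXP hx, mem_centralizer_singleton_iff.2 (mem_centralizer_iff.1 hzX x hx)⟩
    have hlt : Nat.card X < n := lt_of_lt_of_le (lt_of_lt_of_le (Nat.lt_of_le_of_ne (card_le_of_le hXP)
      fun e => hKne (le_antisymm hKP ((eq_of_le_of_card_ge hXP e.ge).ge.trans hXK))) le_rfl) hn
    obtain ⟨k, hk, L, R₁, hLX, hR₁, hkR, hLM, hB, hK⟩ := ih (Nat.card X) hlt X R (X ⊓ M)
      (MinOffender.cj k₂ A) z le_rfl hpX (hXP.trans hPV)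
      (le_bot_iff.1 (hfaith ▸ inf_le_inf_right _ hXP)) hk₂R (hA.cj (hPV hk₂)) hk₂X hzV
      (centralizer_le (SetLike.coe_subset_coe.2 (inf_le_left : R ≤ T)) hzT) hzX
    rw [← inf_assoc, inf_eq_left.2 hLX, ← cj_mul] at hB
    rw [← cj_mul] at hkR
    exact ⟨k * k₂, P.mul_mem (hXP hk) hk₂, L, R₁, hLX.trans hXP, hR₁.trans inf_le_left,
      hkR.trans inf_le_left, fun e => hLM (le_inf hLX e), hB, hK⟩

end Cfsg.Agent.H34.Para
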