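import Cfsg.Agent.H34.Para.Two
import Mathlib

/-!
An extension of the module by a trivial one has fixed points of the Sylow subgroup outside the
trivial part: members of order two.
-/

set_option autoImplicit false
set_option linter.style.haveILetI false
set_option linter.unusedSectionVars false
set_option maxHeartbeats 1000000

namespace Cfsg.Agent.H34.Para

open Subgroup
open Cfsg.Agent.H34.MinOffender

variable {G : Type*} [Group G]

/-- A module `U` over `P` mapping onto `V`, where `A₀` fixes the kernel and the fixed points of `T`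
lie in the kernel. -/
structure Lift (p : ℕ) (V P T A₀ : Subgroup G) (U : Type*) [AddCommGroup U] where
  la : G → U →+ U
  la_mul : ∀ g k, g ∈ P → k ∈ P → ∀ u, la (g * k) u = la g (la k u)
  la_one : ∀ u, la 1 u = u
  pr : U →+ Additive ↥V
  surj : Function.Surjective pr
  pr_la : ∀ g ∈ P, ∀ u,
    ((Additive.toMul (pr (la g u)) : ↥V) : G) = g * ((Additive.toMul (pr u) : ↥V) : G) * g⁻¹
  expU : ∀ u : U, p • u = 0
  fix : ∀ a ∈ A₀, ∀ u, pr u = 0 → la a u = u
  noFixed : ∀ u, (∀ t ∈ T, la t u = u) → pr u = 0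

variable {p : ℕ} {V P T M A₀ : Subgroup G} {W U : Type*} [AddCommGroup W] [AddCommGroup U]
  (Lf : Lift p V P T A₀ U) (e : Additive ↥V ≃+ W)
include Lf

theorem Lift.e_la (hPV : P ≤ normalizer (V : Set G)) {g : G} (hg : g ∈ P) (u : U) :
    e (Lf.pr (Lf.la g u)) = act e g (e (Lf.pr u)) :=
  vec_inj e (by
    rw [vec_act e (hPV hg)]
    simp only [vec, AddEquiv.symm_apply_apply]
    exact Lf.pr_la g hg u)

theorem Lift.ker_stable {g : G} (hg : g ∈ P) {u : U} (hu : Lf.pr u = 0) : Lf.pr (Lf.la g u) = 0 :=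
  Additive.toMul.injective (Subtype.ext (by rw [Lf.pr_la g hg, hu]; simp))

theorem Lift.fix_mem (hA₀P : A₀ ≤ P) {X : Subgroup G} (hX : Mem P A₀ X) {g : G} (hg : g ∈ X) {u : U}
    (hu : Lf.pr u = 0) : Lf.la g u = u := by
  obtain ⟨k, hk, rfl⟩ := hX
  obtain ⟨a, ha, rfl⟩ := hg
  show Lf.la (k * a * k⁻¹) u = u
  rw [Lf.la_mul _ _ (P.mul_mem hk (hA₀P ha)) (P.inv_mem hk), Lf.la_mul _ _ hk (hA₀P ha),
    Lf.fix a ha _ (Lf.ker_stable (P.inv_mem hk) hu), ← Lf.la_mul _ _ hk (P.inv_mem hk), mul_inv_cancel,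
    Lf.la_one]

omit Lf

variable [Finite G]

/-- A closed frame of odd degree with a transvection in `T` gives a fixed point outside the kernel. -/
theorem Lift.false_frame {h : FFP 2 V P T M} {e : Additive ↥V ≃+ W} {S : TS W} (R : Real h e A₀ S)
    (Lf : Lift 2 V P T A₀ U) {n : ℕ} (F₀ : Frame S n) (hn : 3 ≤ n) (hF₀ : R.Closed F₀)
    (hodd : (n : ZMod 2) = 1) {c₀ : W} (hc₀ : c₀ ∈ F₀.pairs) (hc₀T : elt e P A₀ c₀ ∈ T) : False := by
  classical
  haveI : Fact (Nat.Prime 2) := ⟨Nat.prime_two⟩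
  have hPV := h.hPV
  have hTP := h.hTP
  haveI : Finite W := Finite.of_injective e.symm e.symm.injective
  haveI : Fintype W := Fintype.ofFinite W
  let π : U →+ W := e.toAddMonoidHom.comp Lf.pr
  have hπla : ∀ {g}, g ∈ P → ∀ u, π (Lf.la g u) = act e g (π u) := fun hg u => Lf.e_la e hPV hg u
  have hπs : ∀ w, ∃ u, π u = w := fun w => by
    obtain ⟨u, hu⟩ := Lf.surj (e.symm w)
    exact ⟨u, by show e (Lf.pr u) = w; rw [hu, e.apply_symm_apply]⟩
  have hker : ∀ {u}, π u = 0 → Lf.pr u = 0 := fun hu => e.injective (hu.trans (map_zero e).symm)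
  have hfix : ∀ {c}, c ∈ S.ctr → ∀ {u}, π u = 0 → Lf.la (elt e P A₀ c) u = u := fun {c} hc {u} hu =>
    Lf.fix_mem R.hA₀P (R.tr hc).isMem (mem_zpowers _) (hker hu)
  have hsq : ∀ {c}, c ∈ S.ctr → elt e P A₀ c * elt e P A₀ c = 1 := fun {c} hc => by
    rw [← pow_two]
    exact (h.mem_minOff R.hA₀P R.hA₀ (R.tr hc).isMem).expA _ (mem_zpowers _)
  have two : ∀ u : U, u + u = 0 := fun u => by simpa [two_nsmul] using Lf.expU u
  -- the displacement
  let D : W → U →+ U := fun c => Lf.la (elt e P A₀ c) - AddMonoidHom.id U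
  have hD : ∀ c u, D c u = Lf.la (elt e P A₀ c) u - u := fun c u => rfl
  have hπD : ∀ {c}, c ∈ S.ctr → ∀ u, π (D c u) = sm (S.φ c (π u)) c := fun {c} hc u => by
    rw [hD, map_sub, hπla (R.el_mem hc), R.act_el hc, add_sub_cancel_left]
  have hDker : ∀ {c}, c ∈ S.ctr → ∀ {u}, π u = 0 → D c u = 0 := fun {c} hc {u} hu => by
    rw [hD, hfix hc hu, sub_self]
  have hodd5 : n ≠ 4 := by rintro rfl; exact absurd hodd (by decide)
  -- for adjacent centres the displacement is constant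
  have hkey : ∀ (F : Frame S n), R.Closed F → ∀ c ∈ F.pairs, (∃ d ∈ S.ctr, S.φ c d = 1) ∧
      ∀ d ∈ S.ctr, ∀ d' ∈ S.ctr, S.φ c d = 1 → S.φ c d' = 1 →
      ∀ u u', π u = d → π u' = d' → D c u = D c u' := by
    intro F hF c hcp
    have hc := F.pairs_ctr hcp
    obtain ⟨i, j, hij, rfl⟩ := hcp
    obtain ⟨k₀, hk₀i, hk₀j⟩ : ∃ k₀, k₀ ≠ i ∧ k₀ ≠ j := by
      obtain ⟨x, hx⟩ : ∃ x, x ∈ (Finset.univ.erase i).erase j := Finset.card_pos.1 (by
        rw [Finset.card_erase_of_mem (by simp [hij.symm]), Finset.card_erase_of_mem (Finset.mem_univ i),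
          Finset.card_univ, Fintype.card_fin]
        omega)
      simp only [Finset.mem_erase] at hx
      exact ⟨x, hx.2.1, hx.1⟩
    have hd₀ : S.φ (F.ω i + F.ω j) (F.ω i + F.ω k₀) = 1 := by
      rw [F.pair i j i k₀ hij hk₀i.symm]
      simp [ind, hij.symm, hk₀i.symm, hk₀j.symm]
    refine ⟨⟨_, F.mem i k₀ hk₀i.symm, hd₀⟩, ?_⟩
    let Z : W → Prop := fun s => ∀ u, π u = s → D (F.ω i + F.ω j) u = 0
    have hZ0 : Z 0 := fun u hu => hDker hc hu
    have hZadd : ∀ s t, Z s → Z t → Z (s + t) := by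
      intro s t hs ht u hu
      obtain ⟨v, hv⟩ := hπs s
      rw [show u = v + (u - v) by abel, map_add, hs v hv, zero_add]
      exact ht _ (by rw [map_sub, hu, hv]; abel)
    have hZgen : ∀ v, π v = (F.ω i + F.ω j) → D (F.ω i + F.ω j) v = 0 := by
      intro v hv
      obtain ⟨u₀, hu₀⟩ := hπs (F.ω i + F.ω k₀)
      set x := D (F.ω i + F.ω j) u₀ with hx
      have hπx : π x = F.ω i + F.ω j := by rw [hx, hπD hc, hu₀, hd₀, sm_one]
      rw [show v = x + (v - x) by abel, map_add,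
        hDker hc (show π (v - x) = 0 by rw [map_sub, hv, hπx, sub_self]), add_zero, hx, hD, hD, map_sub,
        ← Lf.la_mul _ _ (R.el_mem hc) (R.el_mem hc), hsq hc, Lf.la_one]
      have e1 := two u₀
      have e2 := two (Lf.la (elt e P A₀ (F.ω i + F.ω j)) u₀)
      calc _ = (u₀ + u₀) - (Lf.la (elt e P A₀ (F.ω i + F.ω j)) u₀ + Lf.la (elt e P A₀ (F.ω i + F.ω j)) u₀) := by
            abel
        _ = 0 := by rw [e1, e2, sub_zero]
    have hZout : ∀ k l, k ≠ i → k ≠ j → l ≠ i → l ≠ j → Z (F.ω k + F.ω l) := by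
      intro k l hki hkj hli hlj
      by_cases hkl : k = l
      · subst hkl; rw [S.two]; exact hZ0
      have h5 : 5 ≤ n := by
        have : ({i, j, k, l} : Finset (Fin n)).card ≤ Fintype.card (Fin n) := Finset.card_le_univ _
        rw [Finset.card_insert_of_notMem (by simp [hij, hki.symm, hli.symm]),
          Finset.card_insert_of_notMem (by simp [hkj.symm, hlj.symm]), Finset.card_pair hkl,
          Fintype.card_fin] at this
        omega
      obtain ⟨r, hr⟩ : ∃ r, r ∈ Finset.univ \ ({i, j, k, l} : Finset (Fin n)) := Finset.card_pos.1 (by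
        rw [Finset.card_sdiff_of_subset (Finset.subset_univ _), Finset.card_univ, Fintype.card_fin]
        have : ({i, j, k, l} : Finset (Fin n)).card ≤ 4 := Finset.card_le_four
        omega)
      simp only [Finset.mem_sdiff, Finset.mem_univ, true_and, Finset.mem_insert, Finset.mem_singleton,
        not_or] at hr
      obtain ⟨hri, hrj, hrk, hrl⟩ := hr
      have hkc := F.mem k l hkl
      obtain ⟨u₁, hu₁⟩ := hπs (F.ω l + F.ω r)
      set x := D (F.ω k + F.ω l) u₁ with hx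
      have h1 : S.φ (F.ω k + F.ω l) (F.ω l + F.ω r) = 1 := by
        rw [F.pair k l l r hkl (Ne.symm hrl)]
        simp [ind, hkl, (Ne.symm hkl), hrk, (Ne.symm hrk), (Ne.symm hrl), hrl]
      have h0 : S.φ (F.ω i + F.ω j) (F.ω l + F.ω r) = 0 := by
        rw [F.pair i j l r hij (Ne.symm hrl)]
        simp [ind, hli, hli.symm, hlj, hlj.symm, hri, (Ne.symm hri), hrj, (Ne.symm hrj)]
      have h0' : S.φ (F.ω i + F.ω j) (F.ω k + F.ω l) = 0 := by
        rw [F.pair i j k l hij hkl]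
        simp [ind, hki, hki.symm, hkj, hkj.symm, hli, hli.symm, hlj, hlj.symm]
      have hπx : π x = F.ω k + F.ω l := by rw [hx, hπD hkc, hu₁, h1, sm_one]
      intro u hu
      rw [show u = x + (u - x) by abel, map_add,
        hDker hc (show π (u - x) = 0 by rw [map_sub, hu, hπx, sub_self]), add_zero]
      have hfx : Lf.la (elt e P A₀ (F.ω k + F.ω l)) (D (F.ω i + F.ω j) u₁) = D (F.ω i + F.ω j) u₁ :=
        hfix hkc (by rw [hπD hc, hu₁, h0, sm_zero])
      rw [hD, map_sub, ← Lf.la_mul _ _ (R.el_mem hkc) (R.el_mem hc)] at hfx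
      rw [hx, hD, hD, map_sub, ← Lf.la_mul _ _ (R.el_mem hc) (R.el_mem hkc), R.el_comm hc hkc h0']
      calc _ = (Lf.la (elt e P A₀ (F.ω k + F.ω l) * elt e P A₀ (F.ω i + F.ω j)) u₁ -
            Lf.la (elt e P A₀ (F.ω k + F.ω l)) u₁) - (Lf.la (elt e P A₀ (F.ω i + F.ω j)) u₁ - u₁) := by abel
        _ = 0 := by rw [hfx, sub_self]
    have hform : ∀ d ∈ S.ctr, S.φ (F.ω i + F.ω j) d = 1 →
        ∃ a k, (a = i ∨ a = j) ∧ k ≠ i ∧ k ≠ j ∧ d = F.ω a + F.ω k := by
      intro d hd h1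
      have hdp : d ∈ F.pairs := by
        by_contra hnp
        exact one_ne_zero (h1.symm.trans ((S.symm _ hc d hd).trans (hF d hd hnp _ (F.mem_pairs hij))))
      obtain ⟨a, k, hak, rfl⟩ := hdp
      by_cases ha : a = i ∨ a = j
      · by_cases hk : k = i ∨ k = j
        · rw [F.pair i j a k hij hak] at h1
          rcases ha with rfl | rfl <;> rcases hk with rfl | rfl <;>
            simp [ind, hij, hij.symm] at h1 hak
          all_goals exact absurd h1 (by decide)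
        · exact ⟨a, k, ha, fun h' => hk (.inl h'), fun h' => hk (.inr h'), rfl⟩
      · by_cases hk : k = i ∨ k = j
        · exact ⟨k, a, hk, fun h' => ha (.inl h'), fun h' => ha (.inr h'), add_comm _ _⟩
        · simp only [not_or] at ha hk
          rw [F.pair i j a k hij hak] at h1
          simp [ind, ha.1, ha.2, hk.1, hk.2, Ne.symm ha.1, Ne.symm ha.2, Ne.symm hk.1, Ne.symm hk.2] at h1
    intro d hd d' hd' h1 h1' u u' hu hu'
    obtain ⟨a, k, ha, hki, hkj, rfl⟩ := hform d hd h1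
    obtain ⟨a', k', ha', hki', hkj', rfl⟩ := hform d' hd' h1'
    have hs : Z ((F.ω a + F.ω a') + (F.ω k + F.ω k')) := by
      refine hZadd _ _ ?_ (hZout k k' hki hkj hki' hkj')
      rcases ha with rfl | rfl <;> rcases ha' with rfl | rfl
      · rw [S.two]; exact hZ0
      · exact hZgen
      · rw [add_comm]; exact hZgen
      · rw [S.two]; exact hZ0
    have h2 := hs (u + u') (by rw [map_add, hu, hu']; abel)
    rw [map_add] at h2
    rw [eq_neg_of_add_eq_zero_left h2]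
    exact (eq_neg_of_add_eq_zero_left (two _)).symm
  -- the lifted centres
  let Tc : Finset W := Finset.univ.filter fun c => c ∈ S.ctr ∧ elt e P A₀ c ∈ T ∧
    ∃ t ∈ T, c ∈ act e t '' F₀.pairs
  have hval : ∀ c ∈ Tc, ∃ y : U, π y = c ∧ (∃ d ∈ S.ctr, S.φ c d = 1) ∧
      ∀ d ∈ S.ctr, S.φ c d = 1 → ∀ u, π u = d → D c u = y := by
    intro c hc
    simp only [Tc, Finset.mem_filter, Finset.mem_univ, true_and] at hc
    obtain ⟨hc, -, t, ht, hcF⟩ := hc
    rw [← R.image_pairs (hTP ht)] at hcF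
    obtain ⟨⟨d, hd, h1⟩, huniq⟩ := hkey _ (R.closed_image (hTP ht) hF₀) c hcF
    obtain ⟨u, hu⟩ := hπs d
    exact ⟨D c u, by rw [hπD hc, hu, h1, sm_one], ⟨d, hd, h1⟩,
      fun d' hd' h1' u' hu' => huniq d' hd' d hd h1' h1 u' u hu' hu⟩
  choose! val hvalπ hvald hvalu using hval
  have hTc : ∀ t ∈ T, ∀ c ∈ Tc, act e t c ∈ Tc := by
    intro t ht c hc
    simp only [Tc, Finset.mem_filter, Finset.mem_univ, true_and] at hc ⊢
    obtain ⟨hcc, hcT, s, hs, x, hx, rfl⟩ := hc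
    obtain ⟨h1, h2, -⟩ := R.map_ctr (hTP ht) hcc
    exact ⟨h1, h2 ▸ T.mul_mem (T.mul_mem ht hcT) (T.inv_mem ht), t * s, T.mul_mem ht hs, x, hx,
      act_mul e (hPV (hTP ht)) (hPV (hTP hs)) x⟩
  have hequiv : ∀ t ∈ T, ∀ c ∈ Tc, Lf.la t (val c) = val (act e t c) := by
    intro t ht c hc
    have hcc : c ∈ S.ctr := (Finset.mem_filter.1 hc).2.1
    obtain ⟨d, hd, h1⟩ := hvald c hc
    obtain ⟨u, hu⟩ := hπs d
    obtain ⟨m1, m2, m3⟩ := R.map_ctr (hTP ht) hcc
    rw [← hvalu _ (hTc t ht c hc) _ (R.map_ctr (hTP ht) hd).1 ((m3 d).trans h1) (Lf.la t u)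
      (by rw [hπla (hTP ht), hu]), ← hvalu c hc d hd h1 u hu, hD, hD, map_sub, m2,
      ← Lf.la_mul _ _ (hTP ht) (R.el_mem hcc),
      ← Lf.la_mul _ _ (P.mul_mem (P.mul_mem (hTP ht) (R.el_mem hcc)) (P.inv_mem (hTP ht))) (hTP ht),
      inv_mul_cancel_right]
  have hfixed : ∀ t ∈ T, Lf.la t (∑ c ∈ Tc, val c) = ∑ c ∈ Tc, val c := by
    intro t ht
    rw [map_sum, Finset.sum_congr rfl (hequiv t ht)]
    refine Finset.sum_bij (fun c _ => act e t c) (hTc t ht) ?_ ?_ (fun _ _ => rfl)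
    · intro a _ b _ hab
      have := congrArg (act e t⁻¹) hab
      rwa [act_inv_act e (hPV (hTP ht)), act_inv_act e (hPV (hTP ht))] at this
    · intro b hb
      exact ⟨act e t⁻¹ b, hTc t⁻¹ (T.inv_mem ht) b hb, act_act_inv e (hPV (hTP ht)) b⟩
  have hsum0 : ∑ c ∈ Tc, c = 0 := by
    rw [← Finset.sum_congr rfl hvalπ, ← map_sum]
    show e (Lf.pr _) = 0
    rw [Lf.noFixed _ hfixed, map_zero]
  -- the centres of `T` in the frame are disjoint
  have hdisj : ∀ a b a' : Fin n, a ≠ b → a ≠ a' → b ≠ a' →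
      elt e P A₀ (F₀.ω a + F₀.ω b) ∈ T → elt e P A₀ (F₀.ω a + F₀.ω a') ∈ T → False := by
    intro a b a' hab haa' hba' h1 h2
    set x := elt e P A₀ (F₀.ω a + F₀.ω b)
    set y := elt e P A₀ (F₀.ω a + F₀.ω a')
    have hxP : x ∈ P := R.el_mem (F₀.mem a b hab)
    have hyP : y ∈ P := R.el_mem (F₀.mem a a' haa')
    have hc := h.commute R.hA₀P R.hA₀ (Nat.card ↥(zpowers x ⊔ zpowers y)) (zpowers x) (zpowers y) le_rfl
      (R.tr (F₀.mem a b hab)).isMem (R.tr (F₀.mem a a' haa')).isMem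
      (h.pm.Tp.to_le (sup_le (zpowers_le.2 h1) (zpowers_le.2 h2))) x (mem_zpowers _) y (mem_zpowers _)
    have r1 := R.rel_mul F₀ hxP hyP (R.rel_swap F₀ hab) (R.rel_swap F₀ haa')
    have r2 := R.rel_mul F₀ hyP hxP (R.rel_swap F₀ haa') (R.rel_swap F₀ hab)
    rw [hc] at r1
    have := Equiv.ext_iff.1 (R.rel_unique F₀ hn r1 r2) a
    rw [Equiv.Perm.mul_apply, Equiv.Perm.mul_apply, Equiv.swap_apply_left, Equiv.swap_apply_left,
      Equiv.swap_apply_of_ne_of_ne haa'.symm hba'.symm, Equiv.swap_apply_of_ne_of_ne hab.symm hba'] at this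
    exact hba' this.symm
  obtain ⟨i, j, hij, rfl⟩ := hc₀
  -- an uncovered point
  obtain ⟨k, hk⟩ : ∃ k, ∀ l, l ≠ k → elt e P A₀ (F₀.ω k + F₀.ω l) ∉ T := by
    by_contra hall
    push Not at hall
    choose μ hμne hμT using hall
    have hinv : ∀ a, μ (μ a) = a := fun a => by
      by_contra hne
      exact hdisj (μ a) a (μ (μ a)) (hμne a) (hμne (μ a)).symm (Ne.symm hne)
        (by rw [add_comm]; exact hμT a) (hμT (μ a))
    have h0 : ∑ _a : Fin n, (1 : ZMod 2) = 0 :=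
      Finset.sum_involution (fun a _ => μ a) (fun _ _ => z2_add_self 1) (fun a _ _ => hμne a)
        (fun _ _ => Finset.mem_univ _) (fun a _ => hinv a)
    rw [Finset.sum_const, Finset.card_univ, Fintype.card_fin, nsmul_eq_mul, mul_one, hodd] at h0
    exact one_ne_zero h0
  have hki : k ≠ i := fun e' => hk j (e' ▸ hij.symm) (e' ▸ hc₀T)
  have hkj : k ≠ j := fun e' => hk i (e' ▸ hij) (by rw [e', add_comm]; exact hc₀T)
  have hdc := F₀.mem i k hki.symm
  let φh : W →+ ZMod 2 := AddMonoidHom.mk' (S.φ (F₀.ω i + F₀.ω k)) (S.add _ hdc)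
  have h0 : φh (∑ c ∈ Tc, c) = 1 := by
    rw [map_sum, Finset.sum_eq_single (F₀.ω i + F₀.ω j)]
    · show S.φ _ _ = 1
      rw [F₀.pair i k i j hki.symm hij]
      simp [ind, hij, hij.symm, hki, hki.symm, hkj, hkj.symm]
    · intro c hc hne
      simp only [Tc, Finset.mem_filter, Finset.mem_univ, true_and] at hc
      obtain ⟨hcc, hcT, -⟩ := hc
      show S.φ _ c = 0
      by_cases hcp : c ∈ F₀.pairs
      · obtain ⟨a, b, hab, rfl⟩ := hcp
        rw [F₀.pair i k a b hki.symm hab]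
        have hak : a ≠ k := fun e' => hk b (e' ▸ hab.symm) (e' ▸ hcT)
        have hbk : b ≠ k := fun e' => hk a (e' ▸ hab) (by rw [← e', add_comm]; exact hcT)
        have hai : a ≠ i := by
          rintro rfl
          by_cases hbj : b = j
          · exact hne (by rw [hbj])
          · exact hdisj a j b hij hab (Ne.symm hbj) hc₀T hcT
        have hbi : b ≠ i := by
          rintro rfl
          by_cases haj : a = j
          · exact hne (by rw [haj, add_comm])
          · exact hdisj b j a hij hab.symm (Ne.symm haj) hc₀T (by rw [add_comm]; exact hcT)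
        simp [ind, hai, hai.symm, hbi, hbi.symm, hak, hak.symm, hbk, hbk.symm]
      · exact (S.symm c hcc _ hdc).symm.trans (hF₀ c hcc hcp _ (F₀.mem_pairs hki.symm))
    · intro hnot
      refine absurd ?_ hnot
      simp only [Tc, Finset.mem_filter, Finset.mem_univ, true_and]
      exact ⟨F₀.mem i j hij, hc₀T, 1, T.one_mem, _, F₀.mem_pairs hij, act_one e _⟩
  rw [hsum0, map_zero] at h0
  exact zero_ne_one h0

/-- Members of order two: fixed points of `T` outside the kernel. -/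
theorem Lift.false_two (h : FFP 2 V P T M) (e : Additive ↥V ≃+ W) (Lf : Lift 2 V P T A₀ U) (hA₀P : A₀ ≤ P)
    (hA₀ : MinOff 2 V A₀) (hq : Nat.card ↥A₀ = 2) : False := by
  haveI : Fact (Nat.Prime 2) := ⟨Nat.prime_two⟩
  obtain ⟨S, hctr, hphi⟩ := exists_ts h e hA₀P hA₀
  have R : Real h e A₀ S := ⟨hA₀P, hA₀, hctr, hphi⟩
  obtain ⟨n, F₀, hn, hF₀, hFM, c₀, hc₀, hc₀T⟩ := exists_closed_frame h e R hq
  obtain ⟨⟨m, hm, hnm⟩, -⟩ := components_of_frame h e R F₀ hn hF₀ hFM
  refine Lift.false_frame R Lf F₀ hn hF₀ ?_ hc₀ hc₀T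
  obtain ⟨k, rfl⟩ := Nat.exists_eq_succ_of_ne_zero (show m ≠ 0 by omega)
  rw [hnm, Nat.cast_add, Nat.cast_pow, Nat.cast_one, pow_succ, show ((2 : ℕ) : ZMod 2) = 0 from rfl, mul_zero,
    zero_add]

end Cfsg.Agent.H34.Para
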