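import Cfsg.Agent.H34.Para.Unique
import Mathlib

/-!
The orbit of the subgroup through a minimal offender under the Sylow subgroup, large fields.
-/

set_option autoImplicit false
set_option linter.style.haveILetI false
set_option maxHeartbeats 1000000

namespace Cfsg.Agent.H34.Para

open Subgroup
open Cfsg.Agent.H34.MinOffender
open scoped commutatorElement Matrix

universe u

variable {G : Type u} [Group G] [Finite G] {p : ℕ} [Fact p.Prime] {V P T M A L : Subgroup G}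

section chart

variable {F : Type} [Field F] [Fintype F] {C : Type*} [AddCommGroup C] (c : Chart p V P T M A L F C)
include c

theorem Chart.not_commute : ¬ ∀ a ∈ A, ∀ b ∈ cj c.ww A, a * b = b * a := by
  intro h
  have e2 := h _ (c.up_mem 1) _ (conj_mem_cj (x := c.ww) (c.up_mem 1))
  have hbP : c.ww * c.up 1 * c.ww⁻¹ ∈ P := P.mul_mem (P.mul_mem c.wwP (c.upP 1)) (P.inv_mem c.wwP)
  have e3 := congrArg (fun g => (act c.e g ((1, 0, 0) : F × F × C)).1) e2
  rw [act_mul c.e (c.hPV hbP) (c.hPV (c.upP 1)), act_mul c.e (c.hPV (c.upP 1)) (c.hPV hbP), c.act_up,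
    c.act_low, c.act_low, c.act_up] at e3
  simp at e3

theorem Chart.L_not_commute {H : Subgroup G} (hH : H ≤ L) (hA : A ≤ H) (hB : cj c.ww A ≤ H) :
    ¬ ∀ a ∈ H, ∀ b ∈ H, a * b = b * a :=
  fun h => c.not_commute fun a ha b hb => h a (hA ha) b (hB hb)

theorem Chart.hz_T : ∃ z : F × F × C, (∀ t ∈ T, act c.e t z = z) ∧ (∀ g ∈ P, act c.e g z = z → g ∈ M) :=
  c.exists_z

/-- Conjugates of `L` under `T` agree or commute. -/
theorem Chart.orbit_pair {t : G} (ht : t ∈ T) :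
    cj t L = L ∨ (cj t L ≠ L ∧ cj t A ≠ A ∧ ∀ x ∈ cj t L, ∀ y ∈ L, x * y = y * x) := by
  have hTP := c.base.hTP
  have hTM := c.base.pm.hTM
  obtain ⟨z, hzT, hzM⟩ := c.exists_z
  by_cases hA : cj t A = A
  · exact Or.inl (c.normalizes hzT hzM (hTM ht) hA (hzT t ht))
  have hp : ∀ s ∈ T, ∀ x ∈ cj s A, ∀ a ∈ A, x * a = a * x := fun s hs =>
    c.base.commute c.hAP c.hA (Nat.card ↥(cj s A ⊔ A)) (cj s A) A le_rfl (c.memA.cj (hTP hs)) c.memA
      (c.base.pm.Tp.to_le (sup_le (cj_le hs c.hAT) c.hAT))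
  have hcentA : ∀ s ∈ T, cj s A ≠ A → ∀ x ∈ cj s A, ∀ g ∈ L, x * g = g * x := fun s hs hne =>
    c.centralizes (c.memA.cj (hTP hs)) hne (hp s hs)
  have hA' : cj t⁻¹ A ≠ A := fun e => hA (by conv_lhs => rw [← e, cj_cj_inv])
  -- `A` centralises `cj t L`
  have h1 : ∀ g ∈ cj t L, ∀ a ∈ A, g * a = a * g := by
    rintro _ ⟨g, hg, rfl⟩ a ha
    have e1 := hcentA t⁻¹ (T.inv_mem ht) hA' _ (conj_mem_cj (x := t⁻¹) ha) g hg
    have e2 := congrArg (fun x => t * x * t⁻¹) e1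
    show t * g * t⁻¹ * a = a * (t * g * t⁻¹)
    simpa [mul_assoc] using e2.symm
  set B' := cj t (cj c.ww A) with hB'
  have hB'L : B' ≤ cj t L := cj_mono t (cj_le c.ww_mem c.hAL)
  have hBA : B' ≠ A := by
    intro e
    refine c.not_commute fun a ha b hb => ?_
    have hm : t * b * t⁻¹ ∈ A := e ▸ conj_mem_cj hb
    have e1 := hp t ht _ (conj_mem_cj ha) _ hm
    have e2 := congrArg (fun x => t⁻¹ * x * t) e1
    simpa [mul_assoc] using e2
  have h2 := c.centralizes (X := B') (c.memB.cj (hTP ht)) hBA fun x hx a ha => h1 x (hB'L hx) a ha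
  have hcomm : ∀ x ∈ cj t L, ∀ y ∈ L, x * y = y * x := by
    intro x hx y hy
    have hle : cj t L ≤ centralizer ({y} : Set G) := by
      conv_lhs => rw [← c.gen_ww, cj, Subgroup.map_sup]
      refine sup_le (fun a ha => mem_cent_singleton (hcentA t ht hA a ha y hy)) fun b hb =>
        mem_cent_singleton (h2 b hb y hy)
    exact mem_centralizer_singleton_iff.1 (hle hx)
  refine Or.inr ⟨fun e => ?_, hA, hcomm⟩
  rw [e] at hcomm
  exact c.L_not_commute le_rfl c.hAL (cj_le c.ww_mem c.hAL) hcomm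

/-- Displacements of a subgroup generated by members are fixed by a commuting one. -/
theorem Chart.disp_fixed {s t : G} (hs : s ∈ P) (ht : t ∈ P)
    (hc : ∀ x ∈ cj s L, ∀ y ∈ cj t L, x * y = y * x) :
    ∀ x ∈ cj s L, ∀ v ∈ V, ⁅x, v⁆ ∈ V ⊓ centralizer ((cj t L : Subgroup G) : Set G) := by
  have hgen : ∀ u : G, cj u L = cj u A ⊔ cj u (cj c.ww A) := fun u => by
    conv_lhs => rw [← c.gen_ww, cj, Subgroup.map_sup]
    rfl
  have hmem : ∀ X, (X = cj s A ∨ X = cj s (cj c.ww A)) → ∀ Y, (Y = cj t A ∨ Y = cj t (cj c.ww A)) →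
      ∀ x ∈ X, ∀ v ∈ V, ⁅x, v⁆ ∈ V ⊓ centralizer (Y : Set G) := by
    intro X hX Y hY x hx v hv
    have hXs : X ≤ cj s L := by
      rcases hX with rfl | rfl
      · exact cj_mono s c.hAL
      · exact cj_mono s (cj_le c.ww_mem c.hAL)
    have hYt : Y ≤ cj t L := by
      rcases hY with rfl | rfl
      · exact cj_mono t c.hAL
      · exact cj_mono t (cj_le c.ww_mem c.hAL)
    have hXm : Mem P A X := by
      rcases hX with rfl | rfl
      · exact c.memA.cj hs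
      · exact c.memB.cj hs
    have hYm : Mem P A Y := by
      rcases hY with rfl | rfl
      · exact c.memA.cj ht
      · exact c.memB.cj ht
    refine c.base.pair_sum c.hAP c.hA hXm hYm (fun e => ?_) (fun a ha b hb => hc a (hXs ha) b (hYt hb))
      hx hv
    subst e
    -- a member inside both commutes with its partner
    rcases hX with rfl | rfl
    · refine c.not_commute fun a ha b hb => ?_
      have e1 := hc _ (conj_mem_cj (x := s) (cj_le c.ww_mem c.hAL hb)) _ (hYt (conj_mem_cj (x := s) ha))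
      have e2 := congrArg (fun x => s⁻¹ * x * s) e1
      simpa [mul_assoc] using e2.symm
    · refine c.not_commute fun a ha b hb => ?_
      have e1 := hc _ (conj_mem_cj (x := s) (c.hAL ha)) _ (hYt (conj_mem_cj (x := s) hb))
      have e2 := congrArg (fun x => s⁻¹ * x * s) e1
      simpa [mul_assoc] using e2
  have hVN := c.hPV
  let D : Subgroup G :=
    { carrier := {x | x ∈ cj s L ∧ ∀ v ∈ V, ⁅x, v⁆ ∈ V ⊓ centralizer ((cj t L : Subgroup G) : Set G)}
      one_mem' := ⟨one_mem _, fun v _ => by rw [commutatorElement_one_left]; exact one_mem _⟩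
      mul_mem' := by
        rintro x y ⟨hx, h1⟩ ⟨hy, h2⟩
        refine ⟨mul_mem hx hy, fun v hv => ?_⟩
        rw [comm_mul_left]
        refine mul_mem ⟨Cfsg.Agent.H34.conj_mem_of_mem_normalizer (hVN (cj_le hs c.hLP hx)) (h2 v hv).1,
          mem_centralizer_iff.2 fun z hz => ?_⟩ (h1 v hv)
        have e := mem_centralizer_iff.1 (h2 v hv).2 z hz
        have e' := hc x hx z hz
        calc z * (x * ⁅y, v⁆ * x⁻¹) = (z * x) * ⁅y, v⁆ * x⁻¹ := by group
          _ = x * (z * ⁅y, v⁆) * x⁻¹ := by rw [← e']; group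
          _ = x * ⁅y, v⁆ * (z * x⁻¹) := by rw [e]; group
          _ = x * ⁅y, v⁆ * x⁻¹ * z := by
            rw [show z * x⁻¹ = x⁻¹ * z by rw [eq_inv_mul_iff_mul_eq, ← mul_assoc, e', mul_inv_cancel_right]]
            group
      inv_mem' := by
        rintro x ⟨hx, h1⟩
        refine ⟨inv_mem hx, fun v hv => ?_⟩
        have hv' : x⁻¹ * v * x ∈ V := by simpa using c.base.conj_V (P.inv_mem (cj_le hs c.hLP hx)) hv
        have h3 := inv_mem (h1 _ hv')
        rwa [show ⁅x, x⁻¹ * v * x⁆⁻¹ = ⁅x⁻¹, v⁆ by simp only [commutatorElement_def]; group] at h3 }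
  have hle : cj s L ≤ D := by
    conv_lhs => rw [hgen]
    refine sup_le (fun x hx => ⟨(hgen s).ge (mem_sup_left hx), fun v hv => ?_⟩)
      (fun x hx => ⟨(hgen s).ge (mem_sup_right hx), fun v hv => ?_⟩) <;>
      rw [hgen t, Cfsg.Agent.H34.centralizer_sup_eq]
    · exact ⟨(hmem _ (.inl rfl) _ (.inl rfl) x hx v hv).1, (hmem _ (.inl rfl) _ (.inl rfl) x hx v hv).2,
        (hmem _ (.inl rfl) _ (.inr rfl) x hx v hv).2⟩
    · exact ⟨(hmem _ (.inr rfl) _ (.inl rfl) x hx v hv).1, (hmem _ (.inr rfl) _ (.inl rfl) x hx v hv).2,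
        (hmem _ (.inr rfl) _ (.inr rfl) x hx v hv).2⟩
  exact fun x hx => (hle hx).2

end chart

/-- The structure for a minimal offender of order at least three. -/
theorem exists_components_large' (h : FFP p V P T M) {A₀ : Subgroup G} (hA₀P : A₀ ≤ P)
    (hA₀ : MinOff p V A₀) (hq : 3 ≤ Nat.card ↥A₀) :
    ∃ (r : ℕ) (E : Fin r → Subgroup G), 1 ≤ r ∧ (∀ i, E i ≤ P) ∧ (∀ i j, i ≠ j → ⁅E i, E j⁆ = ⊥) ∧
      (∀ i, E i ⊓ (⨆ j ∈ {j | j ≠ i}, E j) = ⊥) ∧ (⨆ i, E i) ⊔ T = P ∧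
      (∀ i j, ∃ t ∈ T, (E i).map (MulAut.conj t).toMonoidHom = E j) ∧
      (∀ t ∈ T, ∀ i, ∃ j, cj t (E i) = E j) ∧
      (∀ i, E i ≤ closure {g | ∃ X, Mem P A₀ X ∧ g ∈ X}) ∧
      (V ⊓ centralizer (((⨆ i, E i) : Subgroup G) : Set G)) ⊔ (⨆ i, ⁅V, E i⁆) = V ∧
      (∀ i j, i ≠ j → ⁅⁅V, E i⁆, E j⁆ = ⊥) ∧
      ∀ i, ∃ n : ℕ, 1 ≤ n ∧ ∃ (F : Type) (_ : Field F) (_ : Fintype F), Fintype.card F = p ^ n ∧
        Nonempty (↥(E i) ≃* Matrix.SpecialLinearGroup (Fin 2) F) ∧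
        Cfsg.ActsAsSL2OnSection F ⊤ (E i) ⁅V, E i⁆
          (⁅V, E i⁆ ⊓ centralizer ((E i : Subgroup G) : Set G)) := by
  classical
  obtain ⟨k, hk, L, R, hLP, -, hkT, hLM, hB, hnormp⟩ := h.exists_good hA₀P hA₀
  obtain ⟨F, iF, iF', C, iC, ⟨c⟩⟩ := exists_chart h (hA₀.cj (h.hPV hk)) hkT hLP hLM hB hnormp
    (by rwa [card_cj])
  set A := cj k A₀
  have hPV := c.hPV
  have hTP := h.hTP
  have hLV : L ≤ normalizer (V : Set G) := hLP.trans hPV
  -- the orbit
  let S := {X : Subgroup G // ∃ t ∈ T, X = cj t L}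
  haveI : Finite S := inferInstance
  haveI : Fintype S := Fintype.ofFinite S
  let eS := (Fintype.equivFin S).symm
  let E : Fin (Fintype.card S) → Subgroup G := fun i => (eS i).1
  have hEex : ∀ i, ∃ t ∈ T, E i = cj t L := fun i => (eS i).2
  choose tt htt hEt using hEex
  have hEne : ∀ i j, i ≠ j → ∀ x ∈ E i, ∀ y ∈ E j, x * y = y * x := by
    intro i j hij x hx y hy
    rw [hEt] at hx hy
    have hne : cj ((tt j)⁻¹ * tt i) L ≠ L := fun e => hij (eS.injective (Subtype.ext (by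
      show E i = E j
      rw [hEt i, hEt j]
      conv_rhs => rw [← e, ← cj_mul, mul_inv_cancel_left])))
    obtain e | ⟨-, -, hc⟩ := c.orbit_pair (T.mul_mem (T.inv_mem (htt j)) (htt i))
    · exact absurd e hne
    have h1 : (tt j)⁻¹ * x * tt j ∈ cj ((tt j)⁻¹ * tt i) L := by
      rw [cj_mul]; simpa using conj_mem_cj (x := (tt j)⁻¹) hx
    have e1 := hc _ h1 _ (mem_cj.1 hy)
    have e2 := congrArg (fun u => tt j * u * (tt j)⁻¹) e1
    simpa [mul_assoc] using e2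
  have hEP : ∀ i, E i ≤ P := fun i => (hEt i).le.trans (cj_le (hTP (htt i)) hLP)
  have hLmem : ∃ i, E i = L := ⟨eS.symm ⟨L, 1, T.one_mem, (cj_one L).symm⟩, by simp [E]⟩
  -- coordinates of each component
  let π : Fin (Fintype.card S) → G → (Fin 2 → F) := fun i v =>
    if hv : v ∈ V then
      ![(c.e (Additive.ofMul ⟨(tt i)⁻¹ * v * tt i, by simpa using c.base.conj_V (P.inv_mem (hTP (htt i))) hv⟩)).1,
        (c.e (Additive.ofMul ⟨(tt i)⁻¹ * v * tt i, by simpa using c.base.conj_V (P.inv_mem (hTP (htt i))) hv⟩)).2.1]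
    else 0
  have hπw : ∀ i v, v ∈ V → ∃ w, vec c.e w = (tt i)⁻¹ * v * tt i ∧ π i v = ![w.1, w.2.1] := fun i v hv =>
    ⟨_, vec_e c.e ⟨(tt i)⁻¹ * v * tt i, by simpa using c.base.conj_V (P.inv_mem (hTP (htt i))) hv⟩, dif_pos hv⟩
  have hπmul : ∀ i, ∀ v ∈ V, ∀ u ∈ V, π i (v * u) = π i v + π i u := by
    intro i v hv u hu
    obtain ⟨w, hw, hw'⟩ := hπw i v hv
    obtain ⟨w₁, hw₁, hw₁'⟩ := hπw i u hu
    obtain ⟨w₂, hw₂, hw₂'⟩ := hπw i (v * u) (V.mul_mem hv hu)
    have e : w₂ = w + w₁ := vec_inj c.e (by rw [vec_add, hw, hw₁, hw₂]; group)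
    rw [hw', hw₁', hw₂', e]
    funext j; fin_cases j <;> rfl
  have hπker : ∀ i, ∀ v ∈ V, π i v = 0 ↔ v ∈ centralizer ((E i : Subgroup G) : Set G) := by
    intro i v hv
    obtain ⟨w, hw, hw'⟩ := hπw i v hv
    have h1 : π i v = 0 ↔ (tt i)⁻¹ * v * tt i ∈ V ⊓ centralizer (L : Set G) := by
      rw [hw', ← hw, c.mem_C]
      refine ⟨fun e => ⟨congrFun e 0, congrFun e 1⟩, fun e => ?_⟩
      funext j; fin_cases j
      · exact e.1
      · exact e.2
    rw [h1, hEt, ← mem_cj, ← cent_cj (hPV (hTP (htt i))), mem_inf, and_iff_right hv]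
  have hπact : ∀ i, ∀ g, g ∈ E i → ∀ (hg : (tt i)⁻¹ * g * tt i ∈ L), ∀ v ∈ V,
      π i (g * v * g⁻¹) =
        ((c.rho ⟨_, hg⟩ : Matrix.SpecialLinearGroup (Fin 2) F) : Matrix (Fin 2) (Fin 2) F) *ᵥ π i v := by
    intro i g hgE hg v hv
    obtain ⟨w, hw, hw'⟩ := hπw i v hv
    obtain ⟨w₂, hw₂, hw₂'⟩ := hπw i (g * v * g⁻¹) (c.base.conj_V (hEP i hgE) hv)
    have e : w₂ = act c.e ((tt i)⁻¹ * g * tt i) w := vec_inj c.e (by
      rw [hw₂, vec_act c.e (hLV hg), hw]; group)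
    rw [hw₂', hw', e]
    exact c.act_rho ⟨_, hg⟩ w
  have hWV : ∀ i, ⁅V, E i⁆ ≤ V := fun i => commutator_le.2 fun v hv g hg => by
    rw [commutatorElement_def, mul_assoc, mul_assoc, ← mul_assoc g]
    exact V.mul_mem hv (c.base.conj_V (hEP i hg) (V.inv_mem hv))
  have hcross : ∀ i j, i ≠ j → ⁅V, E i⁆ ≤ centralizer ((E j : Subgroup G) : Set G) := by
    intro i j hij
    refine commutator_le.2 fun v hv g hg => ?_
    have h1 := c.disp_fixed (hTP (htt i)) (hTP (htt j))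
      (fun x hx y hy => hEne i j hij x ((hEt i).ge hx) y ((hEt j).ge hy)) g ((hEt i).le hg) v hv
    rw [← commutatorElement_inv, hEt j]
    exact inv_mem h1.2
  have hsurj : ∀ i f, ∃ u ∈ ⁅V, E i⁆, π i u = f := by
    intro i f
    have key : ∀ w : F × F × C, ∀ a ∈ L, ∃ u ∈ ⁅V, E i⁆,
        π i u = ![(act c.e a w - w).1, (act c.e a w - w).2.1] := by
      intro w a ha
      set v := tt i * vec c.e w * (tt i)⁻¹
      have hv : v ∈ V := c.base.conj_V (hTP (htt i)) (vec_mem c.e w)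
      set g := tt i * a * (tt i)⁻¹
      have hg : g ∈ E i := (hEt i).ge (conj_mem_cj ha)
      have hu : ⁅g, v⁆ ∈ ⁅V, E i⁆ := by
        rw [← commutatorElement_inv]; exact inv_mem (commutator_mem_commutator hv hg)
      refine ⟨_, hu, ?_⟩
      obtain ⟨w₂, hw₂, hw₂'⟩ := hπw i ⁅g, v⁆ (hWV i hu)
      have e : w₂ = act c.e a w - w := vec_inj c.e (by
        rw [hw₂, vec_comm c.e (hLV ha)]
        simp only [g, v, commutatorElement_def]
        group)
      rw [hw₂', e]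
    obtain ⟨u₁, hu₁, e₁⟩ := key (0, 1, 0) (c.up (f 0)) (c.hAL (c.up_mem _))
    obtain ⟨u₂, hu₂, e₂⟩ := key (1, 0, 0) (c.ww * c.up (-(f 1)) * c.ww⁻¹)
      (L.mul_mem (L.mul_mem c.ww_mem (c.hAL (c.up_mem _))) (L.inv_mem c.ww_mem))
    refine ⟨u₁ * u₂, mul_mem hu₁ hu₂, ?_⟩
    rw [hπmul i _ (hWV i hu₁) _ (hWV i hu₂), e₁, e₂, c.act_up, c.act_low]
    funext j; fin_cases j <;> simp
  have hconjmem : ∀ i, ∀ g ∈ E i, (tt i)⁻¹ * g * tt i ∈ L := fun i g hg => mem_cj.1 ((hEt i).le hg)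
  refine ⟨_, E, Fintype.card_pos_iff.2 ⟨⟨L, 1, T.one_mem, (cj_one L).symm⟩⟩, hEP, fun i j hij =>
    commutator_eq_bot_iff_le_centralizer.2 fun x hx => mem_centralizer_iff.2 fun y hy =>
      (hEne i j hij x hx y hy).symm, ?_, ?_, ?_, ?_, ?_, ?_, fun i j hij =>
    commutator_eq_bot_iff_le_centralizer.2 (hcross i j hij), ?_⟩
  · intro i
    refine le_bot_iff.1 fun g hg => ?_
    have hle : (⨆ j ∈ {j | j ≠ i}, E j) ≤ centralizer ((⁅V, E i⁆ : Subgroup G) : Set G) :=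
      iSup₂_le fun j hj => le_centralizer_iff.1 (hcross i j (Ne.symm hj))
    have hg' := hconjmem i g hg.1
    have hfix : ∀ f, ((c.rho ⟨_, hg'⟩ : Matrix.SpecialLinearGroup (Fin 2) F) :
        Matrix (Fin 2) (Fin 2) F) *ᵥ f = f := by
      intro f
      obtain ⟨u, hu, rfl⟩ := hsurj i f
      rw [← hπact i g hg.1 hg' u (hWV i hu)]
      congr 1
      rw [← mem_centralizer_iff.1 (hle hg.2) u hu, mul_inv_cancel_right]
    have h1 : c.rho ⟨_, hg'⟩ = 1 := Subtype.ext (Matrix.ext_of_mulVec_single fun j => by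
      rw [hfix, Matrix.SpecialLinearGroup.coe_one, Matrix.one_mulVec])
    rw [← map_one c.rho] at h1
    have h2 : (tt i)⁻¹ * g * tt i = 1 := congrArg (fun x : ↥L => (x : G)) (c.rho.injective h1)
    rw [mem_bot]
    calc g = tt i * ((tt i)⁻¹ * g * tt i) * (tt i)⁻¹ := by group
      _ = 1 := by rw [h2]; group
  · obtain ⟨i, hi⟩ := hLmem
    refine le_antisymm (sup_le (iSup_le hEP) hTP) ?_
    by_contra hne
    refine hLM (le_trans ?_ (h.pm.max ((⨆ i, E i) ⊔ T) (sup_le (iSup_le hEP) hTP) le_sup_right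
      fun e => hne e.ge))
    exact le_trans hi.ge (le_trans (le_iSup E i) le_sup_left)
  · intro i j
    refine ⟨tt j * (tt i)⁻¹, T.mul_mem (htt j) (T.inv_mem (htt i)), ?_⟩
    show cj (tt j * (tt i)⁻¹) (E i) = E j
    rw [hEt i, hEt j, ← cj_mul, inv_mul_cancel_right]
  · intro t ht i
    refine ⟨eS.symm ⟨cj t (E i), t * tt i, T.mul_mem ht (htt i), by rw [cj_mul, ← hEt]⟩, ?_⟩
    simp [E]
  · intro i
    rw [hEt i]
    conv_lhs => rw [← c.gen_ww]
    rw [cj, Subgroup.map_sup]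
    refine sup_le (fun g hg => subset_closure ⟨cj (tt i) A, ?_, hg⟩)
      fun g hg => subset_closure ⟨cj (tt i) (cj c.ww A), ?_, hg⟩
    · exact Mem.cj ⟨k, hk, rfl⟩ (hTP (htt i))
    · exact Mem.cj (Mem.cj ⟨k, hk, rfl⟩ c.wwP) (hTP (htt i))
  · refine le_antisymm (sup_le inf_le_left (iSup_le hWV)) fun v hv => ?_
    have hstep : ∀ s : Finset (Fin (Fintype.card S)),
        ∃ u ∈ (⨆ i, ⁅V, E i⁆ : Subgroup G), ∀ i ∈ s, π i (v * u⁻¹) = 0 := by
      intro s
      induction s using Finset.induction with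
      | empty => exact ⟨1, one_mem _, fun i hi => by simp at hi⟩
      | @insert i s his ih =>
        obtain ⟨u, hu, hus⟩ := ih
        have huV : u ∈ V := iSup_le hWV hu
        have hvu : v * u⁻¹ ∈ V := V.mul_mem hv (V.inv_mem huV)
        obtain ⟨w, hw, hwe⟩ := hsurj i (π i (v * u⁻¹))
        have hzero : ∀ j, π j 1 = 0 := fun j => by
          have := hπmul j 1 V.one_mem 1 V.one_mem
          rw [one_mul, left_eq_add] at this
          exact this
        have hinv : ∀ j, π j w⁻¹ = -π j w := fun j => by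
          rw [eq_neg_iff_add_eq_zero, ← hπmul j _ (V.inv_mem (hWV i hw)) _ (hWV i hw), inv_mul_cancel,
            hzero]
        refine ⟨w * u, mul_mem (le_iSup (fun i => ⁅V, E i⁆) i hw) hu, fun j hj => ?_⟩
        rw [mul_inv_rev, ← mul_assoc, hπmul j _ hvu _ (V.inv_mem (hWV i hw)), hinv]
        by_cases hji : j = i
        · subst hji; rw [hwe, add_neg_cancel]
        · rw [hus j ((Finset.mem_insert.1 hj).resolve_left hji),
            (hπker j w (hWV i hw)).2 (hcross i j (Ne.symm hji) hw), neg_zero, add_zero]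
    obtain ⟨u, hu, hall⟩ := hstep Finset.univ
    have huV : u ∈ V := iSup_le hWV hu
    have hvu : v * u⁻¹ ∈ V := V.mul_mem hv (V.inv_mem huV)
    have : v * u⁻¹ ∈ V ⊓ centralizer (((⨆ i, E i) : Subgroup G) : Set G) :=
      ⟨hvu, le_centralizer_iff.1 (iSup_le fun i => le_centralizer_iff.1
        (zpowers_le.2 ((hπker i _ hvu).1 (hall i (Finset.mem_univ i))))) (mem_zpowers _)⟩
    rw [show v = v * u⁻¹ * u by group]
    exact mul_mem (mem_sup_left this) (mem_sup_right hu)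
  · intro i
    have hp : IsPGroup p A := fun a => ⟨1, Subtype.ext (by simpa using c.hA.expA a a.2)⟩
    obtain ⟨n, hn⟩ := IsPGroup.iff_card.1 hp
    have hcard : Fintype.card F = p ^ n := c.card_F.trans hn
    have hn1 : 1 ≤ n := by
      by_contra h0
      rw [show n = 0 by omega, pow_zero] at hcard
      have := c.hq
      omega
    let ct : ↥(E i) →* ↥L :=
      { toFun := fun g => ⟨_, hconjmem i g g.2⟩
        map_one' := Subtype.ext (by simp)
        map_mul' := fun a b => Subtype.ext (by simp [mul_assoc]) }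
    have hct : Function.Bijective ct := by
      refine ⟨fun a b hab => ?_, fun g => ⟨⟨_, (hEt i).ge (conj_mem_cj g.2)⟩, Subtype.ext ?_⟩⟩
      · have := congrArg (fun x : ↥L => tt i * (x : G) * (tt i)⁻¹) hab
        simpa [ct, mul_assoc] using this
      · show (tt i)⁻¹ * (tt i * (g : G) * (tt i)⁻¹) * tt i = g
        group
    let ψ : ↥⁅V, E i⁆ →* Multiplicative (Fin 2 → F) :=
      MonoidHom.mk' (fun u => Multiplicative.ofAdd (π i u))
        (fun a b => congrArg Multiplicative.ofAdd (hπmul i a (hWV i a.2) b (hWV i b.2)))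
    refine ⟨n, hn1, F, iF, iF', hcard, ⟨(MulEquiv.ofBijective ct hct).trans c.rho⟩,
      normalizer_commutator_ge_right V (E i), inf_le_left, c.rho.toMonoidHom.comp ct, ψ, ?_, ?_, ?_, ?_⟩
    · exact MonoidHom.range_eq_top.2 (c.rho.surjective.comp hct.2)
    · intro f
      obtain ⟨u, hu, hue⟩ := hsurj i (Multiplicative.toAdd f)
      exact ⟨⟨u, hu⟩, congrArg Multiplicative.ofAdd hue⟩
    · intro u
      rw [mem_inf, and_iff_right u.2, ← hπker i u (hWV i u.2)]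
      exact ⟨fun h' => congrArg Multiplicative.toAdd h', fun h' => congrArg Multiplicative.ofAdd h'⟩
    · intro g u
      exact ⟨⟨_, Cfsg.Agent.H34.conj_mem_of_mem_normalizer (normalizer_commutator_ge_right V (E i) g.2) u.2⟩,
        rfl, hπact i g g.2 (hconjmem i g g.2) u (hWV i u.2)⟩

/-- The structure for a minimal offender of order at least three. -/
theorem exists_components_large (h : FFP p V P T M) {A₀ : Subgroup G} (hA₀P : A₀ ≤ P)
    (hA₀ : MinOff p V A₀) (hq : 3 ≤ Nat.card ↥A₀) :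
    ∃ (r : ℕ) (E : Fin r → Subgroup G), 1 ≤ r ∧ (∀ i, E i ≤ P) ∧ (∀ i j, i ≠ j → ⁅E i, E j⁆ = ⊥) ∧
      (∀ i, E i ⊓ (⨆ j ∈ {j | j ≠ i}, E j) = ⊥) ∧ (⨆ i, E i) ⊔ T = P ∧
      (∀ i j, ∃ t ∈ T, (E i).map (MulAut.conj t).toMonoidHom = E j) ∧
      (V ⊓ centralizer (((⨆ i, E i) : Subgroup G) : Set G)) ⊔ (⨆ i, ⁅V, E i⁆) = V ∧
      (∀ i j, i ≠ j → ⁅⁅V, E i⁆, E j⁆ = ⊥) ∧
      ∀ i, ∃ n : ℕ, 1 ≤ n ∧ ∃ (F : Type) (_ : Field F) (_ : Fintype F), Fintype.card F = p ^ n ∧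
        Nonempty (↥(E i) ≃* Matrix.SpecialLinearGroup (Fin 2) F) ∧
        Cfsg.ActsAsSL2OnSection F ⊤ (E i) ⁅V, E i⁆
          (⁅V, E i⁆ ⊓ centralizer ((E i : Subgroup G) : Set G)) := by
  obtain ⟨r, E, h1, h2, h3, h4, h5, h6, -, -, h7⟩ := exists_components_large' h hA₀P hA₀ hq
  exact ⟨r, E, h1, h2, h3, h4, h5, h6, h7⟩

end Cfsg.Agent.H34.Para
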