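import Cfsg.Agent.H34.Para.Lift
import Cfsg.Agent.H34.Para.Orbit
import Mathlib

/-!
An extension of the module by a trivial one has fixed points of the Sylow subgroup outside the
trivial part: members of order at least three.
-/

set_option autoImplicit false
set_option linter.style.haveILetI false
set_option linter.unusedSectionVars false
set_option maxHeartbeats 1000000

namespace Cfsg.Agent.H34.Para

open Subgroup
open Cfsg.Agent.H34.MinOffender
open scoped commutatorElement Matrix

variable {G : Type*} [Group G] [Finite G] {p : ℕ} [Fact p.Prime] {V P T M A L : Subgroup G} {F : Type} [Field F]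
  [Fintype F] {C : Type*} [AddCommGroup C] (c : Chart p V P T M A L F C) {U : Type*} [AddCommGroup U]
  (Lf : Lift p V P T A U)
include c

/-- Elements of `L` with the same two coordinates agree. -/
theorem Chart.eq_of_coords {g k : G} (hg : g ∈ L) (hk : k ∈ L)
    (h1 : (act c.e g ((1, 0, 0) : F × F × C)).1 = (act c.e k ((1, 0, 0) : F × F × C)).1)
    (h2 : (act c.e g ((1, 0, 0) : F × F × C)).2.1 = (act c.e k ((1, 0, 0) : F × F × C)).2.1)
    (h3 : (act c.e g ((0, 1, 0) : F × F × C)).1 = (act c.e k ((0, 1, 0) : F × F × C)).1)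
    (h4 : (act c.e g ((0, 1, 0) : F × F × C)).2.1 = (act c.e k ((0, 1, 0) : F × F × C)).2.1) : g = k := by
  have key : ∀ (x : G) (hx : x ∈ L) (w : F × F × C),
      ((c.rho ⟨x, hx⟩ : Matrix.SpecialLinearGroup (Fin 2) F) : Matrix (Fin 2) (Fin 2) F) *ᵥ ![w.1, w.2.1] =
        ![(act c.e x w).1, (act c.e x w).2.1] := fun x hx w => (c.act_rho ⟨x, hx⟩ w).symm
  have hm : c.rho ⟨g, hg⟩ = c.rho ⟨k, hk⟩ := by
    apply Subtype.ext
    ext i j
    have a1 := (key g hg (1, 0, 0)).trans ((by rw [h1, h2] : _ = _).trans (key k hk (1, 0, 0)).symm)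
    have a2 := (key g hg (0, 1, 0)).trans ((by rw [h3, h4] : _ = _).trans (key k hk (0, 1, 0)).symm)
    fin_cases j
    · simpa [Matrix.mulVec, dotProduct, Fin.sum_univ_two] using congrFun a1 i
    · simpa [Matrix.mulVec, dotProduct, Fin.sum_univ_two] using congrFun a2 i
  exact congrArg Subtype.val (c.rho.injective hm)

/-- Elements of `L` normalising `A` are diagonal up to `A`. -/
theorem Chart.normal_form {g : G} (hg : g ∈ L) (h : (act c.e g ((1, 0, 0) : F × F × C)).2.1 = 0) :
    ∃ a : Fˣ, (a : F) = (act c.e g ((1, 0, 0) : F × F × C)).1 ∧ ∃ s : F, g = c.up s * c.hh a := by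
  have key : ∀ (w : F × F × C),
      ((c.rho ⟨g, hg⟩ : Matrix.SpecialLinearGroup (Fin 2) F) : Matrix (Fin 2) (Fin 2) F) *ᵥ ![w.1, w.2.1] =
        ![(act c.e g w).1, (act c.e g w).2.1] := fun w => (c.act_rho ⟨g, hg⟩ w).symm
  set A' := ((c.rho ⟨g, hg⟩ : Matrix.SpecialLinearGroup (Fin 2) F) : Matrix (Fin 2) (Fin 2) F)
  have e00 : A' 0 0 = (act c.e g ((1, 0, 0) : F × F × C)).1 := by
    simpa [Matrix.mulVec, dotProduct, Fin.sum_univ_two] using congrFun (key (1, 0, 0)) 0
  have e10 : A' 1 0 = 0 := by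
    simpa [Matrix.mulVec, dotProduct, Fin.sum_univ_two, h] using congrFun (key (1, 0, 0)) 1
  have e01 : A' 0 1 = (act c.e g ((0, 1, 0) : F × F × C)).1 := by
    simpa [Matrix.mulVec, dotProduct, Fin.sum_univ_two] using congrFun (key (0, 1, 0)) 0
  have e11 : A' 1 1 = (act c.e g ((0, 1, 0) : F × F × C)).2.1 := by
    simpa [Matrix.mulVec, dotProduct, Fin.sum_univ_two] using congrFun (key (0, 1, 0)) 1
  have hdet : A' 0 0 * A' 1 1 = 1 := by
    have : A'.det = 1 := (c.rho ⟨g, hg⟩).2
    rwa [Matrix.det_fin_two, e10, mul_zero, sub_zero] at this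
  let a : Fˣ := ⟨A' 0 0, A' 1 1, hdet, by rw [mul_comm]; exact hdet⟩
  refine ⟨a, e00, A' 0 1 * A' 0 0, c.eq_of_coords hg (L.mul_mem (c.hAL (c.up_mem _)) (c.hh_mem a)) ?_ ?_ ?_ ?_⟩
  all_goals rw [act_mul c.e (c.hPV (c.upP _)) (c.hPV (c.hhP a)), c.act_hh, c.act_up]
  · simp [a, e00]
  · simp [h]
  · simp only [a, Units.val_mk, Units.inv_mk, mul_zero, zero_add, mul_one]
    rw [mul_assoc, hdet, mul_one, e01]
  · simp [a, e11]

/-- `A` and the subgroup `L` have the same stabiliser in `T`. -/
theorem Chart.stabT {t : G} (ht : t ∈ T) :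
    (cj t A = A → cj t L = L) ∧ (cj t A ≠ A → ∀ x ∈ cj t L, ∀ y ∈ L, x * y = y * x) := by
  have hTP := c.base.hTP
  obtain ⟨z, hzT, hzM⟩ := c.exists_z
  refine ⟨fun hA => c.normalizes hzT hzM (c.base.pm.hTM ht) hA (hzT t ht), fun hne => ?_⟩
  rcases c.orbit_pair ht with e | ⟨-, -, h3⟩
  · exfalso
    have hc := c.centralizes (c.memA.cj (hTP ht)) hne
      (c.base.commute c.hAP c.hA (Nat.card ↥(cj t A ⊔ A)) (cj t A) A le_rfl (c.memA.cj (hTP ht)) c.memA
        (c.base.pm.Tp.to_le (sup_le (cj_le ht c.hAT) c.hAT)))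
    refine c.not_commute fun a ha b hb => ?_
    have e1 := hc _ (conj_mem_cj (x := t) ha) _ (e.le (conj_mem_cj (x := t) (cj_le c.ww_mem c.hAL hb)))
    have e2 := congrArg (fun x => t⁻¹ * x * t) e1
    simpa [mul_assoc] using e2
  · exact h3

include Lf

/-- Members of order at least three: fixed points of `T` outside the kernel. -/
theorem Lift.false_large : False := by
  classical
  have hPV := c.hPV
  have hTP := c.base.hTP
  let π : U →+ F × F × C := c.e.toAddMonoidHom.comp Lf.pr
  have hπla : ∀ {g}, g ∈ P → ∀ u, π (Lf.la g u) = act c.e g (π u) := fun hg u => Lf.e_la c.e hPV hg u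
  have hπs : ∀ w, ∃ u, π u = w := fun w => by
    obtain ⟨u, hu⟩ := Lf.surj (c.e.symm w)
    exact ⟨u, by show c.e (Lf.pr u) = w; rw [hu, c.e.apply_symm_apply]⟩
  have hker : ∀ {u}, π u = 0 → Lf.pr u = 0 := fun hu => c.e.injective (hu.trans (map_zero c.e).symm)
  have hfixL : ∀ g ∈ L, ∀ u, π u = 0 → Lf.la g u = u := by
    let Fx : Subgroup G :=
      { carrier := {g | g ∈ P ∧ ∀ u, Lf.pr u = 0 → Lf.la g u = u}
        one_mem' := ⟨P.one_mem, fun u _ => Lf.la_one u⟩
        mul_mem' := by
          rintro a b ⟨ha, a1⟩ ⟨hb, b1⟩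
          exact ⟨P.mul_mem ha hb, fun u hu => by rw [Lf.la_mul a b ha hb, b1 u hu, a1 u hu]⟩
        inv_mem' := by
          rintro a ⟨ha, a1⟩
          refine ⟨P.inv_mem ha, fun u hu => ?_⟩
          conv_lhs => rw [← a1 u hu]
          rw [← Lf.la_mul _ _ (P.inv_mem ha) ha, inv_mul_cancel, Lf.la_one] }
    have hle : L ≤ Fx := by
      rw [← c.gen_ww]
      exact sup_le (fun a ha => ⟨c.hAP ha, fun u hu => Lf.fix a ha u hu⟩)
        fun a ha => ⟨cj_le c.wwP c.hAP ha, fun u hu => Lf.fix_mem c.hAP c.memB ha hu⟩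
    exact fun g hg u hu => (hle hg).2 u (hker hu)
  obtain ⟨z, hzT, hzM⟩ := c.exists_z
  have hz1 : z.1 ≠ 0 := by simpa only [act_one] using c.seed_x hzM M.one_mem
  have hz2 : z.2.1 = 0 := by simpa only [act_one] using c.seed_y hzM M.one_mem
  obtain ⟨u₀, hu₀⟩ := hπs z
  obtain ⟨l, hl⟩ : ∃ l : Fˣ, l ≠ 1 := by
    by_contra hall
    push Not at hall
    haveI : Subsingleton Fˣ := ⟨fun a b => (hall a).trans (hall b).symm⟩
    have := Fintype.card_le_one_iff_subsingleton.2 (inferInstance : Subsingleton Fˣ)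
    rw [Fintype.card_units] at this
    have := c.hq
    omega
  have hl1 : (l : F) - 1 ≠ 0 := sub_ne_zero.2 fun e => hl (Units.ext e)
  have hfixw : ∀ w : F × F × C, (w.1 = 0 ∧ w.2.1 = 0) ↔ ∀ g ∈ L, act c.e g w = w := fun w => by
    rw [← c.mem_C, vec_mem_fixed c.e (c.hLP.trans hPV)]
  have hstab : ∀ t ∈ T, cj t A = A → ∀ w : F × F × C, w.1 = 0 → w.2.1 = 0 →
      (act c.e t w).1 = 0 ∧ (act c.e t w).2.1 = 0 := by
    intro t ht hA w h1 h2
    refine (hfixw _).2 fun g hg => ?_
    have hL := (c.stabT ht).1 hA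
    have hg' : t⁻¹ * g * t ∈ L := by
      have : g ∈ cj t L := hL.symm ▸ hg
      exact mem_cj.1 this
    have e1 := (hfixw w).1 ⟨h1, h2⟩ _ hg'
    conv_rhs => rw [← e1]
    rw [← act_mul c.e (hPV (c.hLP hg)) (hPV (hTP ht)), ← act_mul c.e (hPV (hTP ht)) (hPV (c.hLP hg'))]
    congr 1
    group
  have hla_conj : ∀ t ∈ T, ∀ g ∈ P, ∀ u, Lf.la t (Lf.la g u) = Lf.la (t * g * t⁻¹) (Lf.la t u) := by
    intro t ht g hg u
    rw [← Lf.la_mul _ _ (hTP ht) hg, ← Lf.la_mul _ _ (P.mul_mem (P.mul_mem (hTP ht) hg) (P.inv_mem (hTP ht)))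
      (hTP ht), inv_mul_cancel_right]
  -- the lifted fixed point
  obtain ⟨y, κ, hκ, hπy, hyT⟩ : ∃ (y : U) (κ : F), κ ≠ 0 ∧ π y = ((κ * z.1, 0, 0) : F × F × C) ∧
      ∀ t ∈ T, cj t A = A → Lf.la t y = y := by
    by_cases h2 : (2 : F) = 0
    · -- characteristic two
      have hp : p = 2 := by
        have hpF : (p : F) = 0 := by
          have := congrArg Prod.fst (c.p_smul ((1, 0, 0) : F × F × C))
          simpa using this
        rcases (Fact.out : p.Prime).eq_two_or_odd with e | e
        · exact e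
        · exfalso
          rw [← Nat.div_add_mod p 2, e] at hpF
          simp [h2] at hpF
      subst hp
      have htwo : ∀ u : U, u + u = 0 := fun u => by simpa [two_nsmul] using Lf.expU u
      have hC0 : ∀ u, (π u).1 = 0 → (π u).2.1 = 0 → ∀ t, Lf.la (c.up t) u = u := by
        intro u h1 h1' t
        let δ : F → U := fun t => Lf.la (c.up t) u - u
        have hπf : ∀ g ∈ L, π (Lf.la g u - u) = 0 := fun g hg => by
          rw [map_sub, hπla (c.hLP hg), (hfixw _).1 ⟨h1, h1'⟩ g hg, sub_self]
        have hδker : ∀ t, π (δ t) = 0 := fun t => hπf _ (c.hAL (c.up_mem t))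
        have hδadd : ∀ s t, δ (s + t) = δ s + δ t := by
          intro s t
          have e1 := hfixL _ (c.hAL (c.up_mem s)) _ (hδker t)
          simp only [δ] at e1 ⊢
          rw [map_sub, sub_eq_iff_eq_add] at e1
          rw [← c.up_add, Lf.la_mul _ _ (c.upP s) (c.upP t), e1]
          abel
        have hδh : ∀ (m : Fˣ) t, δ ((m : F) * m * t) = δ t := by
          intro m t
          have hmP := c.hhP m
          have hA' : c.hh m * c.up t * (c.hh m)⁻¹ ∈ A :=
            (c.cj_hh m).le (conj_mem_cj (c.up_mem t))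
          obtain ⟨s, hs⟩ := c.up_all _ hA'
          have hse : s = (m : F) * m * t := by
            have e1 := congrArg (fun g => (act c.e g ((0, 1, 0) : F × F × C)).1) hs
            simp only [c.act_up, act_conj c.e (hPV hmP) (hPV (c.upP t)), c.act_hh, c.act_hh_inv,
              mul_zero, zero_add, mul_one] at e1
            rw [← e1]; ring
          subst hse
          have hv := hπf _ (L.inv_mem (c.hh_mem m))
          have e2 : Lf.la (c.hh m)⁻¹ u = u + (Lf.la (c.hh m)⁻¹ u - u) := by abel
          simp only [δ]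
          rw [← hs, Lf.la_mul _ _ (P.mul_mem hmP (c.upP t)) (P.inv_mem hmP), e2, map_add,
            hfixL _ (L.mul_mem (c.hh_mem m) (c.hAL (c.up_mem t))) _ hv,
            Lf.la_mul _ _ hmP (c.upP t)]
          have e3 := hfixL _ (c.hh_mem m) _ (hδker t)
          simp only [δ, map_sub] at e3
          have e4 : Lf.la (c.hh m) (Lf.la (c.up t) u) = (Lf.la (c.up t) u - u) + Lf.la (c.hh m) u :=
            sub_eq_iff_eq_add.1 e3
          have e5 : Lf.la (c.hh m) u + (Lf.la (c.hh m)⁻¹ u - u) = u := by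
            have := congrArg (Lf.la (c.hh m)) e2
            rw [← Lf.la_mul _ _ hmP (P.inv_mem hmP), mul_inv_cancel, Lf.la_one, map_add,
              hfixL _ (c.hh_mem m) _ hv] at this
            exact this.symm
          rw [e4, add_assoc, e5]
          abel
        have hl2 : (l : F) * l - 1 ≠ 0 := by
          rw [show (l : F) * l - 1 = ((l : F) - 1) * ((l : F) - 1) + 2 * ((l : F) - 1) by ring, h2, zero_mul,
            add_zero]
          exact mul_ne_zero hl1 hl1
        have e1 := hδadd (t / ((l : F) * l - 1)) t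
        rw [show t / ((l : F) * l - 1) + t = (l : F) * l * (t / ((l : F) * l - 1)) by
          linear_combination -(div_mul_cancel₀ t hl2),
          hδh] at e1
        have e2 : δ t = 0 := left_eq_add.1 e1
        exact sub_eq_zero.1 e2
      have hC : ∀ u, (π u).2.1 = 0 → ∀ t, Lf.la (c.up t) u = u := by
        intro u hu t
        by_cases ht : t = 0
        · subst ht; rw [c.up_zero, Lf.la_one]
        obtain ⟨u₁, hu₁⟩ := hπs ((0, (π u).1 / t, 0) : F × F × C)
        set d := Lf.la (c.up t) u₁ - u₁ with hd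
        have hπd : π d = (((π u).1, 0, c.G0 (c.r t * ((π u).1 / t))) : F × F × C) := by
          rw [hd, map_sub, hπla (c.upP t), hu₁, c.act_up]
          refine Prod.ext ?_ (Prod.ext ?_ ?_)
          · simp [mul_div_cancel₀ _ ht]
          · simp
          · simp
        have hdf : Lf.la (c.up t) d = d := by
          rw [hd, map_sub, ← Lf.la_mul _ _ (c.upP t) (c.upP t), c.up_add,
            show t + t = 0 by linear_combination t * h2, c.up_zero, Lf.la_one]
          calc u₁ - Lf.la (c.up t) u₁ = (u₁ + u₁) - (Lf.la (c.up t) u₁ + Lf.la (c.up t) u₁) +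
                (Lf.la (c.up t) u₁ - u₁) := by abel
            _ = _ := by rw [htwo, htwo, sub_zero, zero_add]
        have h3 := hC0 (u - d) (by rw [map_sub, hπd]; simp) (by rw [map_sub, hπd]; simp [hu]) t
        rwa [map_sub, hdf, sub_left_inj] at h3
      refine ⟨∑ m : Fˣ, (Lf.la (c.hh m) u₀ - u₀), 1, one_ne_zero, ?_, ?_⟩
      · have hunits : ∑ m : Fˣ, (m : F) = 0 := by
          have e : (l : F) * ∑ m : Fˣ, (m : F) = ∑ m : Fˣ, (m : F) := by
            rw [Finset.mul_sum]
            exact Fintype.sum_equiv (Equiv.mulLeft l) _ _ fun m => by simp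
          have : ((l : F) - 1) * ∑ m : Fˣ, (m : F) = 0 := by rw [sub_mul, one_mul, e, sub_self]
          exact (mul_eq_zero.1 this).resolve_left hl1
        have hcardu : (Fintype.card Fˣ : F) = -1 := by
          have e := Fintype.card_units (α := F)
          have h0 : (Fintype.card F : F) = 0 := Nat.cast_card_eq_zero F
          rw [show Fintype.card F = Fintype.card Fˣ + 1 by have := c.hq; omega, Nat.cast_add, Nat.cast_one] at h0
          exact eq_neg_of_add_eq_zero_left h0
        have hterm : ∀ m : Fˣ, π (Lf.la (c.hh m) u₀ - u₀) = ((((m : F) - 1) * z.1, 0, 0) : F × F × C) := by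
          intro m
          rw [map_sub, hπla (c.hhP m), hu₀, c.act_hh]
          refine Prod.ext ?_ (Prod.ext ?_ ?_)
          · simp [sub_mul]
          · simp [hz2]
          · simp
        rw [map_sum, Finset.sum_congr rfl fun m _ => hterm m]
        refine Prod.ext ?_ (Prod.ext ?_ ?_)
        · simp only [Prod.fst_sum, ← Finset.sum_mul, Finset.sum_sub_distrib, hunits, Finset.sum_const,
            Finset.card_univ, nsmul_eq_mul, mul_one, hcardu, sub_neg_eq_add, zero_add]
        · simp [Prod.snd_sum, Prod.fst_sum]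
        · simp [Prod.snd_sum]
      · intro t ht hA
        have htP := hTP ht
        have hL := (c.stabT ht).1 hA
        obtain ⟨v, hv, hv0⟩ : ∃ v, Lf.la t u₀ = u₀ + v ∧ π v = 0 :=
          ⟨Lf.la t u₀ - u₀, by abel, by rw [map_sub, hπla htP, hu₀, hzT t ht, sub_self]⟩
        have hgL : ∀ m : Fˣ, t * c.hh m * t⁻¹ ∈ L := fun m => hL.le (conj_mem_cj (c.hh_mem m))
        have hgA : ∀ m : Fˣ, (act c.e (t * c.hh m * t⁻¹) ((1, 0, 0) : F × F × C)).2.1 = 0 := by
          intro m
          have hgP := c.hLP (hgL m)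
          have hgAA : cj (t * c.hh m * t⁻¹)⁻¹ A = A := by
            have h' : cj (t * c.hh m * t⁻¹) A = A := by
              have hA' : cj t⁻¹ A = A := by
                have := congrArg (cj t⁻¹) hA
                rw [cj_inv_cj] at this
                exact this.symm
              rw [cj_mul, cj_mul, hA', c.cj_hh, hA]
            have := congrArg (cj (t * c.hh m * t⁻¹)⁻¹) h'
            rw [cj_inv_cj] at this
            exact this.symm
          refine (c.fixedA _).1 fun a ha => ?_
          have ha' : (t * c.hh m * t⁻¹)⁻¹ * a * (t * c.hh m * t⁻¹) ∈ A := by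
            have := hgAA.le (conj_mem_cj (x := (t * c.hh m * t⁻¹)⁻¹) ha)
            rwa [inv_inv] at this
          have e1 := (c.fixedA ((1, 0, 0) : F × F × C)).2 rfl _ ha'
          conv_rhs => rw [← e1]
          rw [← act_mul c.e (hPV (c.hAP ha)) (hPV hgP), ← act_mul c.e (hPV hgP) (hPV (c.hAP ha'))]
          congr 1
          group
        choose μ hμ s hs using fun m => c.normal_form (hgL m) (hgA m)
        obtain ⟨al, ga, hal⟩ : ∃ al ga, act c.e t⁻¹ ((1, 0, 0) : F × F × C) = (al, 0, ga) := by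
          refine ⟨(act c.e t⁻¹ ((1, 0, 0) : F × F × C)).1, (act c.e t⁻¹ ((1, 0, 0) : F × F × C)).2.2, ?_⟩
          refine Prod.ext rfl (Prod.ext ((c.fixedA _).1 fun a ha => ?_) rfl)
          have ha' : t * a * t⁻¹ ∈ A := hA.le (conj_mem_cj ha)
          have e1 := (c.fixedA ((1, 0, 0) : F × F × C)).2 rfl _ ha'
          conv_rhs => rw [← e1]
          rw [← act_mul c.e (hPV (c.hAP ha)) (inv_mem (hPV htP)),
            ← act_mul c.e (inv_mem (hPV htP)) (hPV (c.hAP ha'))]
          congr 1
          group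
        have hal0 : al ≠ 0 := by
          intro e0
          have := hstab t ht hA (act c.e t⁻¹ ((1, 0, 0) : F × F × C)) (by rw [hal, e0]) (by rw [hal])
          rw [act_act_inv c.e (hPV htP)] at this
          exact one_ne_zero this.1
        have hμinj : Function.Injective μ := by
          intro m m' e0
          have e1 := (hμ m).symm.trans ((congrArg Units.val e0).trans (hμ m'))
          simp only [act_conj c.e (hPV htP) (hPV (c.hhP _)), hal, c.act_hh, mul_zero] at e1
          have e2 : (act c.e t (((((m : F) - m') * al, 0, 0)) : F × F × C)) =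
              act c.e t (((m : F) * al, 0, ga) : F × F × C) - act c.e t (((m' : F) * al, 0, ga) : F × F × C) := by
            rw [← act_sub c.e (hPV htP)]
            congr 1
            simp [sub_mul]
          by_contra hne
          have h3 : (((m : F) - m') * al) ≠ 0 := mul_ne_zero (sub_ne_zero.2 fun e => hne (Units.ext e)) hal0
          have hA' : cj t⁻¹ A = A := by
            have := congrArg (cj t⁻¹) hA
            rw [cj_inv_cj] at this
            exact this.symm
          have hC2 : (act c.e t (((((m : F) - m') * al, 0, 0)) : F × F × C)).2.1 = 0 := by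
            refine (c.fixedA _).1 fun a ha => ?_
            have ha' : t⁻¹ * a * t ∈ A := by simpa using hA'.le (conj_mem_cj (x := t⁻¹) ha)
            have e1 := (c.fixedA ((((m : F) - m') * al, 0, 0) : F × F × C)).2 rfl _ ha'
            conv_rhs => rw [← e1]
            rw [← act_mul c.e (hPV (c.hAP ha)) (hPV htP), ← act_mul c.e (hPV htP) (hPV (c.hAP ha'))]
            congr 1
            group
          have h4 := hstab t⁻¹ (T.inv_mem ht) hA' (act c.e t (((((m : F) - m') * al, 0, 0)) : F × F × C))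
            (by rw [e2]; simp [e1]) hC2
          rw [act_inv_act c.e (hPV htP)] at h4
          exact h3 h4.1
        have hterm : ∀ m, Lf.la t (Lf.la (c.hh m) u₀ - u₀) = Lf.la (c.hh (μ m)) u₀ - u₀ := by
          intro m
          rw [map_sub, hla_conj t ht _ (c.hhP m), hs m, Lf.la_mul _ _ (c.upP _) (c.hhP _), hC _ ?_, hv, map_add,
            hfixL _ (c.hh_mem _) _ hv0]
          · abel
          · rw [hπla (c.hhP _), hπla htP, hu₀, hzT t ht, c.act_hh]; simp [hz2]
        rw [map_sum, Finset.sum_congr rfl fun m _ => hterm m]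
        exact (Equiv.ofBijective μ ⟨hμinj, Finite.injective_iff_surjective.1 hμinj⟩).sum_comp
          fun m => Lf.la (c.hh m) u₀ - u₀
    · -- odd characteristic
      set g := c.hh (-1) with hg
      have hgL : g ∈ L := c.hh_mem _
      have hgact : ∀ w, act c.e g w = ((-w.1, -w.2.1, w.2.2) : F × F × C) := fun w => by
        rw [hg, c.act_hh]; simp
      refine ⟨Lf.la g u₀ - u₀, -2, neg_ne_zero.2 h2, ?_, fun t ht hA => ?_⟩
      · rw [map_sub, hπla (c.hLP hgL), hu₀, hgact]
        refine Prod.ext ?_ (Prod.ext ?_ ?_)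
        · simp; ring
        · simp [hz2]
        · simp
      · have htP := hTP ht
        have hg' : t * g * t⁻¹ ∈ L := ((c.stabT ht).1 hA).le (conj_mem_cj hgL)
        have hcoord : ∀ w : F × F × C, (act c.e (t * g * t⁻¹) w).1 = -w.1 ∧
            (act c.e (t * g * t⁻¹) w).2.1 = -w.2.1 := by
          intro w
          set w' := act c.e t⁻¹ w
          have e1 : act c.e g w' = -w' + ((0, 0, w'.2.2 + w'.2.2) : F × F × C) := by
            rw [hgact]
            refine Prod.ext ?_ (Prod.ext ?_ ?_)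
            · simp
            · simp
            · show w'.2.2 = -w'.2.2 + (w'.2.2 + w'.2.2)
              abel
          have e2 : act c.e (t * g * t⁻¹) w = -w + act c.e t ((0, 0, w'.2.2 + w'.2.2) : F × F × C) := by
            rw [act_conj c.e (hPV htP) (hPV (c.hLP hgL)), e1, act_add c.e (hPV htP), act_neg c.e (hPV htP),
              act_act_inv c.e (hPV htP)]
          obtain ⟨h5, h6⟩ := hstab t ht hA ((0, 0, w'.2.2 + w'.2.2) : F × F × C) rfl rfl
          constructor <;> simp [e2, h5, h6]
        have heq : t * g * t⁻¹ = g := c.eq_of_coords hg' hgL (by rw [(hcoord _).1, hgact])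
          (by rw [(hcoord _).2, hgact]) (by rw [(hcoord _).1, hgact]) (by rw [(hcoord _).2, hgact])
        obtain ⟨v, hv, hv0⟩ : ∃ v, Lf.la t u₀ = u₀ + v ∧ π v = 0 :=
          ⟨Lf.la t u₀ - u₀, by abel, by rw [map_sub, hπla htP, hu₀, hzT t ht, sub_self]⟩
        rw [map_sub, hla_conj t ht g (c.hLP hgL), heq, hv, map_add, hfixL g hgL v hv0]
        abel
  -- the orbit
  let O := {X : Subgroup G // ∃ t ∈ T, X = cj t A}
  haveI : Fintype O := Fintype.ofFinite O
  choose tt htt httX using fun X : O => X.2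
  have hkey : ∀ t ∈ T, ∀ X : O, X.1 = cj t A → Lf.la t y = Lf.la (tt X) y := by
    intro t ht X hX
    have h1 : (tt X)⁻¹ * t ∈ T := T.mul_mem (T.inv_mem (htt X)) ht
    have h2 := hyT _ h1 (by rw [cj_mul, ← hX, httX X, cj_inv_cj])
    conv_rhs => rw [← h2]
    rw [← Lf.la_mul _ _ (hTP (htt X)) (hTP h1), mul_inv_cancel_left]
  let Y : U := ∑ X : O, Lf.la (tt X) y
  have hfixed : ∀ s ∈ T, Lf.la s Y = Y := by
    intro s hs
    let f : O → O := fun X => ⟨cj (s * tt X) A, _, T.mul_mem hs (htt X), rfl⟩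
    have hf : Function.Injective f := fun X X' e => by
      have e1 : cj (s * tt X) A = cj (s * tt X') A := congrArg Subtype.val e
      rw [cj_mul, cj_mul, ← httX, ← httX] at e1
      refine Subtype.ext ?_
      rw [← cj_inv_cj s X.1, e1, cj_inv_cj]
    show Lf.la s Y = Y
    simp only [Y, map_sum]
    rw [← (Equiv.ofBijective f ⟨hf, Finite.injective_iff_surjective.1 hf⟩).sum_comp fun X => Lf.la (tt X) y]
    refine Finset.sum_congr rfl fun X _ => ?_
    rw [← Lf.la_mul _ _ (hTP hs) (hTP (htt X))]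
    exact hkey _ (T.mul_mem hs (htt X)) _ rfl
  let X₀ : O := ⟨A, 1, T.one_mem, (cj_one A).symm⟩
  have h0 : (π Y).1 = 0 := by
    show (c.e (Lf.pr Y)).1 = 0
    rw [Lf.noFixed Y hfixed, map_zero]; rfl
  have hsum : (π Y).1 = κ * z.1 := by
    simp only [Y, map_sum, Prod.fst_sum]
    rw [Finset.sum_eq_single X₀]
    · rw [← hkey 1 T.one_mem X₀ (cj_one A).symm, Lf.la_one, hπy]
    · intro X _ hne
      have hne' : cj (tt X) A ≠ A := fun e => hne (Subtype.ext ((httX X).trans e))
      have hc := (c.stabT (htt X)).2 hne'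
      rw [hπla (hTP (htt X)), hπy]
      set w : F × F × C := (κ * z.1 / ((l : F) - 1), 0, 0) with hw
      have e1 : ((κ * z.1, 0, 0) : F × F × C) = act c.e (c.hh l) w - w := by
        rw [hw, c.act_hh]
        refine Prod.ext ?_ (Prod.ext ?_ ?_)
        · simp only [Prod.fst_sub]
          rw [← sub_one_mul, mul_div_cancel₀ _ hl1]
        · simp
        · simp
      have httP := hTP (htt X)
      have h3 := c.disp_fixed httP P.one_mem (fun a ha b hb => hc a ha b (by rwa [cj_one] at hb))
        _ (conj_mem_cj (x := tt X) (c.hh_mem l)) _ (c.base.conj_V httP (vec_mem c.e w))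
      rw [cj_one, ← comm_conj, ← vec_comm c.e (hPV (c.hhP l)), ← e1, ← vec_act c.e (hPV httP), c.mem_C] at h3
      exact h3.1
    · exact fun hn => absurd (Finset.mem_univ X₀) hn
  rw [h0] at hsum
  exact mul_ne_zero hκ hz1 hsum.symm

end Cfsg.Agent.H34.Para
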