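import Cfsg.Agent.H34.Para.Chart
import Mathlib

/-!
Elementary consequences of coordinates, and the orbit of a fixed point of the Sylow subgroup.
-/

set_option autoImplicit false
set_option linter.style.haveILetI false

namespace Cfsg.Agent.H34.Para

open Subgroup
open Cfsg.Agent.H34.MinOffender
open scoped commutatorElement

variable {G : Type*} [Group G] {p : ℕ} {V P T M A L : Subgroup G} {F : Type} [Field F] [Fintype F]
  {C : Type*} [AddCommGroup C]

theorem vec_sub {W : Type*} [AddCommGroup W] (e : Additive ↥V ≃+ W) (w w' : W) :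
    vec e (w - w') = vec e w * (vec e w')⁻¹ := by
  simp [vec, div_eq_mul_inv]

theorem vec_comm {W : Type*} [AddCommGroup W] (e : Additive ↥V ≃+ W) {g : G}
    (hg : g ∈ normalizer (V : Set G)) (w : W) : vec e (act e g w - w) = ⁅g, vec e w⁆ := by
  rw [vec_sub, vec_act e hg, commutatorElement_def]

/-- Two commuting elementary abelian groups generate one. -/
theorem elem_sup {X Y : Subgroup G} (hX : ∀ a ∈ X, ∀ b ∈ X, a * b = b * a) (hXp : ∀ a ∈ X, a ^ p = 1)
    (hY : ∀ a ∈ Y, ∀ b ∈ Y, a * b = b * a) (hYp : ∀ a ∈ Y, a ^ p = 1)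
    (hXY : ∀ a ∈ X, ∀ b ∈ Y, a * b = b * a) :
    (∀ a ∈ X ⊔ Y, ∀ b ∈ X ⊔ Y, a * b = b * a) ∧ (∀ a ∈ X ⊔ Y, a ^ p = 1) ∧
      ∀ a ∈ X ⊔ Y, ∃ x ∈ X, ∃ y ∈ Y, a = x * y := by
  have hn : X ≤ normalizer (Y : Set G) := fun a ha =>
    centralizer_le_normalizer _ (mem_centralizer_iff.2 fun b hb => (hXY a ha b hb).symm)
  have hmem : ∀ a ∈ X ⊔ Y, ∃ x ∈ X, ∃ y ∈ Y, a = x * y := by
    intro a ha
    rw [← SetLike.mem_coe, coe_mul_of_left_le_normalizer_right _ _ hn] at ha
    obtain ⟨x, hx, y, hy, rfl⟩ := ha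
    exact ⟨x, hx, y, hy, rfl⟩
  refine ⟨?_, ?_, hmem⟩
  · intro a ha b hb
    obtain ⟨x, hx, y, hy, rfl⟩ := hmem a ha
    obtain ⟨x', hx', y', hy', rfl⟩ := hmem b hb
    calc x * y * (x' * y') = x * (y * x') * y' := by group
      _ = x * (x' * y) * y' := by rw [hXY x' hx' y hy]
      _ = (x * x') * (y * y') := by group
      _ = (x' * x) * (y' * y) := by rw [hX x hx x' hx', hY y hy y' hy']
      _ = x' * (x * y') * y := by group
      _ = x' * (y' * x) * y := by rw [hXY x hx y' hy']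
      _ = x' * y' * (x * y) := by group
  · intro a ha
    obtain ⟨x, hx, y, hy, rfl⟩ := hmem a ha
    rw [(show Commute x y from hXY x hx y hy).mul_pow, hXp x hx, hYp y hy, one_mul]

variable (c : Chart p V P T M A L F C)
include c

theorem Chart.hPV : P ≤ normalizer (V : Set G) := c.base.hPV

theorem Chart.hAP : A ≤ P := c.hAL.trans c.hLP

theorem Chart.upP (t : F) : c.up t ∈ P := c.hAP (c.up_mem t)

theorem Chart.hhP (l : Fˣ) : c.hh l ∈ P := c.hLP (c.hh_mem l)

theorem Chart.wwP : c.ww ∈ P := c.hLP c.ww_mem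

theorem Chart.ext {g k : G} (hg : g ∈ P) (hk : k ∈ P) (h : ∀ w, act c.e g w = act c.e k w) : g = k :=
  act_inj c.e c.hPV c.base.faith hg hk h

theorem Chart.up_add (s t : F) : c.up s * c.up t = c.up (s + t) :=
  c.ext (P.mul_mem (c.upP s) (c.upP t)) (c.upP _) fun w => by
    rw [act_mul c.e (c.hPV (c.upP s)) (c.hPV (c.upP t)), c.act_up, c.act_up, c.act_up]
    refine Prod.ext ?_ (Prod.ext rfl ?_)
    · show w.1 + t * w.2.1 + s * w.2.1 = _
      ring
    · show w.2.2 + c.G0 (c.r t * w.2.1) + c.G0 (c.r s * w.2.1) = _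
      simp only [map_add, add_mul]
      abel

theorem Chart.up_zero : c.up 0 = 1 := c.ext (c.upP 0) P.one_mem fun w => by
  rw [c.act_up, act_one]; simp

theorem Chart.up_inj {s t : F} (h : c.up s = c.up t) : s = t := by
  have := congrArg (fun g => (act c.e g ((0, 1, 0) : F × F × C)).1) h
  simpa [c.act_up] using this

theorem Chart.act_hh_inv (l : Fˣ) (w : F × F × C) :
    act c.e (c.hh l)⁻¹ w = ((↑l⁻¹ : F) * w.1, (l : F) * w.2.1, w.2.2) := by
  have := act_inv_act c.e (c.hPV (c.hhP l))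
    (((↑l⁻¹ : F) * w.1, (l : F) * w.2.1, w.2.2) : F × F × C)
  rwa [c.act_hh, ← mul_assoc, ← mul_assoc, Units.mul_inv, Units.inv_mul, one_mul, one_mul] at this

theorem Chart.act_ww_inv (w : F × F × C) : act c.e c.ww⁻¹ w = (-w.2.1, w.1, w.2.2) := by
  have := act_inv_act c.e (c.hPV c.wwP) ((-w.2.1, w.1, w.2.2) : F × F × C)
  rwa [c.act_ww, neg_neg] at this

theorem Chart.fixedA (w : F × F × C) : (∀ a ∈ A, act c.e a w = w) ↔ w.2.1 = 0 := by
  rw [← c.mem_U, vec_mem_fixed c.e (c.hAP.trans c.hPV)]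

theorem Chart.fixed_cj {g : G} (hg : g ∈ P) (w : F × F × C) :
    (∀ d ∈ cj g A, act c.e d w = w) ↔ (act c.e g⁻¹ w).2.1 = 0 := by
  rw [← c.mem_U, ← vec_mem_fixed c.e ((cj_le hg c.hAP).trans c.hPV), cent_cj (c.hPV hg), mem_cj,
    vec_act c.e (inv_mem (c.hPV hg)), inv_inv]

theorem Chart.memA : Mem P A A := ⟨1, P.one_mem, (cj_one A).symm⟩

theorem Chart.memB : Mem P A (cj c.ww A) := ⟨c.ww, c.wwP, rfl⟩

theorem Chart.hh_M (l : Fˣ) : c.hh l ∈ M := by
  by_contra h'
  have h1 := c.gen _ (c.hh_mem l) h'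
  have h2 : ∀ g ∈ L, (act c.e g ((1, 0, 0) : F × F × C)).2.1 = 0 := by
    intro g hg
    rw [← h1] at hg
    have h3 : A ⊔ cj (c.hh l) A ≤ centralizer ({vec c.e ((1, 0, 0) : F × F × C)} : Set G) := by
      refine sup_le (fun a ha => ?_) (fun a ha => ?_) <;> refine mem_cent_singleton ?_ <;>
        refine (act_eq_iff_commute c.e (c.hPV ?_) _).1 ?_
      · exact c.hAP ha
      · exact (c.fixedA _).2 rfl a ha
      · exact cj_le (c.hhP l) c.hAP ha
      · refine (c.fixed_cj (c.hhP l) _).2 ?_ a ha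
        rw [c.act_hh_inv]; simp
    rw [(act_eq_iff_commute c.e (c.hPV (c.hLP (h1 ▸ hg))) _).2 (mem_centralizer_singleton_iff.1 (h3 hg))]
  have := h2 _ c.ww_mem
  rw [c.act_ww] at this
  simp at this

theorem Chart.p_smul (w : F × F × C) : p • w = 0 := by
  obtain ⟨v, rfl⟩ := c.e.surjective w
  rw [← map_nsmul, show p • v = 0 from congrArg Additive.ofMul
    (Subtype.ext (by simpa using c.base.expV _ (Additive.toMul v).2) :
      (Additive.toMul v) ^ p = 1), map_zero]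

/-- Powers of an element acting as a translation by maps killing their images. -/
theorem Chart.act_pow {g : G} (hg : g ∈ P) {w d : F × F × C} (h1 : act c.e g w = w + d)
    (h2 : act c.e g d = d) (n : ℕ) : act c.e (g ^ n) w = w + n • d := by
  induction n with
  | zero => simp [act_one]
  | succ n ih =>
    rw [pow_succ', act_mul c.e (c.hPV hg) (c.hPV (P.pow_mem hg n)), ih, act_add c.e (c.hPV hg), h1,
      succ_nsmul']
    have : act c.e g (n • d) = n • d := by
      show actHom c.e (c.hPV hg) (n • d) = _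
      rw [map_nsmul]
      exact congrArg (n • ·) h2
    rw [this]
    abel

variable [Finite G] [Fact p.Prime]

theorem Chart.cj_A_of {g : G} (hg : g ∈ P) (h : ∀ w : F × F × C, w.2.1 = 0 → (act c.e g w).2.1 = 0) :
    cj g A = A := by
  refine c.base.cj_eq_of_fixed c.hAP c.hA hg (eq_of_le_of_card_ge ?_ (card_cj _ _).ge)
  rintro _ ⟨v, hv, rfl⟩
  obtain ⟨w, hw⟩ : ∃ w, vec c.e w = v := ⟨_, vec_e c.e ⟨v, hv.1⟩⟩
  show g * v * g⁻¹ ∈ _
  rw [← hw, ← vec_act c.e (c.hPV hg), c.mem_U]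
  exact h w ((c.mem_U w).1 (hw ▸ hv))

theorem Chart.cj_hh (l : Fˣ) : cj (c.hh l) A = A :=
  c.cj_A_of (c.hhP l) fun w hw => by rw [c.act_hh]; simp [hw]

/-- `A` is the stabiliser of the series `V > C_V(A) > 1`. -/
theorem Chart.mem_A_of {g : G} (hg : g ∈ P) (h1 : ∀ w : F × F × C, w.2.1 = 0 → act c.e g w = w)
    (h2 : ∀ w, (act c.e g w).2.1 = w.2.1) : g ∈ A := by
  let D : Subgroup G :=
    { carrier := {g | g ∈ P ∧ (∀ w : F × F × C, w.2.1 = 0 → act c.e g w = w) ∧
        ∀ w, (act c.e g w).2.1 = w.2.1}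
      one_mem' := ⟨P.one_mem, fun w _ => act_one c.e w, fun w => by rw [act_one]⟩
      mul_mem' := by
        rintro g k ⟨hg, g1, g2⟩ ⟨hk, k1, k2⟩
        refine ⟨P.mul_mem hg hk, fun w hw => ?_, fun w => ?_⟩ <;>
          rw [act_mul c.e (c.hPV hg) (c.hPV hk)]
        · rw [k1 w hw, g1 w hw]
        · rw [g2, k2]
      inv_mem' := by
        rintro g ⟨hg, g1, g2⟩
        refine ⟨P.inv_mem hg, fun w hw => ?_, fun w => ?_⟩
        · conv_lhs => rw [← g1 w hw]
          exact act_inv_act c.e (c.hPV hg) w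
        · conv_rhs => rw [← act_act_inv c.e (c.hPV hg) w]
          rw [g2] }
  have hdisp : ∀ g ∈ D, ∀ w, (act c.e g w - w).2.1 = 0 := fun g hg w => by
    simp [hg.2.2 w]
  have hcomp : ∀ g ∈ D, ∀ k ∈ D, ∀ w, act c.e (g * k) w = act c.e g w + (act c.e k w - w) :=
    fun g hg k hk w => by
      rw [act_mul c.e (c.hPV hg.1) (c.hPV hk.1),
        show act c.e k w = w + (act c.e k w - w) by abel, act_add c.e (c.hPV hg.1),
        hg.2.1 _ (hdisp k hk w)]
      abel
  have hc : ∀ g ∈ D, ∀ k ∈ D, g * k = k * g := fun g hg k hk =>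
    c.ext (P.mul_mem hg.1 hk.1) (P.mul_mem hk.1 hg.1) fun w => by
      rw [hcomp g hg k hk, hcomp k hk g hg]; abel
  have hexp : ∀ g ∈ D, g ^ p = 1 := fun g hg =>
    c.ext (P.pow_mem hg.1 p) P.one_mem fun w => by
      rw [c.act_pow hg.1 (show act c.e g w = w + (act c.e g w - w) by abel) (hg.2.1 _ (hdisp g hg w)),
        c.p_smul, add_zero, act_one]
  have hAD : A ≤ D := fun a ha => by
    refine ⟨c.hAP ha, fun w hw => (c.fixedA w).2 hw a ha, fun w => ?_⟩
    obtain ⟨t, rfl⟩ := c.up_all a ha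
    rw [c.act_up]
  have hb := c.base.bound (B := D) (fun g hg => hg.1) hc hexp
  have hle : V ⊓ centralizer (A : Set G) ≤ V ⊓ centralizer (D : Set G) := fun v hv => by
    obtain ⟨w, hw⟩ : ∃ w, vec c.e w = v := ⟨_, vec_e c.e ⟨v, hv.1⟩⟩
    rw [← hw, vec_mem_fixed c.e (fun g (hg : g ∈ D) => c.hPV hg.1)]
    exact fun g hg => hg.2.1 w ((c.mem_U w).1 (hw ▸ hv))
  have : D = A := (eq_of_le_of_card_ge hAD (by
    refine Nat.le_of_mul_le_mul_right (c := Nat.card ↥(V ⊓ centralizer (A : Set G))) ?_ Nat.card_pos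
    exact (Nat.mul_le_mul_left _ (card_le_of_le hle)).trans (hb.trans (c.base.card_eq c.hAP c.hA).le))).symm
  exact this ▸ (⟨hg, h1, h2⟩ : g ∈ D)

/-- A fixed point of `T` whose stabiliser lies in `M`. -/
theorem Chart.exists_z : ∃ z : F × F × C, (∀ t ∈ T, act c.e t z = z) ∧
    ∀ g ∈ P, act c.e g z = z → g ∈ M := by
  obtain ⟨v, hv, hvT, hvP⟩ := c.base.hz
  obtain ⟨w, rfl⟩ : ∃ w, vec c.e w = v := ⟨_, vec_e c.e ⟨v, hv⟩⟩
  have hTP := c.base.hTP
  refine ⟨w, fun t ht => (act_eq_iff_commute c.e (c.hPV (hTP ht)) w).2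
    (mem_centralizer_iff.1 hvT t ht), fun g hg hgw => ?_⟩
  refine c.base.pm.max (P ⊓ centralizer ({vec c.e w} : Set G)) inf_le_left
    (le_inf hTP fun t ht => mem_cent_singleton (mem_centralizer_iff.1 hvT t ht)) (fun e => hvP ?_)
    ⟨hg, mem_cent_singleton ((act_eq_iff_commute c.e (c.hPV hg) w).1 hgw)⟩
  exact mem_centralizer_iff.2 fun k hk => mem_centralizer_singleton_iff.1 (e.symm.le hk).2

variable {z : F × F × C} (hzT : ∀ t ∈ T, act c.e t z = z) (hzM : ∀ g ∈ P, act c.e g z = z → g ∈ M)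
include hzT hzM

omit [Finite G] [Fact p.Prime] hzT in
/-- An element fixing a point of the orbit of `z` under `M` lies in `M`. -/
theorem Chart.mem_M {m g : G} (hm : m ∈ M) (hg : g ∈ P) (h : act c.e g (act c.e m z) = act c.e m z) :
    g ∈ M := by
  have hmP := c.base.pm.hMP hm
  have := hzM (m⁻¹ * g * m) (P.mul_mem (P.mul_mem (P.inv_mem hmP) hg) hmP) (by
    rw [act_mul c.e (c.hPV (P.mul_mem (P.inv_mem hmP) hg)) (c.hPV hmP),
      act_mul c.e (c.hPV (P.inv_mem hmP)) (c.hPV hg), h, act_inv_act c.e (c.hPV hmP)])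
  simpa [mul_assoc] using M.mul_mem (M.mul_mem hm this) (M.inv_mem hm)

omit hzT in
/-- The orbit of `z` under `M` stays in the fixed space of `A`. -/
theorem Chart.seed_y {m : G} (hm : m ∈ M) : (act c.e m z).2.1 = 0 := by
  by_contra hy
  set w := act c.e m z with hw
  have hAM : A ≤ M := c.hAT.trans c.base.pm.hTM
  have hmP := c.base.pm.hMP hm
  let x := c.up (-w.1 / w.2.1) * m
  have hx : x ∈ M := M.mul_mem (hAM (c.up_mem _)) hm
  have hxw : (act c.e x z).1 = 0 := by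
    rw [act_mul c.e (c.hPV (c.upP _)) (c.hPV hmP), ← hw, c.act_up]
    simp [div_mul_cancel₀ _ hy]
  refine c.hLM ?_
  rw [← c.gen_ww]
  refine sup_le hAM fun b hb => c.mem_M hzM hx (cj_le c.wwP c.hAP hb)
    ((c.fixed_cj c.wwP _).2 ?_ b hb)
  rw [c.act_ww_inv]
  exact hxw

omit hzT in
/-- The orbit of `z` under `M` avoids the fixed space of `L`. -/
theorem Chart.seed_x {m : G} (hm : m ∈ M) : (act c.e m z).1 ≠ 0 := by
  intro hx
  refine c.hLM fun g hg => c.mem_M hzM hm (c.hLP hg) ?_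
  exact (act_eq_iff_commute c.e (c.hPV (c.hLP hg)) _).2
    (mem_centralizer_iff.1 ((c.mem_C _).2 ⟨hx, c.seed_y hzM hm⟩).2 g hg)

omit [Finite G] [Fact p.Prime] hzM in
theorem Chart.z_one : act c.e (1 : G) z = z := act_one c.e z

end Cfsg.Agent.H34.Para
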