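import Cfsg.Agent.H34.Para.Seeds
import Cfsg.Agent.H34.Para.Frame
import Mathlib

/-!
Members of order two act as transvections and form a system without over-offenders.
-/

set_option autoImplicit false
set_option linter.style.haveILetI false
set_option maxHeartbeats 3000000

namespace Cfsg.Agent.H34.Para

open Subgroup
open Cfsg.Agent.H34.MinOffender
open scoped commutatorElement

variable {G : Type*} [Group G] {W : Type*} [AddCommGroup W] {V P T M A₀ : Subgroup G}

/-- `a • c` over the field with two elements. -/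
def sm (a : ZMod 2) (c : W) : W := if a = 0 then 0 else c

@[simp] theorem sm_zero (c : W) : sm (0 : ZMod 2) c = 0 := if_pos rfl

@[simp] theorem sm_one (c : W) : sm (1 : ZMod 2) c = c := if_neg (by decide)

@[simp] theorem sm_zero' (a : ZMod 2) : sm a (0 : W) = 0 := by
  rcases z2_cases a with rfl | rfl <;> simp

theorem sm_add {c : W} (hc : c + c = 0) (a b : ZMod 2) : sm (a + b) c = sm a c + sm b c := by
  rcases z2_cases a with rfl | rfl <;> rcases z2_cases b with rfl | rfl <;>
    simp [hc, show (1 : ZMod 2) + 1 = 0 from rfl]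

theorem map_sm {W' : Type*} [AddCommGroup W'] (f : W →+ W') (a : ZMod 2) (c : W) :
    f (sm a c) = sm a (f c) := by
  rcases z2_cases a with rfl | rfl <;> simp

theorem z2_eq_of_add : ∀ a b : ZMod 2, a + b = 0 → a = b := by decide

/-- `x` is a member of order two with centre `c`. -/
structure Tr (P A₀ : Subgroup G) (e : Additive ↥V ≃+ W) (x : G) (c : W) : Prop where
  mem : x ∈ P
  isMem : Mem P A₀ (zpowers x)
  ne : c ≠ 0
  disp : ∀ w, act e x w = w ∨ act e x w = w + c
  moves : ∃ w, act e x w ≠ w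
  addf : ∀ v w, act e x v ≠ v → act e x w ≠ w → act e x (v + w) = v + w

open Classical in
/-- The functional of a transvection. -/
noncomputable def phiX (e : Additive ↥V ≃+ W) (x : G) (w : W) : ZMod 2 :=
  if act e x w = w then 0 else 1

variable [Finite G] (h : FFP 2 V P T M) (e : Additive ↥V ≃+ W)
include h

omit [Finite G] in
theorem two_w (e : Additive ↥V ≃+ W) (w : W) : w + w = 0 := by
  obtain ⟨v, rfl⟩ := e.surjective w
  rw [← map_add, show v + v = 0 from congrArg Additive.ofMul
    (Subtype.ext (by simpa [pow_two] using h.expV _ (Additive.toMul v).2) :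
      (Additive.toMul v) * (Additive.toMul v) = 1), map_zero]

omit [Finite G] in
theorem Tr.act_eq {x : G} {c : W} (t : Tr P A₀ e x c) (w : W) :
    act e x w = w + sm (phiX e x w) c := by
  classical
  unfold phiX
  by_cases hw : act e x w = w
  · rw [if_pos hw, sm_zero, add_zero, hw]
  · rw [if_neg hw, sm_one]; exact (t.disp w).resolve_left hw

omit [Finite G] in
theorem Tr.phi_add {x : G} {c : W} (t : Tr P A₀ e x c) (v w : W) :
    phiX e x (v + w) = phiX e x v + phiX e x w := by
  classical
  have hx := h.hPV t.mem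
  unfold phiX
  by_cases hv : act e x v = v <;> by_cases hw : act e x w = w
  · rw [if_pos hv, if_pos hw, if_pos (by rw [act_add e hx, hv, hw]), add_zero]
  · rw [if_pos hv, if_neg hw, if_neg (by rw [act_add e hx, hv, add_right_inj]; exact hw), zero_add]
  · rw [if_neg hv, if_pos hw, if_neg (by rw [act_add e hx, hw, add_left_inj]; exact hv), add_zero]
  · rw [if_neg hv, if_neg hw, if_pos (t.addf v w hv hw)]; rfl

omit [Finite G] in
theorem Tr.phi_moves {x : G} {c : W} (t : Tr P A₀ e x c) : ∃ w, phiX e x w = 1 := by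
  classical
  obtain ⟨w, hw⟩ := t.moves
  exact ⟨w, if_neg hw⟩

omit [Finite G] in
theorem phiX_zero_iff {x : G} (w : W) : phiX e x w = 0 ↔ act e x w = w := by
  classical
  unfold phiX
  split_ifs with hw <;> simp [hw]

omit [Finite G] in
theorem Tr.phi_self {x : G} {c : W} (t : Tr P A₀ e x c) : phiX e x c = 0 := by
  by_contra h1
  obtain ⟨w, hw⟩ := t.phi_moves h e
  have h2 := t.act_eq h e c
  rw [z2_ne_zero h1, sm_one, two_w h e] at h2
  have := congrArg (act e x⁻¹) h2
  rw [act_inv_act e (h.hPV t.mem), act_zero e (inv_mem (h.hPV t.mem))] at this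
  exact t.ne this

omit [Finite G] in
theorem Tr.act_centre {x : G} {c : W} (t : Tr P A₀ e x c) : act e x c = c := by
  rw [t.act_eq h e, t.phi_self h e, sm_zero, add_zero]

theorem Tr.sq {x : G} {c : W} (t : Tr P A₀ e x c) : x * x = 1 :=
  act_inj e h.hPV h.faith (P.mul_mem t.mem t.mem) P.one_mem fun w => by
    have hx := h.hPV t.mem
    rw [act_mul e hx hx, act_one, t.act_eq h e w, act_add e hx, t.act_eq h e w,
      show act e x (sm (phiX e x w) c) = sm (phiX e x w) (act e x c) from map_sm (actHom e hx) _ _,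
      t.act_centre h e, add_assoc, ← sm_add (two_w h e c), z2_add_self, sm_zero, add_zero]

theorem Tr.cj {x g : G} {c : W} (t : Tr P A₀ e x c) (hg : g ∈ P) :
    Tr P A₀ e (g * x * g⁻¹) (act e g c) ∧ ∀ w, phiX e (g * x * g⁻¹) (act e g w) = phiX e x w := by
  classical
  have hgN := h.hPV hg
  have hx := h.hPV t.mem
  have hact : ∀ w, act e (g * x * g⁻¹) (act e g w) = act e g (act e x w) := fun w => by
    rw [act_conj e hgN hx, act_inv_act e hgN]
  have hginj : ∀ v w, act e g v = act e g w → v = w := fun v w hvw => by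
    have := congrArg (act e g⁻¹) hvw
    rwa [act_inv_act e hgN, act_inv_act e hgN] at this
  refine ⟨⟨P.mul_mem (P.mul_mem hg t.mem) (P.inv_mem hg), ?_, fun h0 => t.ne ?_, fun w => ?_, ?_,
    fun v w hv hw => ?_⟩, fun w => ?_⟩
  · have := t.isMem.cj hg
    rwa [Cfsg.Agent.H34.MinOffender.cj, MonoidHom.map_zpowers] at this
  · exact hginj _ _ (h0.trans (act_zero e hgN).symm)
  · obtain ⟨v, rfl⟩ : ∃ v, act e g v = w := ⟨_, act_act_inv e hgN w⟩
    rw [hact]
    rcases t.disp v with h1 | h1 <;> rw [h1]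
    · exact .inl rfl
    · exact .inr (act_add e hgN v c)
  · obtain ⟨w, hw⟩ := t.moves
    exact ⟨act e g w, fun h' => hw (hginj _ _ ((hact w).symm.trans h'))⟩
  · obtain ⟨v, rfl⟩ : ∃ v', act e g v' = v := ⟨_, act_act_inv e hgN v⟩
    obtain ⟨w, rfl⟩ : ∃ v', act e g v' = w := ⟨_, act_act_inv e hgN w⟩
    rw [hact] at hv hw
    rw [← act_add e hgN, hact, t.addf v w (fun h' => hv (by rw [h'])) fun h' => hw (by rw [h'])]
  · unfold phiX
    rw [hact]
    by_cases hw : act e x w = w
    · rw [if_pos hw, if_pos (by rw [hw])]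
    · rw [if_neg hw, if_neg fun h' => hw (hginj _ _ h')]

theorem tr_exists (hA₀P : A₀ ≤ P) (hA₀ : MinOff 2 V A₀) (hq : Nat.card ↥A₀ = 2) {X : Subgroup G}
    (hX : Mem P A₀ X) : ∃ x c, X = zpowers x ∧ Tr P A₀ e x c := by
  classical
  haveI : Fact (Nat.Prime 2) := ⟨Nat.prime_two⟩
  have hXP := h.mem_le hA₀P hA₀ hX
  have hXm := h.mem_minOff hA₀P hA₀ hX
  have hX2 : Nat.card X = 2 := (mem_card hA₀P hA₀ hX).trans hq
  obtain ⟨⟨x, hx⟩, hx1⟩ : ∃ x : X, x ≠ 1 := by
    haveI : Nontrivial X := Finite.one_lt_card_iff_nontrivial.1 (by omega)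
    exact exists_ne 1
  have hx1' : x ≠ 1 := fun h' => hx1 (Subtype.ext h')
  have hz : zpowers x = X := by
    refine eq_of_le_of_card_ge (zpowers_le.2 hx) ?_
    rw [hX2]
    have h1 : 1 < Nat.card (zpowers x) := Finite.one_lt_card_iff_nontrivial.2
      ((Subgroup.nontrivial_iff_ne_bot _).2 fun h' => hx1' (zpowers_eq_bot.1 h'))
    omega
  have hxN := h.hPV (hXP hx)
  let U : AddSubgroup W :=
    { carrier := {w | act e x w = w}
      zero_mem' := act_zero e hxN
      add_mem' := fun {a b} ha hb => by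
        show act e x (a + b) = a + b
        rw [act_add e hxN, ha, hb]
      neg_mem' := fun {a} ha => by
        show act e x (-a) = -a
        rw [act_neg e hxN, ha] }
  have hUc : Nat.card U = Nat.card ↥(V ⊓ centralizer (X : Set G)) := by
    rw [card_fixed e (hXP.trans h.hPV)]
    refine Nat.card_congr (Equiv.subtypeEquivRight fun w => ?_)
    refine ⟨fun hw a ha => ?_, fun hw => hw x hx⟩
    obtain ⟨k, rfl⟩ : a ∈ zpowers x := by rw [hz]; exact ha
    refine (act_eq_iff_commute e (zpow_mem hxN k) w).2 ?_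
    exact ((show Commute x (vec e w) from (act_eq_iff_commute e hxN w).1 hw).zpow_left k).eq
  have hidx : U.index = 2 := by
    have e1 := U.index_mul_card
    have e2 : Nat.card W = 2 * Nat.card U := by
      rw [hUc, ← hX2, ← h.card_eq hXP hXm]
      exact (Nat.card_congr (Additive.ofMul.trans e.toEquiv)).symm
    rw [e2] at e1
    haveI : Finite W := Finite.of_injective e.symm e.symm.injective
    exact Nat.eq_of_mul_eq_mul_right Nat.card_pos e1
  have hadd : ∀ v w, act e x v ≠ v → act e x w ≠ w → act e x (v + w) = v + w := fun v w hv hw => by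
    show v + w ∈ U
    rw [AddSubgroup.add_mem_iff_of_index_two hidx]
    exact iff_of_false hv hw
  obtain ⟨w₀, hw₀⟩ : ∃ w, act e x w ≠ w := by
    by_contra hall
    push Not at hall
    have : U = ⊤ := eq_top_iff.2 fun w _ => hall w
    rw [this, AddSubgroup.index_top] at hidx
    omega
  refine ⟨x, act e x w₀ - w₀, hz.symm, hXP hx, hz.symm ▸ hX, sub_ne_zero.2 hw₀, fun w => ?_,
    ⟨w₀, hw₀⟩, hadd⟩
  by_cases hw : act e x w = w
  · exact .inl hw
  · refine .inr ?_
    have e1 := hadd w w₀ hw hw₀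
    rw [act_add e hxN] at e1
    have e2 := two_w h e (act e x w₀)
    have e3 := two_w h e w₀
    calc act e x w = (act e x w + act e x w₀) + act e x w₀ := by rw [add_assoc, e2, add_zero]
      _ = (w + w₀) + act e x w₀ := by rw [e1]
      _ = w + (act e x w₀ - w₀) := by
        rw [sub_eq_add_neg, show -w₀ = w₀ from neg_eq_of_add_eq_zero_left e3]; abel

variable (hA₀P : A₀ ≤ P) (hA₀ : MinOff 2 V A₀)
include hA₀P hA₀

theorem Tr.zero_symm {x y : G} {c d : W} (tx : Tr P A₀ e x c) (ty : Tr P A₀ e y d)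
    (h0 : phiX e x d = 0) : phiX e y c = 0 := by
  classical
  haveI : Fact (Nat.Prime 2) := ⟨Nat.prime_two⟩
  by_contra h1'
  have h1 := z2_ne_zero h1'
  let R : Set W := {0, c, d, c + d}
  have t2 := two_w h e
  have hc2 : ∀ w, c + (c + w) = w := fun w => by rw [← add_assoc, t2, zero_add]
  have hd2 : ∀ w, d + (d + w) = w := fun w => by rw [← add_assoc, t2, zero_add]
  have hR : ∀ a ∈ R, ∀ b ∈ R, a + b ∈ R := by
    intro a ha b hb
    simp only [R, Set.mem_insert_iff, Set.mem_singleton_iff] at ha hb ⊢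
    rcases ha with rfl | rfl | rfl | rfl <;> rcases hb with rfl | rfl | rfl | rfl <;>
      simp [t2, hc2, hd2, add_comm, add_left_comm]
  let K : Subgroup G :=
    { carrier := {g | g ∈ P ∧ act e g d = d ∧ (act e g c = c ∨ act e g c = c + d) ∧
        ∀ w, act e g w + w ∈ R}
      one_mem' := ⟨P.one_mem, act_one e d, .inl (act_one e c), fun w => by
        rw [act_one, t2]; exact Set.mem_insert _ _⟩
      mul_mem' := by
        rintro g g' ⟨hg, g1, g2, g3⟩ ⟨hg', g1', g2', g3'⟩
        have hN := h.hPV hg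
        have hN' := h.hPV hg'
        refine ⟨P.mul_mem hg hg', by rw [act_mul e hN hN', g1', g1], ?_, fun w => ?_⟩
        · rw [act_mul e hN hN']
          rcases g2' with h' | h' <;> rw [h']
          · exact g2
          · rw [act_add e hN, g1]
            rcases g2 with h'' | h'' <;> rw [h'']
            · exact .inr rfl
            · exact .inl (by rw [add_assoc, t2, add_zero])
        · rw [act_mul e hN hN', show act e g' w = w + (act e g' w + w) by
            rw [add_comm (act e g' w), ← add_assoc, t2, zero_add], act_add e hN]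
          have hr : ∀ r ∈ R, act e g r ∈ R := by
            intro r hr
            simp only [R, Set.mem_insert_iff, Set.mem_singleton_iff] at hr ⊢
            rcases hr with rfl | rfl | rfl | rfl
            · exact .inl (act_zero e hN)
            · rcases g2 with h'' | h'' <;> rw [h''] <;> simp
            · rw [g1]; simp
            · rw [act_add e hN, g1]
              rcases g2 with h'' | h'' <;> rw [h''] <;> simp [add_assoc, t2]
          rw [show act e g w + act e g (act e g' w + w) + w =
            (act e g w + w) + act e g (act e g' w + w) by abel]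
          exact hR _ (g3 w) _ (hr _ (g3' w))
      inv_mem' := by
        rintro g ⟨hg, g1, g2, g3⟩
        have hN := h.hPV hg
        refine ⟨P.inv_mem hg, by conv_lhs => rw [← g1, act_inv_act e hN], ?_, fun w => ?_⟩
        · rcases g2 with h' | h'
          · exact .inl (by conv_lhs => rw [← h', act_inv_act e hN])
          · refine .inr ?_
            have := congrArg (act e g⁻¹) h'
            rw [act_inv_act e hN, act_add e (inv_mem hN),
              show act e g⁻¹ d = d by conv_lhs => rw [← g1, act_inv_act e hN]] at this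
            calc act e g⁻¹ c = (act e g⁻¹ c + d) + d := by rw [add_assoc, t2, add_zero]
              _ = c + d := by rw [← this]
        · have := g3 (act e g⁻¹ w)
          rwa [act_act_inv e hN, add_comm] at this }
  have hxK : x ∈ K := by
    refine ⟨tx.mem, (phiX_zero_iff h e d).1 h0, .inl (tx.act_centre h e), fun w => ?_⟩
    rcases tx.disp w with h' | h' <;> rw [h']
    · rw [t2]; simp [R]
    · rw [add_comm w c, add_assoc, t2, add_zero]; simp [R]
  have hyK : y ∈ K := by
    refine ⟨ty.mem, ty.act_centre h e, .inr (by rw [ty.act_eq h e c, h1, sm_one]), fun w => ?_⟩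
    rcases ty.disp w with h' | h' <;> rw [h']
    · rw [t2]; simp [R]
    · rw [add_comm w d, add_assoc, t2, add_zero]; simp [R]
  have hKp : IsPGroup 2 K := by
    rintro ⟨g, hg⟩
    refine ⟨2, Subtype.ext ?_⟩
    show g ^ 2 ^ 2 = 1
    obtain ⟨hgP, g1, g2, g3⟩ := hg
    have hN := h.hPV hgP
    have hsq : ∀ w, act e (g * g) w = w ∨ act e (g * g) w = w + d := by
      intro w
      set r := act e g w + w with hr
      have hw : act e g w = w + r := by rw [hr, add_comm (act e g w), ← add_assoc, t2, zero_add]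
      rw [act_mul e hN hN, hw, act_add e hN, hw]
      have hrR : r ∈ R := g3 w
      simp only [R, Set.mem_insert_iff, Set.mem_singleton_iff] at hrR
      rcases hrR with h' | h' | h' | h' <;> rw [h']
      · left; rw [act_zero e hN]; simp
      · rcases g2 with h'' | h'' <;> rw [h'']
        · left; rw [add_assoc, t2, add_zero]
        · right; rw [add_assoc, hc2]
      · left; rw [g1, add_assoc, t2, add_zero]
      · rw [act_add e hN, g1]
        rcases g2 with h'' | h'' <;> rw [h'']
        · left; rw [add_assoc, t2, add_zero]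
        · right; simp only [add_assoc, t2, add_zero]; rw [add_comm d c, hc2]
    refine act_inj e h.hPV h.faith (P.pow_mem hgP _) P.one_mem fun w => ?_
    rw [show g ^ 2 ^ 2 = (g * g) * (g * g) by simp [pow_succ, mul_assoc],
      act_mul e (mul_mem hN hN) (mul_mem hN hN), act_one]
    have hdd : act e (g * g) d = d := by rw [act_mul e hN hN, g1, g1]
    rcases hsq w with h' | h' <;> rw [h']
    · exact h'
    · rw [act_add e (mul_mem hN hN), h', hdd, add_assoc, t2, add_zero]
  have hcomm := h.commute hA₀P hA₀ _ (zpowers x) (zpowers y) le_rfl tx.isMem ty.isMem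
    (hKp.to_le (sup_le (zpowers_le.2 hxK) (zpowers_le.2 hyK))) x (mem_zpowers x) y (mem_zpowers y)
  -- `y` would move the centre of `x`, which it fixes
  obtain ⟨w, hw⟩ := tx.phi_moves h e
  obtain ⟨tc, hphi⟩ := tx.cj h e ty.mem
  have hconj : y * x * y⁻¹ = x := by rw [← hcomm, mul_inv_cancel_right]
  rw [hconj] at tc
  have e1 : act e y c = c + d := by rw [ty.act_eq h e, h1, sm_one]
  rw [e1] at tc
  have e2 := tc.act_eq h e w
  rw [tx.act_eq h e w, hw, sm_one, sm_one, add_right_inj, left_eq_add] at e2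
  exact ty.ne e2

theorem Tr.phi_symm {x y : G} {c d : W} (tx : Tr P A₀ e x c) (ty : Tr P A₀ e y d) :
    phiX e x d = phiX e y c := by
  rcases z2_cases (phiX e x d) with h1 | h1 <;> rcases z2_cases (phiX e y c) with h2 | h2
  · rw [h1, h2]
  · exact absurd h2 (by rw [tx.zero_symm h e hA₀P hA₀ ty h1]; decide)
  · exact absurd h1 (by rw [ty.zero_symm h e hA₀P hA₀ tx h2]; decide)
  · rw [h1, h2]

omit hA₀P hA₀ in
/-- An element fixing the centres with displacements in their span is trivial. -/
theorem triv {g : G} (hg : g ∈ P) (hfix : ∀ x c, Tr P A₀ e x c → act e g c = c)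
    (hdisp : ∀ w, act e g w - w ∈ AddSubgroup.closure {c | ∃ x, Tr P A₀ e x c}) : g = 1 := by
  classical
  haveI : Fact (Nat.Prime 2) := ⟨Nat.prime_two⟩
  set W₀ := AddSubgroup.closure {c : W | ∃ x, Tr P A₀ e x c}
  have hW₀ : ∀ k ∈ P, ∀ u ∈ W₀, act e k u ∈ W₀ := by
    intro k hk u hu
    have : W₀ ≤ W₀.comap (actHom e (h.hPV hk)) := (AddSubgroup.closure_le _).2 fun c ⟨x, hx⟩ =>
      AddSubgroup.subset_closure ⟨_, (hx.cj h e hk).1⟩
    exact this hu
  let N : Subgroup G :=
    { carrier := {g | g ∈ P ∧ (∀ u ∈ W₀, act e g u = u) ∧ ∀ w, act e g w - w ∈ W₀}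
      one_mem' := ⟨P.one_mem, fun u _ => act_one e u, fun w => by
        rw [act_one, sub_self]; exact W₀.zero_mem⟩
      mul_mem' := by
        rintro a b ⟨ha, a1, a2⟩ ⟨hb, b1, b2⟩
        refine ⟨P.mul_mem ha hb, fun u hu => by rw [act_mul e (h.hPV ha) (h.hPV hb), b1 u hu, a1 u hu],
          fun w => ?_⟩
        rw [act_mul e (h.hPV ha) (h.hPV hb),
          show act e a (act e b w) - w = (act e a (act e b w) - act e b w) + (act e b w - w) by abel]
        exact W₀.add_mem (a2 _) (b2 w)
      inv_mem' := by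
        rintro a ⟨ha, a1, a2⟩
        refine ⟨P.inv_mem ha, fun u hu => by conv_lhs => rw [← a1 u hu, act_inv_act e (h.hPV ha)],
          fun w => ?_⟩
        have := W₀.neg_mem (a2 (act e a⁻¹ w))
        rwa [act_act_inv e (h.hPV ha), neg_sub] at this }
  have hNP : N ≤ P := fun a ha => ha.1
  have hNp : IsPGroup 2 N := by
    rintro ⟨a, ha⟩
    refine ⟨1, Subtype.ext ?_⟩
    show a ^ 2 ^ 1 = 1
    refine act_inj e h.hPV h.faith (P.pow_mem ha.1 _) P.one_mem fun w => ?_
    have hN := h.hPV ha.1
    rw [pow_one, pow_two, act_mul e hN hN, act_one,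
      show act e a w = w + (act e a w - w) by abel, act_add e hN, ha.2.1 _ (ha.2.2 w),
      show act e a w + (act e a w - w) = w + ((act e a w - w) + (act e a w - w)) by abel,
      two_w h e, add_zero]
  have hnorm : P ≤ normalizer (N : Set G) := by
    have key : ∀ k ∈ P, ∀ a ∈ N, k * a * k⁻¹ ∈ N := by
      rintro k hk a ⟨ha, a1, a2⟩
      have hkN := h.hPV hk
      refine ⟨P.mul_mem (P.mul_mem hk ha) (P.inv_mem hk), fun u hu => ?_, fun w => ?_⟩
      · rw [act_conj e hkN (h.hPV ha), a1 _ (hW₀ _ (P.inv_mem hk) u hu), act_act_inv e hkN]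
      · rw [act_conj e hkN (h.hPV ha)]
        conv in (_ - w) => arg 2; rw [← act_act_inv e hkN w]
        rw [← act_sub e hkN]
        exact hW₀ _ hk _ (a2 _)
    intro k hk
    rw [mem_normalizer_iff]
    refine fun a => ⟨key k hk a, fun ha => ?_⟩
    have := key k⁻¹ (P.inv_mem hk) _ ha
    simpa [mul_assoc] using this
  have hbot := h.op1 N hNP hNp hnorm
  have hgN : g ∈ N := ⟨hg, fun u hu => by
    refine AddSubgroup.closure_induction (fun c ⟨x, hx⟩ => hfix x c hx) (act_zero e (h.hPV hg))
      (fun a b _ _ ha hb => by rw [act_add e (h.hPV hg), ha, hb])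
      (fun a _ ha => by rw [act_neg e (h.hPV hg), ha]) hu, hdisp⟩
  rwa [hbot, mem_bot] at hgN

theorem Tr.unique {x y : G} {c : W} (tx : Tr P A₀ e x c) (ty : Tr P A₀ e y c) : x = y := by
  have hy : y⁻¹ = y := inv_eq_of_mul_eq_one_right (ty.sq h e)
  have hxN := h.hPV tx.mem
  have hyN := h.hPV ty.mem
  have hact : ∀ w, act e (x * y⁻¹) w = w + sm (phiX e x w + phiX e y w) c := fun w => by
    rw [hy, act_mul e hxN hyN, ty.act_eq h e w, act_add e hxN, tx.act_eq h e w,
      show act e x (sm (phiX e y w) c) = sm (phiX e y w) (act e x c) from map_sm (actHom e hxN) _ _,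
      tx.act_centre h e, sm_add (two_w h e c), add_assoc]
  refine mul_inv_eq_one.1 (triv h e (A₀ := A₀) (P.mul_mem tx.mem (P.inv_mem ty.mem)) (fun z d tz => ?_)
    fun w => ?_)
  · rw [hact, tx.phi_symm h e hA₀P hA₀ tz, ty.phi_symm h e hA₀P hA₀ tz, z2_add_self, sm_zero, add_zero]
  · rw [hact, add_sub_cancel_left]
    rcases z2_cases (phiX e x w + phiX e y w) with h1 | h1 <;> rw [h1]
    · rw [sm_zero]; exact AddSubgroup.zero_mem _
    · rw [sm_one]; exact AddSubgroup.subset_closure ⟨x, tx⟩

omit [Finite G] h hA₀P hA₀ in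
open Classical in
/-- The element with a given centre. -/
noncomputable def elt (P A₀ : Subgroup G) (c : W) : G :=
  if hc : ∃ x, Tr P A₀ e x c then hc.choose else 1

theorem Tr.elt_eq {x : G} {c : W} (tx : Tr P A₀ e x c) : elt e P A₀ c = x := by
  classical
  unfold elt
  rw [dif_pos ⟨x, tx⟩]
  exact (Classical.choose_spec (⟨x, tx⟩ : ∃ x, Tr P A₀ e x c)).unique h e hA₀P hA₀ tx

/-- The transvection system of the members. -/
theorem exists_ts : ∃ S : TS W, S.ctr = {c | ∃ x, Tr P A₀ e x c} ∧
    ∀ x c, Tr P A₀ e x c → ∀ w, S.φ c w = phiX e x w := by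
  classical
  have hE : ∀ {c}, (∃ x, Tr P A₀ e x c) → Tr P A₀ e (elt e P A₀ c) c := fun {c} hc => by
    obtain ⟨x, hx⟩ := hc
    rw [hx.elt_eq h e hA₀P hA₀]; exact hx
  refine ⟨{
    ctr := {c | ∃ x, Tr P A₀ e x c}
    φ := fun c => phiX e (elt e P A₀ c)
    two := two_w h e
    ne0 := fun c ⟨x, hx⟩ => hx.ne
    add := fun c hc => (hE hc).phi_add h e
    self := fun c hc => (hE hc).phi_self h e
    symm := fun c hc d hd => (hE hc).phi_symm h e hA₀P hA₀ (hE hd)
    conj := ?_
    four := ?_ }, rfl, fun x c tx w => by simp only [tx.elt_eq h e hA₀P hA₀]⟩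
  · intro c hc d hd h1
    have tc := hE hc
    have td := hE hd
    set x := elt e P A₀ c
    set y := elt e P A₀ d
    obtain ⟨t, hphi⟩ := td.cj h e tc.mem
    have e1 : act e x d = c + d := by rw [tc.act_eq h e, h1, sm_one, add_comm]
    rw [e1] at t
    refine ⟨⟨_, t⟩, fun w => ?_⟩
    rw [t.elt_eq h e hA₀P hA₀]
    obtain ⟨v, rfl⟩ : ∃ v, act e x v = w := ⟨_, act_act_inv e (h.hPV tc.mem) w⟩
    rw [hphi, tc.act_eq h e v, tc.phi_add h e, td.phi_add h e]
    rcases z2_cases (phiX e x v) with h2 | h2 <;> rw [h2] <;>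
      simp only [sm_zero, sm_one, tc.phi_self h e, add_zero, zero_add]
    · have hx0 : phiX e x (0 : W) = 0 := (phiX_zero_iff h e 0).2 (act_zero e (h.hPV tc.mem))
      have hy0 : phiX e y (0 : W) = 0 := (phiX_zero_iff h e 0).2 (act_zero e (h.hPV td.mem))
      rw [hx0, hy0, add_zero, zero_add]
    · rw [← tc.phi_symm h e hA₀P hA₀ td, h1]
      rcases z2_cases (phiX e y v) with h3 | h3 <;> rw [h3] <;> rfl
  · intro a ha b hb d hd s hs hab had has hbd hbs hds pab pad pas pbd pbs pds hsum
    have ta := hE ha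
    have tb := hE hb
    have td := hE hd
    have ts := hE hs
    set φa := phiX e (elt e P A₀ a)
    set φb := phiX e (elt e P A₀ b)
    set φd := phiX e (elt e P A₀ d)
    set φs := phiX e (elt e P A₀ s)
    have pba : φb a = 0 := (ta.phi_symm h e hA₀P hA₀ tb).symm.trans pab
    have pda : φd a = 0 := (ta.phi_symm h e hA₀P hA₀ td).symm.trans pad
    have psa : φs a = 0 := (ta.phi_symm h e hA₀P hA₀ ts).symm.trans pas
    have pdb : φd b = 0 := (tb.phi_symm h e hA₀P hA₀ td).symm.trans pbd
    have psb : φs b = 0 := (tb.phi_symm h e hA₀P hA₀ ts).symm.trans pbs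
    have psd : φs d = 0 := (td.phi_symm h e hA₀P hA₀ ts).symm.trans pds
    have hext : ∀ {u v}, (∃ x, Tr P A₀ e x u) → (∃ x, Tr P A₀ e x v) → u ≠ v →
        ¬ ∀ w, phiX e (elt e P A₀ u) w = phiX e (elt e P A₀ v) w := by
      intro u v hu hv huv hall
      have hEq : elt e P A₀ u = elt e P A₀ v := by
        by_contra hne
        have hXne : zpowers (elt e P A₀ u) ≠ zpowers (elt e P A₀ v) := by
          intro hz
          obtain ⟨k, hk⟩ : elt e P A₀ u ∈ zpowers (elt e P A₀ v) := hz ▸ mem_zpowers _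
          dsimp only at hk
          rcases Int.even_or_odd k with ⟨j, rfl⟩ | ⟨j, rfl⟩
          · rw [← two_mul, zpow_mul, show (elt e P A₀ v) ^ (2 : ℤ) = 1 by
              rw [zpow_two]; exact (hE hv).sq h e, one_zpow] at hk
            obtain ⟨w, hw⟩ := (hE hu).moves
            exact hw (by rw [← hk, act_one])
          · rw [zpow_add, zpow_mul, show (elt e P A₀ v) ^ (2 : ℤ) = 1 by
              rw [zpow_two]; exact (hE hv).sq h e, one_zpow, one_mul, zpow_one] at hk
            exact hne hk.symm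
        refine hXne ?_
        haveI : Fact (Nat.Prime 2) := ⟨Nat.prime_two⟩
        refine h.eq_of_fixed (zpowers_le.2 (hE hu).mem) (h.mem_minOff hA₀P hA₀ (hE hu).isMem)
          (zpowers_le.2 (hE hv).mem) (h.mem_minOff hA₀P hA₀ (hE hv).isMem) ?_
        have key : ∀ {z c}, Tr P A₀ e z c → ∀ v, v ∈ V ⊓ centralizer ((zpowers z : Subgroup G) : Set G) ↔
            ∃ hv : v ∈ V, phiX e z (e (Additive.ofMul ⟨v, hv⟩)) = 0 := by
          intro z c tz v
          constructor
          · intro hv
            refine ⟨hv.1, (phiX_zero_iff h e _).2 ?_⟩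
            rw [act_eq_iff_commute e (h.hPV tz.mem), vec_e]
            exact mem_centralizer_iff.1 hv.2 z (mem_zpowers z)
          · rintro ⟨hv, h0⟩
            refine ⟨hv, mem_centralizer_iff.2 ?_⟩
            rintro _ ⟨k, rfl⟩
            have h1 := (act_eq_iff_commute e (h.hPV tz.mem) _).1 ((phiX_zero_iff h e _).1 h0)
            rw [vec_e] at h1
            exact ((show Commute z v from h1).zpow_left k).eq
        ext g
        rw [key (hE hu), key (hE hv)]
        simp only [hall]
      have hu' := hE hu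
      rw [hEq] at hu'
      obtain ⟨w, hw⟩ := hu'.phi_moves h e
      have e1 := hu'.act_eq h e w
      rw [(hE hv).act_eq h e, hw, sm_one, sm_one, add_right_inj] at e1
      exact huv e1.symm
    have haddf : ∀ {u}, (∃ x, Tr P A₀ e x u) → ∀ w w',
        phiX e (elt e P A₀ u) (w + w') = phiX e (elt e P A₀ u) w + phiX e (elt e P A₀ u) w' :=
      fun {u} hu => (hE hu).phi_add h e
    have hadda : ∀ w w', φa (w + w') = φa w + φa w' := haddf ha
    have haddb : ∀ w w', φb (w + w') = φb w + φb w' := haddf hb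
    have haddd : ∀ w w', φd (w + w') = φd w + φd w' := haddf hd
    have hadds : ∀ w w', φs (w + w') = φs w + φs w' := haddf hs
    obtain ⟨u1, hu1⟩ : ∃ w, φa w = 1 ∧ φb w = 0 := by
      obtain ⟨w, hw⟩ := ta.phi_moves h e
      change φa w = 1 at hw
      rcases z2_cases (φb w) with h2 | h2
      · exact ⟨w, hw, h2⟩
      obtain ⟨v, hv⟩ := not_forall.1 (hext ha hb hab)
      rcases z2_cases (φa v) with h3 | h3
      · refine ⟨w + v, ?_, ?_⟩
        · rw [hadda, hw, h3, add_zero]
        · rw [haddb, h2, show φb v = 1 from z2_ne_zero fun h4 => hv (h3.trans h4.symm)]; rfl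
      · exact ⟨v, h3, by
          rcases z2_cases (φb v) with h4 | h4
          · exact h4
          · exact absurd (h3.trans h4.symm) hv⟩
    obtain ⟨u2, hu2⟩ : ∃ w, φb w = 1 ∧ φa w = 0 := by
      obtain ⟨w, hw⟩ := tb.phi_moves h e
      change φb w = 1 at hw
      rcases z2_cases (φa w) with h2 | h2
      · exact ⟨w, hw, h2⟩
      · exact ⟨w + u1, by rw [haddb, hw, hu1.2, add_zero], by rw [hadda, h2, hu1.1]; rfl⟩
    obtain ⟨w3, hw3⟩ : ∃ w, φa w = 0 ∧ φb w = 0 ∧ φd w = 1 := by
      by_contra hno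
      push Not at hno
      have hlin : ∀ w, φd w = φa w * φd u1 + φb w * φd u2 := by
        intro w
        have h0 : φd (w + sm (φa w) u1 + sm (φb w) u2) = 0 := by
          refine by_contra fun h' => hno _ ?_ ?_ (z2_ne_zero h')
          · rw [hadda, hadda]
            rcases z2_cases (φa w) with h1 | h1 <;> rcases z2_cases (φb w) with h2 | h2 <;>
              simp [h1, h2, hu1.1, hu2.2, (phiX_zero_iff h e (0 : W)).2 (act_zero e (h.hPV ta.mem)), φa,
                show (1 : ZMod 2) + 1 = 0 from rfl] <;> rfl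
          · rw [haddb, haddb]
            rcases z2_cases (φa w) with h1 | h1 <;> rcases z2_cases (φb w) with h2 | h2 <;>
              simp [h1, h2, hu1.2, hu2.1, (phiX_zero_iff h e (0 : W)).2 (act_zero e (h.hPV tb.mem)), φb,
                show (1 : ZMod 2) + 1 = 0 from rfl] <;> rfl
        rw [haddd, haddd] at h0
        have hd0 : φd 0 = 0 := (phiX_zero_iff h e (0 : W)).2 (act_zero e (h.hPV td.mem))
        rcases z2_cases (φa w) with h1 | h1 <;> rcases z2_cases (φb w) with h2 | h2 <;>
          rw [h1, h2] at h0 ⊢ <;> simp only [sm_zero, sm_one, hd0, add_zero] at h0 <;>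
          simp only [zero_mul, one_mul, add_zero, zero_add] <;>
          revert h0 <;> generalize φd w = A' <;> generalize φd u1 = B' <;> generalize φd u2 = C' <;>
          revert A' B' C' <;> decide
      rcases z2_cases (φd u1) with h1 | h1 <;> rcases z2_cases (φd u2) with h2 | h2
      · obtain ⟨w, hw⟩ := td.phi_moves h e
        change φd w = 1 at hw
        rw [hlin w, h1, h2, mul_zero, mul_zero, add_zero] at hw
        exact zero_ne_one hw
      · refine hext hd hb hbd.symm fun w => ?_
        show φd w = φb w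
        rw [hlin w, h1, h2]; simp
      · refine hext hd ha had.symm fun w => ?_
        show φd w = φa w
        rw [hlin w, h1, h2]; simp
      · obtain ⟨w, hw⟩ := ts.phi_moves h e
        change φs w = 1 at hw
        rw [show φs w = φa w + φb w + φd w from hsum w, hlin w, h1, h2, mul_one, mul_one, z2_add_self] at hw
        exact zero_ne_one hw
    obtain ⟨w1, hw1⟩ : ∃ w, φa w = 1 ∧ φb w = 0 ∧ φd w = 0 := by
      rcases z2_cases (φd u1) with h1 | h1
      · exact ⟨u1, hu1.1, hu1.2, h1⟩
      · exact ⟨u1 + w3, by rw [hadda, hu1.1, hw3.1, add_zero], by rw [haddb, hu1.2, hw3.2.1, add_zero],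
          by rw [haddd, h1, hw3.2.2]; rfl⟩
    obtain ⟨w2, hw2⟩ : ∃ w, φa w = 0 ∧ φb w = 1 ∧ φd w = 0 := by
      rcases z2_cases (φd u2) with h1 | h1
      · exact ⟨u2, hu2.2, hu2.1, h1⟩
      · exact ⟨u2 + w3, by rw [hadda, hu2.2, hw3.1, add_zero], by rw [haddb, hu2.1, hw3.2.1, add_zero],
          by rw [haddd, h1, hw3.2.2]; rfl⟩
    let f : ZMod 2 × ZMod 2 × ZMod 2 × ZMod 2 → W → W := fun q w =>
      sm (q.1 * φa w) a + sm (q.2.1 * φb w) b + sm (q.2.2.1 * φd w) d + sm (q.2.2.2 * φs w) s
    have hfix : ∀ q w, ∀ u, u = a ∨ u = b ∨ u = d ∨ u = s → f q (w + u) = f q w := by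
      intro q w u hu
      simp only [f, φa, φb, φd, φs] at *
      rcases hu with rfl | rfl | rfl | rfl <;>
        simp [hadda, haddb, haddd, hadds, ta.phi_self h e, tb.phi_self h e, td.phi_self h e,
          ts.phi_self h e, pab, pad, pas, pbd, pbs, pds, pba, pda, psa, pdb, psb, psd]
    have hff : ∀ q q' w, f q (w + f q' w) = f q w := by
      intro q q' w
      have hcase : ∀ (r : ZMod 2) u v, (u = a ∨ u = b ∨ u = d ∨ u = s) → f q (v + sm r u) = f q v := by
        intro r u v hu
        rcases z2_cases r with rfl | rfl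
        · rw [sm_zero, add_zero]
        · rw [sm_one, hfix q v u hu]
      show f q (w + (sm (q'.1 * φa w) a + sm (q'.2.1 * φb w) b + sm (q'.2.2.1 * φd w) d +
        sm (q'.2.2.2 * φs w) s)) = f q w
      rw [← add_assoc, ← add_assoc, ← add_assoc, hcase _ s _ (by simp), hcase _ d _ (by simp),
        hcase _ b _ (by simp), hcase _ a _ (by simp)]
    have hfadd : ∀ q q' w, f q w + f q' w = f (q + q') w := by
      intro q q' w
      simp only [f, Prod.fst_add, Prod.snd_add, add_mul, sm_add (two_w h e a), sm_add (two_w h e b),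
        sm_add (two_w h e d), sm_add (two_w h e s)]
      abel
    let D : Subgroup G :=
      { carrier := {g | g ∈ P ∧ ∃ q, ∀ w, act e g w = w + f q w}
        one_mem' := ⟨P.one_mem, 0, fun w => by simp [f, act_one]⟩
        mul_mem' := by
          rintro g g' ⟨hg, q, hq⟩ ⟨hg', q', hq'⟩
          refine ⟨P.mul_mem hg hg', q + q', fun w => ?_⟩
          rw [act_mul e (h.hPV hg) (h.hPV hg'), hq', hq, hff, add_assoc, hfadd, add_comm q]
        inv_mem' := by
          rintro g ⟨hg, q, hq⟩
          refine ⟨P.inv_mem hg, q, fun w => ?_⟩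
          have h1 := act_inv_act e (h.hPV hg) (w + f q w)
          rwa [hq, hff, add_assoc, two_w h e, add_zero] at h1 }
    have hgen : ∀ q : ZMod 2 × ZMod 2 × ZMod 2 × ZMod 2, (q = (1, 0, 0, 0) → elt e P A₀ a ∈ D) ∧ (q = (0, 1, 0, 0) → elt e P A₀ b ∈ D) ∧
        (q = (0, 0, 1, 0) → elt e P A₀ d ∈ D) ∧ (q = (0, 0, 0, 1) → elt e P A₀ s ∈ D) := by
      intro q
      refine ⟨?_, ?_, ?_, ?_⟩ <;> intro hq
      · exact ⟨ta.mem, q, fun w => by subst hq; rw [ta.act_eq h e]; simp [f, φa]⟩
      · exact ⟨tb.mem, q, fun w => by subst hq; rw [tb.act_eq h e]; simp [f, φb]⟩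
      · exact ⟨td.mem, q, fun w => by subst hq; rw [td.act_eq h e]; simp [f, φd]⟩
      · exact ⟨ts.mem, q, fun w => by subst hq; rw [ts.act_eq h e]; simp [f, φs]⟩
    have hex : ∀ q, ∃ g ∈ D, ∀ w, act e g w = w + f q w := by
      have hone : ∀ q, (∃ g ∈ D, ∀ w, act e g w = w + f q w) → ∀ q', (∃ g ∈ D, ∀ w, act e g w = w + f q' w) →
          ∃ g ∈ D, ∀ w, act e g w = w + f (q + q') w := by
        rintro q ⟨g, hg, hq⟩ q' ⟨g', hg', hq'⟩
        exact ⟨g * g', D.mul_mem hg hg', fun w => by
          rw [act_mul e (h.hPV hg.1) (h.hPV hg'.1), hq', hq, hff, add_assoc, hfadd, add_comm q]⟩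
      have h0 : ∃ g ∈ D, ∀ w, act e g w = w + f 0 w := ⟨1, D.one_mem, fun w => by simp [f, act_one]⟩
      have ga : ∃ g ∈ D, ∀ w, act e g w = w + f (1, 0, 0, 0) w :=
        ⟨_, (hgen _).1 rfl, fun w => by rw [ta.act_eq h e]; simp [f, φa]⟩
      have gb : ∃ g ∈ D, ∀ w, act e g w = w + f (0, 1, 0, 0) w :=
        ⟨_, (hgen _).2.1 rfl, fun w => by rw [tb.act_eq h e]; simp [f, φb]⟩
      have gd : ∃ g ∈ D, ∀ w, act e g w = w + f (0, 0, 1, 0) w :=
        ⟨_, (hgen _).2.2.1 rfl, fun w => by rw [td.act_eq h e]; simp [f, φd]⟩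
      have gs : ∃ g ∈ D, ∀ w, act e g w = w + f (0, 0, 0, 1) w :=
        ⟨_, (hgen _).2.2.2 rfl, fun w => by rw [ts.act_eq h e]; simp [f, φs]⟩
      rintro ⟨i, j, k, l⟩
      have hi : ∃ g ∈ D, ∀ w, act e g w = w + f (i, 0, 0, 0) w := by
        rcases z2_cases i with rfl | rfl
        exacts [h0, ga]
      have hj : ∃ g ∈ D, ∀ w, act e g w = w + f (0, j, 0, 0) w := by
        rcases z2_cases j with rfl | rfl
        exacts [h0, gb]
      have hk : ∃ g ∈ D, ∀ w, act e g w = w + f (0, 0, k, 0) w := by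
        rcases z2_cases k with rfl | rfl
        exacts [h0, gd]
      have hl : ∃ g ∈ D, ∀ w, act e g w = w + f (0, 0, 0, l) w := by
        rcases z2_cases l with rfl | rfl
        exacts [h0, gs]
      have := hone _ (hone _ (hone _ hi _ hj) _ hk) _ hl
      simpa using this
    choose gq hgq hgq' using hex
    haveI : Fact (Nat.Prime 2) := ⟨Nat.prime_two⟩
    have hb' := h.bound (B := D) (fun g hg => hg.1) (by
        rintro g ⟨hg, q, hq⟩ g' ⟨hg', q', hq'⟩
        refine act_inj e h.hPV h.faith (P.mul_mem hg hg') (P.mul_mem hg' hg) fun w => ?_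
        rw [act_mul e (h.hPV hg) (h.hPV hg'), act_mul e (h.hPV hg') (h.hPV hg), hq', hq, hff,
          hq', hq, hff]
        abel) (by
        rintro g ⟨hg, q, hq⟩
        refine act_inj e h.hPV h.faith (P.pow_mem hg 2) P.one_mem fun w => ?_
        rw [pow_two, act_mul e (h.hPV hg) (h.hPV hg), hq, hq, hff, add_assoc, two_w h e, add_zero, act_one])
    haveI : Finite W := Finite.of_injective e.symm e.symm.injective
    have hD16 : 16 ≤ Nat.card D := by
      have hc : Nat.card (ZMod 2 × ZMod 2 × ZMod 2 × ZMod 2) = 16 := by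
        simp [Nat.card_prod, Nat.card_eq_fintype_card]
      rw [← hc]
      refine Nat.card_le_card_of_injective (fun q => (⟨gq q, hgq q⟩ : D)) fun q q' hqq => ?_
      have e1 : ∀ w, f q w = f q' w := fun w => by
        have h1 := hgq' q w
        rw [show gq q = gq q' from congrArg (fun x : D => (x : G)) hqq, hgq' q' w, add_right_inj] at h1
        exact h1.symm
      obtain ⟨i, j, k, l⟩ := q
      obtain ⟨i', j', k', l'⟩ := q'
      have hs1 : φs w1 = 1 ∧ φs w2 = 1 ∧ φs w3 = 1 := by
        refine ⟨?_, ?_, ?_⟩ <;>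
        first
          | (rw [show φs w1 = φa w1 + φb w1 + φd w1 from hsum w1, hw1.1, hw1.2.1, hw1.2.2]; rfl)
          | (rw [show φs w2 = φa w2 + φb w2 + φd w2 from hsum w2, hw2.1, hw2.2.1, hw2.2.2]; rfl)
          | (rw [show φs w3 = φa w3 + φb w3 + φd w3 from hsum w3, hw3.1, hw3.2.1, hw3.2.2]; rfl)
      have key : ∀ (u : W) (x x' y y' : ZMod 2), u ≠ 0 → u ≠ s → sm x u + sm y s = sm x' u + sm y' s →
          x = x' ∧ y = y' := by
        intro u x x' y y' hu0 hus hh
        have h2 : sm (x + x') u + sm (y + y') s = 0 := by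
          rw [sm_add (two_w h e u), sm_add (two_w h e s),
            show sm x u + sm x' u + (sm y s + sm y' s) = (sm x u + sm y s) + (sm x' u + sm y' s) by abel,
            hh, two_w h e]
        have h3 := z2_eq_of_add
        rcases z2_cases (x + x') with hx | hx <;> rcases z2_cases (y + y') with hy | hy <;>
          rw [hx, hy] at h2 <;> simp only [sm_zero, sm_one, zero_add, add_zero] at h2
        · exact ⟨h3 _ _ hx, h3 _ _ hy⟩
        · exact absurd h2 ts.ne
        · exact absurd h2 hu0
        · refine absurd ?_ hus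
          rw [← add_zero u, ← two_w h e s, ← add_assoc, h2, zero_add]
      have k1 := e1 w1
      have k2 := e1 w2
      have k3 := e1 w3
      simp only [f, hw1.1, hw1.2.1, hw1.2.2, hw2.1, hw2.2.1, hw2.2.2, hw3.1, hw3.2.1, hw3.2.2, hs1.1,
        hs1.2.1, hs1.2.2, mul_one, mul_zero, sm_zero, add_zero, zero_add] at k1 k2 k3
      obtain ⟨r1, r2⟩ := key a _ _ _ _ ta.ne has k1
      obtain ⟨r3, -⟩ := key b _ _ _ _ tb.ne hbs k2
      obtain ⟨r4, -⟩ := key d _ _ _ _ td.ne hds k3
      rw [r1, r2, r3, r4]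
    have hV : Nat.card V ≤ 8 * Nat.card ↥(V ⊓ centralizer (D : Set G)) := by
      rw [card_fixed e (fun g (hg : g ∈ D) => h.hPV hg.1),
        show Nat.card V = Nat.card W from Nat.card_congr (Additive.ofMul.trans e.toEquiv),
        show 8 = Nat.card (ZMod 2 × ZMod 2 × ZMod 2) by simp [Nat.card_prod, Nat.card_eq_fintype_card],
        ← Nat.card_prod]
      let g₀ : W → W := fun w => w + sm (φa w) w1 + sm (φb w) w2 + sm (φd w) w3
      have hker : ∀ w, φa (g₀ w) = 0 ∧ φb (g₀ w) = 0 ∧ φd (g₀ w) = 0 := by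
        intro w
        have za : φa 0 = 0 := (phiX_zero_iff h e (0 : W)).2 (act_zero e (h.hPV ta.mem))
        have zb : φb 0 = 0 := (phiX_zero_iff h e (0 : W)).2 (act_zero e (h.hPV tb.mem))
        have zd : φd 0 = 0 := (phiX_zero_iff h e (0 : W)).2 (act_zero e (h.hPV td.mem))
        refine ⟨?_, ?_, ?_⟩ <;> simp only [g₀]
        · rw [hadda, hadda, hadda]
          rcases z2_cases (φa w) with h1 | h1 <;> rcases z2_cases (φb w) with h2 | h2 <;>
            rcases z2_cases (φd w) with h3 | h3 <;> rw [h1, h2, h3] <;>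
            simp only [sm_zero, sm_one] <;> (try rw [za]) <;> (try rw [hw1.1]) <;> (try rw [hw2.1]) <;>
            (try rw [hw3.1]) <;> rfl
        · rw [haddb, haddb, haddb]
          rcases z2_cases (φa w) with h1 | h1 <;> rcases z2_cases (φb w) with h2 | h2 <;>
            rcases z2_cases (φd w) with h3 | h3 <;> rw [h1, h2, h3] <;>
            simp only [sm_zero, sm_one] <;> (try rw [zb]) <;> (try rw [hw1.2.1]) <;>
            (try rw [hw2.2.1]) <;> (try rw [hw3.2.1]) <;> rfl
        · rw [haddd, haddd, haddd]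
          rcases z2_cases (φa w) with h1 | h1 <;> rcases z2_cases (φb w) with h2 | h2 <;>
            rcases z2_cases (φd w) with h3 | h3 <;> rw [h1, h2, h3] <;>
            simp only [sm_zero, sm_one] <;> (try rw [zd]) <;> (try rw [hw1.2.2]) <;>
            (try rw [hw2.2.2]) <;> (try rw [hw3.2.2]) <;> rfl
      refine Nat.card_le_card_of_injective (fun w => ((φa w, φb w, φd w),
        (⟨g₀ w, ?_⟩ : {w : W // ∀ x ∈ D, act e x w = w}))) ?_
      · rintro g ⟨hg, q, hq⟩
        obtain ⟨za, zb, zd⟩ := hker w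
        have zs : φs (g₀ w) = 0 := by
          rw [show φs (g₀ w) = φa (g₀ w) + φb (g₀ w) + φd (g₀ w) from hsum _, za, zb, zd]; rfl
        rw [hq]
        show g₀ w + f q (g₀ w) = g₀ w
        simp only [f, za, zb, zd, zs, mul_zero, sm_zero, add_zero]
      · intro w w' hww
        simp only [Prod.mk.injEq, Subtype.mk.injEq] at hww
        obtain ⟨⟨r1, r2, r3⟩, r4⟩ := hww
        simp only [g₀, r1, r2, r3, add_left_inj] at r4
        exact r4
    have hpos : 0 < Nat.card ↥(V ⊓ centralizer (D : Set G)) := Nat.card_pos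
    have := (Nat.mul_le_mul_right _ hD16).trans (hb'.trans hV)
    have := Nat.le_of_mul_le_mul_right this hpos
    omega

end Cfsg.Agent.H34.Para
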