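import Cfsg.Agent.H34.Para.Delta
import Mathlib

/-!
The normaliser of `A` in the stabiliser of the fixed point normalises the subgroup with coordinates.
-/

set_option autoImplicit false
set_option linter.style.haveILetI false
set_option maxHeartbeats 1000000

namespace Cfsg.Agent.H34.Para

open Subgroup
open Cfsg.Agent.H34.MinOffender

variable {G : Type*} [Group G] [Finite G] {p : ℕ} [Fact p.Prime] {V P T M A L : Subgroup G} {F : Type}
  [Field F] [Fintype F] {C : Type*} [AddCommGroup C] (c : Chart p V P T M A L F C)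
include c

theorem Chart.preserves_U {g : G} (hg : g ∈ P) (hgA : cj g A = A) {w : F × F × C} (hw : w.2.1 = 0) :
    (act c.e g w).2.1 = 0 := by
  rw [← c.mem_U, vec_act c.e (c.hPV hg)]
  have := conj_mem_cj (x := g) ((c.mem_U w).2 hw)
  rwa [← cent_cj (c.hPV hg), hgA] at this

theorem Chart.beta_inj {g : G} (hg : g ∈ P) (hgA : cj g A = A) {w : F × F × C}
    (hw : (act c.e g w).2.1 = 0) : w.2.1 = 0 := by
  have := c.preserves_U (P.inv_mem hg) (by conv_lhs => rw [← hgA, cj_inv_cj]) hw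
  rwa [act_inv_act c.e (c.hPV hg)] at this

variable {z : F × F × C} (hzT : ∀ t ∈ T, act c.e t z = z) (hzM : ∀ g ∈ P, act c.e g z = z → g ∈ M)
include hzT hzM

omit hzT in
/-- If one point of the orbit lies in the fixed space of a conjugate member, all do. -/
theorem Chart.seeds_in {g l : G} (hg : g ∈ P) (hgA : cj g A = A) (hl : l ∈ L) {m₀ : G} (hm₀ : m₀ ∈ M)
    (h₀ : (act c.e (l * g * c.ww)⁻¹ (act c.e m₀ z)).2.1 = 0) {m : G} (hm : m ∈ M) :
    (act c.e (l * g * c.ww)⁻¹ (act c.e m z)).2.1 = 0 := by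
  classical
  have hPV := c.hPV
  have hlP := c.hLP hl
  set k := l * g * c.ww with hk
  have hkP : k ∈ P := P.mul_mem (P.mul_mem hlP hg) c.wwP
  have hmP := c.base.pm.hMP hm
  by_contra hy
  set w := act c.e k⁻¹ (act c.e m z) with hw
  let S : F → F := fun t => (act c.e k ((t * w.2.1, 0, c.G0 (c.r t * w.2.1)) : F × F × C)).1
  have hdM : ∀ t, k * c.up t * k⁻¹ ∈ M := fun t => by
    refine c.mem_M hzM hm₀ (P.mul_mem (P.mul_mem hkP (c.upP t)) (P.inv_mem hkP)) ?_
    rw [act_conj c.e (hPV hkP) (hPV (c.upP t)), c.act_up, h₀]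
    simp only [mul_zero, add_zero, map_zero]
    conv_rhs => rw [← act_act_inv c.e (hPV hkP) (act c.e m₀ z)]
    congr 1
    exact Prod.ext rfl (Prod.ext h₀.symm rfl)
  have hd : ∀ t, act c.e (k * c.up t * k⁻¹ * m) z = act c.e m z +
      act c.e k ((t * w.2.1, 0, c.G0 (c.r t * w.2.1)) : F × F × C) := fun t => by
    have hdP : k * c.up t * k⁻¹ ∈ P := P.mul_mem (P.mul_mem hkP (c.upP t)) (P.inv_mem hkP)
    rw [act_mul c.e (hPV hdP) (hPV hmP), act_conj c.e (hPV hkP) (hPV (c.upP t)), ← hw, c.act_up]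
    conv_rhs => rw [← act_act_inv c.e (hPV hkP) (act c.e m z), ← hw, ← act_add c.e (hPV hkP)]
    congr 1
    refine Prod.ext rfl (Prod.ext (add_zero _).symm rfl)
  have hSy : ∀ t, (act c.e k ((t * w.2.1, 0, c.G0 (c.r t * w.2.1)) : F × F × C)).2.1 = 0 := fun t => by
    have h1 := c.seed_y hzM (M.mul_mem (hdM t) hm)
    rw [hd t] at h1
    simpa [c.seed_y hzM hm] using h1
  have hSadd : ∀ s t, S (s + t) = S s + S t := fun s t => by
    simp only [S]
    rw [show (((s + t) * w.2.1, 0, c.G0 (c.r (s + t) * w.2.1)) : F × F × C) =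
      (s * w.2.1, 0, c.G0 (c.r s * w.2.1)) + (t * w.2.1, 0, c.G0 (c.r t * w.2.1)) by
        simp [add_mul, map_add], act_add c.e (hPV hkP)]
    rfl
  have hSinj : Function.Injective S := by
    have hker : ∀ t, S t = 0 → t = 0 := by
      intro t ht
      set d : F × F × C := (t * w.2.1, 0, c.G0 (c.r t * w.2.1)) with hddef
      have hCk : vec c.e (act c.e k d) ∈ V ⊓ centralizer (L : Set G) := (c.mem_C _).2 ⟨ht, hSy t⟩
      have e1 : act c.e l⁻¹ (act c.e k d) = act c.e k d :=
        (act_eq_iff_commute c.e (hPV (P.inv_mem hlP)) _).2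
          (mem_centralizer_iff.1 hCk.2 _ (L.inv_mem hl))
      rw [hk, mul_assoc, act_mul c.e (hPV hlP) (hPV (P.mul_mem hg c.wwP)),
        act_inv_act c.e (hPV hlP)] at e1
      have e2 : (act c.e (g * c.ww) d).2.1 = 0 := by
        rw [e1, ← act_mul c.e (hPV hlP) (hPV (P.mul_mem hg c.wwP)), ← mul_assoc, ← hk]
        exact hSy t
      rw [act_mul c.e (hPV hg) (hPV c.wwP), c.act_ww] at e2
      have e3 := c.beta_inj hg hgA e2
      simpa [hddef, hy] using e3
    intro s t hst
    have := hSadd (s - t) t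
    rw [sub_add_cancel, hst, right_eq_add] at this
    exact sub_eq_zero.1 (hker _ this)
  obtain ⟨t, ht⟩ := (Finite.injective_iff_surjective.1 hSinj) (-(act c.e m z).1)
  refine c.seed_x hzM (M.mul_mem (hdM t) hm) ?_
  rw [hd t, Prod.fst_add]
  show _ + S t = 0
  rw [ht, add_neg_cancel]

/-- An element normalising `A` and fixing `z` preserves `C_V(L)`. -/
theorem Chart.C_invariant {g : G} (hgM : g ∈ M) (hgA : cj g A = A) (hgz : act c.e g z = z) :
    ∀ k, (act c.e g ((0, 0, k) : F × F × C)).1 = 0 := by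
  classical
  have hPV := c.hPV
  have hg := c.base.pm.hMP hgM
  have hgN := hPV hg
  have hU : ∀ w : F × F × C, w.2.1 = 0 → (act c.e g w).2.1 = 0 := fun w hw => c.preserves_U hg hgA hw
  let ep : F → F := fun a => (act c.e g ((a, 0, 0) : F × F × C)).1
  let xi : F → C := fun a => (act c.e g ((a, 0, 0) : F × F × C)).2.2
  let de : C → F := fun k => (act c.e g ((0, 0, k) : F × F × C)).1
  let th : C → C := fun k => (act c.e g ((0, 0, k) : F × F × C)).2.2
  let al : F → F := fun y => (act c.e g ((0, y, 0) : F × F × C)).1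
  let be : F → F := fun y => (act c.e g ((0, y, 0) : F × F × C)).2.1
  let ga : F → C := fun y => (act c.e g ((0, y, 0) : F × F × C)).2.2
  have hform : ∀ a y k, act c.e g ((a, y, k) : F × F × C) =
      (ep a + al y + de k, be y, xi a + ga y + th k) := by
    intro a y k
    rw [show ((a, y, k) : F × F × C) = (a, 0, 0) + (0, y, 0) + (0, 0, k) by simp, act_add c.e hgN,
      act_add c.e hgN]
    refine Prod.ext rfl (Prod.ext ?_ rfl)
    show (act c.e g (a, 0, 0)).2.1 + be y + (act c.e g (0, 0, k)).2.1 = be y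
    rw [hU _ rfl, hU _ rfl, zero_add, add_zero]
  have hep_add : ∀ a b, ep (a + b) = ep a + ep b := fun a b => by
    simp only [ep]
    rw [show ((a + b, 0, 0) : F × F × C) = (a, 0, 0) + (b, 0, 0) by simp, act_add c.e hgN]; rfl
  have hxi_add : ∀ a b, xi (a + b) = xi a + xi b := fun a b => by
    simp only [xi]
    rw [show ((a + b, 0, 0) : F × F × C) = (a, 0, 0) + (b, 0, 0) by simp, act_add c.e hgN]; rfl
  have hde_add : ∀ a b, de (a + b) = de a + de b := fun a b => by
    simp only [de]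
    rw [show ((0, 0, a + b) : F × F × C) = (0, 0, a) + (0, 0, b) by simp, act_add c.e hgN]; rfl
  have hth_add : ∀ a b, th (a + b) = th a + th b := fun a b => by
    simp only [th]
    rw [show ((0, 0, a + b) : F × F × C) = (0, 0, a) + (0, 0, b) by simp, act_add c.e hgN]; rfl
  have hbe_add : ∀ a b, be (a + b) = be a + be b := fun a b => by
    simp only [be]
    rw [show ((0, a + b, 0) : F × F × C) = (0, a, 0) + (0, b, 0) by simp, act_add c.e hgN]; rfl
  have hz0 : act c.e g (0 : F × F × C) = 0 := act_zero c.e hgN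
  have hep0 : ep 0 = 0 := congrArg Prod.fst hz0
  have hxi0 : xi 0 = 0 := congrArg (fun w : F × F × C => w.2.2) hz0
  have hde0 : de 0 = 0 := congrArg Prod.fst hz0
  have hth0 : th 0 = 0 := congrArg (fun w : F × F × C => w.2.2) hz0
  have hal0 : al 0 = 0 := congrArg Prod.fst hz0
  have hbe0 : be 0 = 0 := congrArg (fun w : F × F × C => w.2.1) hz0
  have hga0 : ga 0 = 0 := congrArg (fun w : F × F × C => w.2.2) hz0
  have hbe_inj : ∀ y, be y = 0 → y = 0 := fun y hy => c.beta_inj hg hgA (w := ((0, y, 0) : F × F × C)) hy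
  -- surjectivity on `C_V(A)`
  have honto : ∀ a' k', ∃ a k, ep a + de k = a' ∧ xi a + th k = k' := by
    intro a' k'
    set w := act c.e g⁻¹ ((a', 0, k') : F × F × C) with hw
    have hwy : w.2.1 = 0 := c.beta_inj hg hgA (by rw [hw, act_act_inv c.e hgN])
    refine ⟨w.1, w.2.2, ?_⟩
    have := act_act_inv c.e hgN ((a', 0, k') : F × F × C)
    rw [← hw, show w = (w.1, w.2.1, w.2.2) from rfl, hwy, hform, hal0, hga0] at this
    simp only [Prod.mk.injEq, add_zero] at this
    exact ⟨this.1, this.2.2⟩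
  -- conjugation of `A`
  have hτ : ∀ t, ∃ τ, g * c.up t = c.up τ * g := fun t => by
    obtain ⟨τ, hτ⟩ := c.up_all _ (hgA.le (conj_mem_cj (c.up_mem t)))
    exact ⟨τ, mul_inv_eq_iff_eq_mul.1 hτ⟩
  choose τ hτ' using hτ
  have hE : ∀ t y, ep (t * y) + de (c.G0 (c.r t * y)) = τ t * be y ∧
      xi (t * y) + th (c.G0 (c.r t * y)) = c.G0 (c.r (τ t) * be y) := by
    intro t y
    have e3 := congrArg (fun f => act c.e f ((0, y, 0) : F × F × C)) (hτ' t)
    rw [act_mul c.e hgN (hPV (c.upP t)), act_mul c.e (hPV (c.upP _)) hgN, c.act_up, hform, hform,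
      c.act_up] at e3
    simp only [zero_add, hep0, hde0, hxi0, hth0, add_zero, Prod.mk.injEq] at e3
    exact ⟨by linear_combination e3.1, add_left_cancel (a := ga y) (by rw [← e3.2.2]; abel)⟩
  have hτ0 : ∀ t, τ t = 0 → t = 0 := fun t ht => by
    have e := hτ' t
    rw [ht, c.up_zero, one_mul, mul_eq_left] at e
    exact c.up_inj (e.trans c.up_zero.symm)
  have hτadd : ∀ s t, τ (s + t) = τ s + τ t := fun s t => by
    have e := hτ' (s + t)
    rw [← c.up_add, ← mul_assoc, hτ' s, mul_assoc, hτ' t, ← mul_assoc, c.up_add] at e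
    exact (c.up_inj (mul_right_cancel e)).symm
  have hno : ((2 : F) = 0 ∧ ∀ t, c.r t * c.r t = t) → ∀ u w, u ≠ 0 → w ≠ 0 →
      ep u + de (c.G0 w) ≠ 0 := by
    intro h2 u w hu hw
    obtain ⟨t, y, ht, hy, e1, e2⟩ := c.exists_pair h2 hu hw
    rw [← e1, ← e2, (hE t y).1]
    exact mul_ne_zero (fun h' => ht (hτ0 t h')) fun h' => hy (hbe_inj y h')
  by_cases hI : ∀ w, de (c.G0 w) = 0
  · -- semilinear case
    have he : ∀ t y, ep (t * y) = τ t * be y := fun t y => by
      have := (hE t y).1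
      rwa [hI, add_zero] at this
    have hτ1 : τ 1 ≠ 0 := fun h' => one_ne_zero (hτ0 1 h')
    let σ : F → F := fun l => τ l / τ 1
    have hσ1 : σ 1 = 1 := div_self hτ1
    have hσadd : ∀ a b, σ (a + b) = σ a + σ b := fun a b => by simp only [σ, hτadd, add_div]
    have hβσ : ∀ l y, be (l * y) = σ l * be y := fun l y => by
      have h1 := he 1 (l * y)
      rw [one_mul, he l y] at h1
      show be (l * y) = τ l / τ 1 * be y
      rw [div_mul_eq_mul_div, eq_div_iff hτ1]
      linear_combination -h1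
    have hb1 : be 1 ≠ 0 := fun h' => one_ne_zero (hbe_inj 1 h')
    have hσmul : ∀ a b, σ (a * b) = σ a * σ b := fun a b => by
      have e1 := hβσ (a * b) 1
      rw [mul_assoc, hβσ a, hβσ b, ← mul_assoc] at e1
      exact (mul_right_cancel₀ hb1 e1).symm
    have hσ0 : ∀ a, σ a = 0 → a = 0 := fun a ha =>
      hτ0 a ((div_eq_zero_iff.1 ha).resolve_right hτ1)
    have hxi : ∀ a, xi a = 0 := by
      intro a
      rcases c.hr with h0 | h2
      · have := (hE 1 a).2
        rw [h0] at this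
        simpa [hth0] using this
      obtain ⟨l, hl⟩ := c.exists_ne
      have hneg : ∀ x : F, -x = x := fun x => by
        rw [neg_eq_iff_add_eq_zero, ← two_mul, h2.1, zero_mul]
      have hrsq : ∀ x, c.r (x * x) = x := fun x => by rw [map_mul, h2.2]
      have hσr : ∀ x, σ (c.r x) = c.r (σ x) := fun x => by
        conv_rhs => rw [← h2.2 x, hσmul, hrsq]
      let J : F → C := fun w => c.G0 (c.r (τ 1) * be 1 * σ w) - th (c.G0 w)
      have hJ : ∀ t y, xi (t * y) = J (c.r t * y) := fun t y => by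
        show _ = c.G0 (c.r (τ 1) * be 1 * σ (c.r t * y)) - th (c.G0 (c.r t * y))
        rw [eq_sub_iff_add_eq, (hE t y).2]
        congr 1
        have e1 : τ t = τ 1 * σ t := (mul_div_cancel₀ _ hτ1).symm
        have e2 : be y = σ y * be 1 := by rw [← hβσ, mul_one]
        rw [e1, map_mul, e2, hσmul, hσr]
        ring
      have hJ1 : ∀ w, xi w = J w := fun w => by
        have := hJ 1 w
        rwa [one_mul, map_one, one_mul] at this
      have hs : ∀ y, xi (((l : F) * l + l) * y) = 0 := fun y => by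
        rw [add_mul, hxi_add, hJ ((l : F) * l) y, hrsq, ← hJ1, ← hxi_add, ← two_mul, h2.1, zero_mul, hxi0]
      have hne : (l : F) * l + l ≠ 0 := fun h' => by
        rw [show (l : F) * l + l = (l + 1) * l by ring, mul_eq_zero, or_iff_left l.ne_zero] at h'
        exact hl (by rw [← hneg (l : F)]; linear_combination -h')
      have := hs (a / ((l : F) * l + l))
      rwa [mul_div_cancel₀ _ hne] at this
    obtain ⟨l, hl⟩ := c.exists_ne
    set l' : Fˣ := Units.mk0 (σ (l : F)) (fun h' => l.ne_zero (hσ0 _ h'))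
    set h' := c.hh l' * g with hh'
    have hh'P : h' ∈ P := P.mul_mem (c.hhP l') hg
    set u := g * c.hh l * h'⁻¹ with hu
    have huP : u ∈ P := P.mul_mem (P.mul_mem hg (c.hhP l)) (P.inv_mem hh'P)
    have hu' : ∀ a y k, act c.e u (σ (l : F) * (ep a + al y + de k), (σ (l : F))⁻¹ * be y,
        xi a + ga y + th k) = (ep ((l : F) * a) + al ((↑l⁻¹ : F) * y) + de k, be ((↑l⁻¹ : F) * y),
          xi ((l : F) * a) + ga ((↑l⁻¹ : F) * y) + th k) := by
      intro a y k
      have e1 : act c.e h' ((a, y, k) : F × F × C) =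
          (σ (l : F) * (ep a + al y + de k), (σ (l : F))⁻¹ * be y, xi a + ga y + th k) := by
        rw [hh', act_mul c.e (hPV (c.hhP l')) hgN, hform, c.act_hh, Units.val_inv_eq_inv_val]
        rfl
      rw [← e1, ← act_mul c.e (hPV huP) (hPV hh'P), hu, inv_mul_cancel_right,
        act_mul c.e hgN (hPV (c.hhP l)), c.act_hh, hform]
    have hσl : σ (↑l⁻¹ : F) = (σ (l : F))⁻¹ := by
      refine eq_inv_of_mul_eq_one_left ?_
      rw [← hσmul, Units.inv_mul, hσ1]
    have huy : ∀ w, (act c.e u w).2.1 = w.2.1 := by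
      intro w
      obtain ⟨⟨a, y, k⟩, rfl⟩ : ∃ v, act c.e h' v = w := ⟨_, act_act_inv c.e (hPV hh'P) w⟩
      rw [← act_mul c.e (hPV huP) (hPV hh'P), hu, inv_mul_cancel_right, hh',
        act_mul c.e (hPV (c.hhP l')) hgN, act_mul c.e hgN (hPV (c.hhP l)), c.act_hh, hform, hform, c.act_hh]
      show be ((↑l⁻¹ : F) * y) = (↑l'⁻¹ : F) * be y
      rw [hβσ, hσl, Units.val_inv_eq_inv_val]
      rfl
    have hep_inj : Function.Injective ep := by
      intro a b hab
      have h1 := hep_add (a - b) b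
      rw [sub_add_cancel, hab, right_eq_add] at h1
      have e1 := he (a - b) 1
      rw [mul_one, h1] at e1
      exact sub_eq_zero.1 (hτ0 _ ((mul_eq_zero.1 e1.symm).resolve_right hb1))
    have hus : u ∈ c.stab := by
      refine ⟨huP, huy, fun a => ?_⟩
      obtain ⟨a', ha'⟩ := Finite.injective_iff_surjective.1 hep_inj (a / σ (l : F))
      have hl0 : σ (l : F) ≠ 0 := fun h' => l.ne_zero (hσ0 _ h')
      have e1 := hu' a' 0 0
      simp only [mul_zero, hal0, hde0, hbe0, hga0, hth0, hxi, add_zero, ha',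
        mul_div_cancel₀ _ hl0] at e1
      rw [e1]
      have e2 : ep ((l : F) * a') = σ (l : F) * ep a' := by
        have h1 := he ((l : F) * a') 1
        have h2 := he a' 1
        rw [mul_one] at h1 h2
        rw [h1, h2, show τ ((l : F) * a') = τ 1 * σ ((l : F) * a') from (mul_div_cancel₀ _ hτ1).symm,
          show τ a' = τ 1 * σ a' from (mul_div_cancel₀ _ hτ1).symm, hσmul]
        ring
      rw [e2, ha', mul_div_cancel₀ _ hl0]
    have hth : ∀ k, ∃ k', th k' = k := fun k => by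
      obtain ⟨a, k', -, e⟩ := honto 0 k
      exact ⟨k', by rwa [hxi, zero_add] at e⟩
    have huk : ∀ k', act c.e u ((0, 0, th k') : F × F × C) = ((1 - σ (l : F)) * de k', 0, th k') := by
      intro k'
      have e1 := hu' 0 0 k'
      simp only [mul_zero, hep0, hal0, hbe0, hga0, hxi, zero_add] at e1
      rw [show ((0, 0, th k') : F × F × C) = (σ (l : F) * de k', 0, th k') + (-(σ (l : F) * de k'), 0, 0) by
        simp, act_add c.e (hPV huP), e1, hus.2.2]
      refine Prod.ext ?_ (Prod.ext (add_zero _) (add_zero _))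
      show de k' + -(σ (l : F) * de k') = (1 - σ (l : F)) * de k'
      ring
    have hΔ := c.delta_zero hus fun k => by
      obtain ⟨k', rfl⟩ := hth k
      show (act c.e u ((0, 0, th k') : F × F × C)).2.2 = th k'
      rw [huk]
    intro k
    have := hΔ (th k)
    rw [huk] at this
    refine (mul_eq_zero.1 this).resolve_left fun h' => hl ?_
    have h1 : σ ((l : F) - 1) = 0 := by
      have := hσadd ((l : F) - 1) 1
      rw [sub_add_cancel, hσ1] at this
      linear_combination -this - h'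
    exact sub_eq_zero.1 (hσ0 _ h1)
  -- the exceptional case
  exfalso
  push Not at hI
  obtain ⟨w₀, hw₀⟩ := hI
  have h2 : (2 : F) = 0 ∧ ∀ t, c.r t * c.r t = t := c.hr.resolve_left fun h0 => hw₀ (by
    rw [h0, AddMonoidHom.zero_apply, hde0])
  have hw₀0 : w₀ ≠ 0 := fun h' => hw₀ (by rw [h', map_zero, hde0])
  let H : F → F := fun w => de (c.G0 w)
  have hH_add : ∀ a b, H (a + b) = H a + H b := fun a b => by simp only [H, map_add, hde_add]
  have hH0 : H 0 = 0 := by simp only [H, map_zero, hde0]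
  have hepk : ∃ a, a ≠ 0 ∧ ep a = 0 := by
    by_contra hinj
    push Not at hinj
    have hs : Function.Surjective ep := Finite.injective_iff_surjective.1 fun a b hab => by
      have h1 := hep_add (a - b) b
      rw [sub_add_cancel, hab, right_eq_add] at h1
      exact sub_eq_zero.1 (by_contra fun h' => hinj _ h' h1)
    obtain ⟨a, ha⟩ := hs (-de (c.G0 w₀))
    refine hno h2 a w₀ (fun h' => hw₀ ?_) hw₀0 (by rw [ha, neg_add_cancel])
    rw [h', hep0] at ha
    exact neg_eq_zero.1 ha.symm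
  obtain ⟨a₀, ha₀, hea₀⟩ := hepk
  have hHinj : ∀ w, H w = 0 → w = 0 := fun w hw => by
    by_contra h'
    exact hno h2 a₀ w ha₀ h' (by rw [hea₀, zero_add]; exact hw)
  have hHbij : Function.Bijective H := by
    have hi : Function.Injective H := fun a b hab => by
      have h1 := hH_add (a - b) b
      rw [sub_add_cancel, hab, right_eq_add] at h1
      exact sub_eq_zero.1 (hHinj _ h1)
    exact ⟨hi, Finite.injective_iff_surjective.1 hi⟩
  have hep : ∀ a, ep a = 0 := by
    intro a
    by_contra h'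
    obtain ⟨w, hw⟩ := hHbij.2 (-ep a)
    exact hno h2 a w (fun h'' => h' (by rw [h'', hep0])) (fun h'' => h' (by
      rw [h'', hH0] at hw; exact neg_eq_zero.1 hw.symm)) (by show ep a + H w = 0; rw [hw, add_neg_cancel])
  -- the image of the axis
  have hgG : (∀ a, ∃ w, xi a = c.G0 w) ∧ ∀ w, ∃ w', th (c.G0 w) = c.G0 w' := by
    let S : AddSubgroup (F × F × C) :=
      { carrier := {v | v.2.1 = 0 ∧ ∃ w, (act c.e g v).2.2 = c.G0 w}
        zero_mem' := ⟨rfl, 0, by rw [hz0, map_zero]; rfl⟩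
        add_mem' := by
          rintro v v' ⟨h1, w, hw⟩ ⟨h1', w', hw'⟩
          refine ⟨by rw [Prod.snd_add, Prod.fst_add, h1, h1', add_zero], w + w', ?_⟩
          rw [act_add c.e hgN, map_add, ← hw, ← hw']; rfl
        neg_mem' := by
          rintro v ⟨h1, w, hw⟩
          refine ⟨by rw [Prod.snd_neg, Prod.fst_neg, h1, neg_zero], -w, ?_⟩
          rw [act_neg c.e hgN, map_neg, ← hw]; rfl }
    obtain ⟨hax1, hax2⟩ := c.axis_of S fun t y => ⟨rfl, c.r (τ t) * be y, by
      rw [hform, hga0, add_zero]; exact (hE t y).2⟩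
    refine ⟨fun a => ?_, fun w => ?_⟩
    · obtain ⟨-, w, hw⟩ := hax1 a
      exact ⟨w, hw⟩
    · obtain ⟨-, w', hw'⟩ := hax2 w
      exact ⟨w', hw'⟩
  choose xw hxw using hgG.1
  choose tw htw using hgG.2
  have hxwinj : Function.Injective xw := by
    intro a b hab
    have h1 := hxi_add (a - b) b
    rw [sub_add_cancel, hxw a, hab, ← hxw b, right_eq_add] at h1
    have e1 : act c.e g ((a - b, 0, 0) : F × F × C) = 0 := by
      rw [hform, hep, hal0, hde0, hbe0, hga0, hth0, h1]; simp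
    have := congrArg (act c.e g⁻¹) e1
    rw [act_inv_act c.e hgN, act_zero c.e (inv_mem hgN)] at this
    exact sub_eq_zero.1 (congrArg Prod.fst this)
  have hxwsurj : ∀ w, ∃ a, xi a = c.G0 w := fun w => by
    obtain ⟨a, rfl⟩ := Finite.injective_iff_surjective.1 hxwinj w
    exact ⟨a, hxw a⟩
  have hGinj : ∀ w, c.G0 w = 0 → w = 0 := fun w hw => hHinj w (by show de _ = 0; rw [hw, hde0])
  -- the point `z`
  obtain ⟨z1, z2, z3⟩ := z
  have hz2 : z2 = 0 := by
    have := c.seed_y hzM M.one_mem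
    rwa [act_one] at this
  subst hz2
  have hz1 : z1 ≠ 0 := by
    have := c.seed_x hzM M.one_mem
    rwa [act_one] at this
  rw [hform, hep, hal0, hbe0, hga0, add_zero, add_zero, zero_add] at hgz
  simp only [Prod.mk.injEq] at hgz
  obtain ⟨hg1, -, hg3⟩ := hgz
  have hseed : ∀ l : Fˣ, act c.e (g * c.hh l) ((z1, 0, z3) : F × F × C) =
      (z1, 0, z3 + xi (((l : F) - 1) * z1)) := by
    intro l
    rw [act_mul c.e hgN (hPV (c.hhP l)), c.act_hh, hform, mul_zero, hbe0, hal0, hga0, hep, add_zero,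
      zero_add, add_zero, hg1]
    refine Prod.ext rfl (Prod.ext rfl ?_)
    have e : xi ((l : F) * z1) = xi (((l : F) - 1) * z1) + xi z1 := by
      rw [← hxi_add, sub_mul, one_mul, sub_add_cancel]
    show xi ((l : F) * z1) + th z3 = _
    conv_rhs => rw [← hg3]
    rw [e]; abel
  -- a point of a conjugate member in the orbit
  obtain ⟨y, hy, k, s, hs, l₁, hval⟩ : ∃ y : F, y ≠ 0 ∧ ∃ k, ∃ s : F, (al y + de k) + s * be y = 0 ∧
      ∃ l₁ : Fˣ, xi 0 + ga y + th k + c.G0 (c.r s * be y) = z3 + xi (((l₁ : F) - 1) * z1) := by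
    by_contra hall
    push Not at hall
    have hneg : ∀ x : F, -x = x := fun x => by
      rw [neg_eq_iff_add_eq_zero, ← two_mul, h2.1, zero_mul]
    have hall' : ∀ y : F, y ≠ 0 → ∀ k,
        (∃ w, xi 0 + ga y + th k + c.G0 (c.r (-(al y + de k) / be y) * be y) = z3 + c.G0 w) →
        xi 0 + ga y + th k + c.G0 (c.r (-(al y + de k) / be y) * be y) = z3 + xi (-z1) := by
      rintro y hy k ⟨w, hw⟩
      obtain ⟨a, ha⟩ := hxwsurj w
      by_cases haz : a = -z1
      · rw [hw, ← ha, haz]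
      exfalso
      have hl : a / z1 + 1 ≠ 0 := fun h' => haz (by
        rw [add_eq_zero_iff_eq_neg, div_eq_iff hz1] at h'; rw [h']; ring)
      refine hall y hy k _ ?_ (Units.mk0 _ hl) (hw.trans ?_)
      · rw [div_mul_cancel₀ _ (fun h' => hy (hbe_inj y h')), add_neg_cancel]
      · rw [Units.val_mk0, add_sub_cancel_right, div_mul_cancel₀ _ hz1, ha]
    have hb : ∀ y : F, y ≠ 0 → be y ≠ 0 := fun y hy h' => hy (hbe_inj y h')
    -- a base point for each `y`
    have hbase : ∀ y : F, y ≠ 0 → ∃ k₀, ∃ w, xi 0 + ga y + th k₀ +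
        c.G0 (c.r (-(al y + de k₀) / be y) * be y) = z3 + c.G0 w := by
      intro y hy
      obtain ⟨a, k, hk1, hk2⟩ := honto 0 (z3 - ga y)
      rw [hep, zero_add] at hk1
      refine ⟨k, c.r (-(al y + de k) / be y) * be y - xw a, ?_⟩
      rw [map_sub, ← hxw, hxi0, zero_add, show z3 = xi a + th k + ga y by rw [hk2]; abel]
      abel
    have hconst : ∀ y : F, y ≠ 0 → ∀ w, th (c.G0 w) + c.G0 (c.r (-H w / be y) * be y) = 0 := by
      intro y hy w
      obtain ⟨k₀, w', hw'⟩ := hbase y hy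
      have e0 := hall' y hy k₀ ⟨w', hw'⟩
      have hsplit : xi 0 + ga y + th (k₀ + c.G0 w) + c.G0 (c.r (-(al y + de (k₀ + c.G0 w)) / be y) * be y) =
          xi 0 + ga y + th k₀ + c.G0 (c.r (-(al y + de k₀) / be y) * be y) +
          (th (c.G0 w) + c.G0 (c.r (-H w / be y) * be y)) := by
        rw [hth_add, hde_add, show -(al y + (de k₀ + de (c.G0 w))) / be y =
          -(al y + de k₀) / be y + -H w / be y by simp only [H]; ring, map_add, add_mul, map_add]
        abel
      have e1 := hall' y hy (k₀ + c.G0 w)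
        ⟨w' + (tw w + c.r (-H w / be y) * be y), by rw [hsplit, hw', map_add, map_add, htw]; abel⟩
      rw [hsplit, e0, add_eq_left] at e1
      exact e1
    obtain ⟨l, hl⟩ := c.exists_ne
    obtain ⟨w, hw⟩ := hHbij.2 1
    have e1 := hconst 1 one_ne_zero w
    have e2 := hconst (l : F) l.ne_zero w
    rw [← e2, add_right_inj, hw, hneg] at e1
    have e3 : ∀ b : F, b ≠ 0 → c.r (1 / b) * b = c.r b := fun b hb => by
      rw [map_div₀, map_one, div_mul_eq_mul_div, one_mul, div_eq_iff (fun h' => hb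
        (c.r.injective (h'.trans (map_zero _).symm))), h2.2]
    rw [e3 _ (hb 1 one_ne_zero), e3 _ (hb _ l.ne_zero)] at e1
    have e4 : be 1 = be (l : F) := by
      refine c.r.injective ?_
      exact sub_eq_zero.1 (hGinj _ (by rw [map_sub, e1, sub_self]))
    have e5 := hbe_add ((l : F) - 1) 1
    rw [sub_add_cancel, ← e4, right_eq_add] at e5
    exact hl (sub_eq_zero.1 (hbe_inj _ e5))
  set q : F := z1 / be y with hq
  have hqb : be y ≠ 0 := fun h' => hy (hbe_inj y h')
  set l := c.hh (Units.mk0 q (div_ne_zero hz1 hqb)) * c.ww * c.up s with hl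
  have hlL : l ∈ L := L.mul_mem (L.mul_mem (c.hh_mem _) c.ww_mem) (c.hAL (c.up_mem s))
  have hm₀ : g * c.hh l₁ ∈ M := M.mul_mem hgM (c.hh_M l₁)
  have hkinv : ∀ v, act c.e (l * g * c.ww)⁻¹ (act c.e l (act c.e g v)) = act c.e c.ww⁻¹ v := by
    intro v
    rw [← act_mul c.e (hPV (c.hLP hlL)) hgN, ← act_mul c.e
      (hPV (P.inv_mem (P.mul_mem (P.mul_mem (c.hLP hlL) hg) c.wwP)))
      (hPV (P.mul_mem (c.hLP hlL) hg))]
    congr 1
    group
  have hlact : ∀ v : F × F × C, act c.e l v =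
      ((q : F) * v.2.1, (q : F)⁻¹ * -(v.1 + s * v.2.1), v.2.2 + c.G0 (c.r s * v.2.1)) := by
    intro v
    rw [hl, act_mul c.e (hPV (P.mul_mem (c.hhP _) c.wwP)) (hPV (c.upP s)),
      act_mul c.e (hPV (c.hhP _)) (hPV c.wwP), c.act_up, c.act_ww, c.act_hh, Units.val_inv_eq_inv_val,
      Units.val_mk0]
  have hin : ∀ {m : G}, m ∈ M → (act c.e (l * g * c.ww)⁻¹ (act c.e m ((z1, 0, z3) : F × F × C))).2.1 = 0 := by
    intro m hm
    refine c.seeds_in hzM hg hgA hlL hm₀ ?_ hm
    have e : act c.e l (act c.e g ((0, y, k) : F × F × C)) =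
        act c.e (g * c.hh l₁) ((z1, 0, z3) : F × F × C) := by
      rw [hseed, hlact, hform, hep0, zero_add]
      refine Prod.ext ?_ (Prod.ext ?_ hval)
      · show q * be y = z1
        rw [hq, div_mul_cancel₀ _ hqb]
      · show q⁻¹ * -(al y + de k + s * be y) = 0
        rw [hs, neg_zero, mul_zero]
    rw [← e, hkinv, c.act_ww_inv]
  set kk := l * g * c.ww
  have hkkP : kk ∈ P := P.mul_mem (P.mul_mem (c.hLP hlL) hg) c.wwP
  let φ : F × F × C →+ F := AddMonoidHom.mk' (fun v => (act c.e kk⁻¹ v).2.1)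
    (fun a b => by show (act c.e kk⁻¹ (a + b)).2.1 = _; rw [act_add c.e (hPV (P.inv_mem hkkP))]; rfl)
  have hφz : φ (z1, 0, z3) = 0 := by
    have := hin M.one_mem
    rwa [act_one] at this
  have hsub : ∀ (P' : F → Prop), P' 0 → (∀ a b, P' a → P' b → P' (a + b)) →
      (∀ l : Fˣ, P' (((l : F) - 1) * z1)) → ∀ a, P' a := by
    intro P' h0 hadd h
    have h1 : ∀ a, a ≠ -z1 → P' a := fun a ha => by
      have hne : a / z1 + 1 ≠ 0 := fun h' => ha (by
        rw [add_eq_zero_iff_eq_neg, div_eq_iff hz1] at h'; rw [h']; ring)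
      have := h (Units.mk0 _ hne)
      rwa [Units.val_mk0, add_sub_cancel_right, div_mul_cancel₀ _ hz1] at this
    intro a
    by_cases ha : a = -z1
    · obtain ⟨l, hl⟩ := c.exists_ne
      have hb : (l : F) * -z1 ≠ -z1 := fun h' => hl ((mul_eq_right₀ (neg_ne_zero.2 hz1)).1 h')
      have hb' : (1 - (l : F)) * -z1 ≠ -z1 := fun h' => l.ne_zero
        (by have := (mul_eq_right₀ (neg_ne_zero.2 hz1)).1 h'; linear_combination -this)
      have := hadd _ _ (h1 _ hb) (h1 _ hb')
      rw [ha]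
      convert this using 1
      ring
    · exact h1 a ha
  have hφ1 : ∀ a, φ (a, 0, 0) = 0 := by
    refine hsub _ (map_zero φ) (fun a b ha hb => ?_) fun l => ?_
    · have := map_add φ (a, 0, 0) (b, 0, 0)
      rwa [ha, hb, add_zero, Prod.mk_add_mk, Prod.mk_add_mk, add_zero, add_zero] at this
    · have e : act c.e (c.hh l) ((z1, 0, z3) : F × F × C) = (z1, 0, z3) + (((l : F) - 1) * z1, 0, 0) := by
        rw [c.act_hh]; simp [sub_mul]
      have := hin (c.hh_M l)
      rw [e] at this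
      have h3 := map_add φ (z1, 0, z3) (((l : F) - 1) * z1, 0, 0)
      rw [hφz, zero_add] at h3
      exact h3.symm.trans this
  have hφ2 : ∀ a, φ (0, 0, xi a) = 0 := by
    refine hsub _ (by rw [hxi0]; exact map_zero φ) (fun a b ha hb => ?_) fun l => ?_
    · have := map_add φ (0, 0, xi a) (0, 0, xi b)
      rwa [ha, hb, add_zero, Prod.mk_add_mk, Prod.mk_add_mk, add_zero, ← hxi_add] at this
    · have e : act c.e (g * c.hh l) ((z1, 0, z3) : F × F × C) =
          (z1, 0, z3) + (0, 0, xi (((l : F) - 1) * z1)) := by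
        rw [hseed]; simp
      have := hin (M.mul_mem hgM (c.hh_M l))
      rw [e] at this
      have h3 := map_add φ (z1, 0, z3) (0, 0, xi (((l : F) - 1) * z1))
      rw [hφz, zero_add] at h3
      exact h3.symm.trans this
  have hφ3 : ∀ k, de k = 0 → φ (0, 0, th k) = 0 := fun k hk => by
    have h1 := hkinv ((0, 0, k) : F × F × C)
    rw [hform, hep0, hal0, hk, hbe0, hxi0, hga0, hlact, c.act_ww_inv] at h1
    simp only [add_zero, zero_add, mul_zero, neg_zero, map_zero] at h1
    exact congrArg (fun v : F × F × C => v.2.1) h1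
  have hkA : cj kk⁻¹ A = A := c.cj_A_of (P.inv_mem hkkP) fun v hv => by
    obtain ⟨a, y', k'⟩ := v
    obtain rfl : y' = 0 := hv
    obtain ⟨a', k'', h1, h3⟩ := honto 0 k'
    rw [hep, zero_add] at h1
    show φ (a, 0, k') = 0
    rw [show ((a, 0, k') : F × F × C) = (a, 0, 0) + ((0, 0, xi a') + (0, 0, th k'')) by simp [h3],
      map_add, map_add, hφ1, hφ2, hφ3 k'' h1, add_zero, add_zero]
  obtain ⟨w, hw⟩ := hHbij.2 1
  have h1 : (act c.e kk ((0, 0, c.G0 w) : F × F × C)).2.1 = 0 :=
    c.preserves_U hkkP (by conv_lhs => rw [← hkA, cj_cj_inv]) rfl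
  rw [act_mul c.e (hPV (P.mul_mem (c.hLP hlL) hg)) (hPV c.wwP), act_mul c.e (hPV (c.hLP hlL)) hgN,
    c.act_ww, neg_zero, hform, hlact] at h1
  simp only [hep0, hal0, hbe0, zero_add, mul_zero, add_zero, show de (c.G0 w) = 1 from hw] at h1
  exact mul_ne_zero (inv_ne_zero (div_ne_zero hz1 hqb)) (neg_ne_zero.2 one_ne_zero) h1

/-- An element normalising `A` and fixing `z` normalises `L`. -/
theorem Chart.normalizes {g : G} (hgM : g ∈ M) (hgA : cj g A = A) (hgz : act c.e g z = z) :
    cj g L = L := by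
  classical
  have hPV := c.hPV
  have hg := c.base.pm.hMP hgM
  have hgN := hPV hg
  have hδ := c.C_invariant hzT hzM hgM hgA hgz
  obtain ⟨z1, z2, z3⟩ := z
  have hz2 : z2 = 0 := by
    have := c.seed_y hzM M.one_mem
    rwa [act_one] at this
  subst hz2
  have hz1 : z1 ≠ 0 := by
    have := c.seed_x hzM M.one_mem
    rwa [act_one] at this
  have hC : ∀ k', ∃ k, act c.e g ((0, 0, k) : F × F × C) = (0, 0, k') := by
    have hf : ∀ k, act c.e g ((0, 0, k) : F × F × C) = (0, 0, (act c.e g ((0, 0, k) : F × F × C)).2.2) :=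
      fun k => Prod.ext (hδ k) (Prod.ext (c.preserves_U hg hgA rfl) rfl)
    let f : C → C := fun k => (act c.e g ((0, 0, k) : F × F × C)).2.2
    haveI : Finite C := Finite.of_injective (fun k => c.e.symm ((0, 0, k) : F × F × C))
      (fun a b h => by simpa using c.e.symm.injective h)
    have hi : Function.Injective f := fun a b hab => by
      have : act c.e g ((0, 0, a) : F × F × C) = act c.e g ((0, 0, b) : F × F × C) := by
        rw [hf a, hf b]
        exact congrArg (fun x => ((0, 0, x) : F × F × C)) hab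
      have := congrArg (act c.e g⁻¹) this
      rw [act_inv_act c.e hgN, act_inv_act c.e hgN] at this
      exact congrArg (fun v : F × F × C => v.2.2) this
    intro k'
    obtain ⟨k, hk⟩ := Finite.injective_iff_surjective.1 hi k'
    exact ⟨k, by rw [hf k]; exact congrArg (fun x => ((0, 0, x) : F × F × C)) hk⟩
  set p₀ := act c.e g ((0, 1, 0) : F × F × C) with hp₀
  have hb : p₀.2.1 ≠ 0 := fun h' => one_ne_zero (c.beta_inj hg hgA h')
  set s := -p₀.1 / p₀.2.1
  set q := z1 / p₀.2.1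
  have hq : q ≠ 0 := div_ne_zero hz1 hb
  set l := c.hh (Units.mk0 q hq) * c.ww * c.up s with hl
  have hlL : l ∈ L := L.mul_mem (L.mul_mem (c.hh_mem _) c.ww_mem) (c.hAL (c.up_mem s))
  set kk := l * g * c.ww
  have hkkP : kk ∈ P := P.mul_mem (P.mul_mem (c.hLP hlL) hg) c.wwP
  have hkinv : ∀ v, act c.e kk⁻¹ (act c.e l (act c.e g v)) = act c.e c.ww⁻¹ v := by
    intro v
    rw [← act_mul c.e (hPV (c.hLP hlL)) hgN, ← act_mul c.e (hPV (P.inv_mem hkkP))
      (hPV (P.mul_mem (c.hLP hlL) hg))]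
    congr 1
    simp only [kk]
    group
  let φ : F × F × C →+ F := AddMonoidHom.mk' (fun v => (act c.e kk⁻¹ v).2.1)
    (fun a b => by show (act c.e kk⁻¹ (a + b)).2.1 = _; rw [act_add c.e (hPV (P.inv_mem hkkP))]; rfl)
  have hφC : ∀ k', φ (0, 0, k') = 0 := fun k' => by
    obtain ⟨k, hk⟩ := hC k'
    have hfix : act c.e l ((0, 0, k') : F × F × C) = (0, 0, k') :=
      (act_eq_iff_commute c.e (hPV (c.hLP hlL)) _).2
        (mem_centralizer_iff.1 ((c.mem_C (0, 0, k')).2 ⟨rfl, rfl⟩).2 l hlL)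
    have h1 := hkinv ((0, 0, k) : F × F × C)
    rw [hk, hfix, c.act_ww_inv] at h1
    exact congrArg (fun v : F × F × C => v.2.1) h1
  have hlp : ∀ k', act c.e l (p₀ + (0, 0, k')) =
      (z1, 0, p₀.2.2 + k' + c.G0 (c.r s * p₀.2.1)) := by
    intro k'
    rw [hl, act_mul c.e (hPV (P.mul_mem (c.hhP _) c.wwP)) (hPV (c.upP s)),
      act_mul c.e (hPV (c.hhP _)) (hPV c.wwP), c.act_up, c.act_ww, c.act_hh, Units.val_inv_eq_inv_val,
      Units.val_mk0]
    simp only [Prod.fst_add, Prod.snd_add, add_zero, s, q, div_mul_cancel₀ _ hb, add_neg_cancel,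
      neg_zero, mul_zero]
  obtain ⟨k, hk⟩ := hC (z3 - p₀.2.2 - c.G0 (c.r s * p₀.2.1))
  have hzφ : φ (z1, 0, z3) = 0 := by
    have h1 := hkinv ((0, 1, k) : F × F × C)
    rw [show ((0, 1, k) : F × F × C) = (0, 1, 0) + (0, 0, k) by simp, act_add c.e hgN, hk, ← hp₀, hlp,
      show p₀.2.2 + (z3 - p₀.2.2 - c.G0 (c.r s * p₀.2.1)) + c.G0 (c.r s * p₀.2.1) = z3 by abel,
      Prod.mk_add_mk, Prod.mk_add_mk, c.act_ww_inv] at h1
    have h2 := congrArg (fun v : F × F × C => v.2.1) h1
    show (act c.e kk⁻¹ (z1, 0, z3)).2.1 = 0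
    simpa using h2
  have hφ1 : ∀ a, φ (a, 0, 0) = 0 := by
    have h0 : φ (z1, 0, 0) = 0 := by
      have := map_add φ (z1, 0, 0) (0, 0, z3)
      rw [hφC, add_zero, Prod.mk_add_mk, Prod.mk_add_mk, add_zero, add_zero, zero_add, hzφ] at this
      exact this.symm
    intro a
    by_cases ha : a = 0
    · subst ha; exact map_zero φ
    have hm := c.seeds_in hzM hg hgA hlL M.one_mem (by rw [act_one]; exact hzφ)
      (c.hh_M (Units.mk0 _ (div_ne_zero ha hz1)))
    rw [c.act_hh, Units.val_mk0, mul_zero, div_mul_cancel₀ _ hz1] at hm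
    have := map_add φ (a, 0, 0) (0, 0, z3)
    rw [hφC, add_zero, Prod.mk_add_mk, Prod.mk_add_mk, add_zero, add_zero, zero_add] at this
    exact this.symm.trans hm
  have hkA : cj kk⁻¹ A = A := c.cj_A_of (P.inv_mem hkkP) fun v hv => by
    obtain ⟨a, y', k'⟩ := v
    obtain rfl : y' = 0 := hv
    show φ (a, 0, k') = 0
    rw [show ((a, 0, k') : F × F × C) = (a, 0, 0) + (0, 0, k') by simp, map_add, hφ1, hφC, add_zero]
  have hB : cj g (cj c.ww A) = cj l⁻¹ A := by
    have e : cj kk A = A := by conv_lhs => rw [← hkA, cj_cj_inv]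
    conv_rhs => rw [← e]
    rw [← cj_mul, ← cj_mul]
    congr 1
    simp [kk, mul_assoc]
  refine eq_of_le_of_card_ge ?_ (card_cj _ _).ge
  conv_lhs => rw [← c.gen_ww]
  rw [cj, Subgroup.map_sup]
  refine sup_le ?_ ?_
  · show cj g A ≤ L
    rw [hgA]; exact c.hAL
  · show cj g (cj c.ww A) ≤ L
    rw [hB]; exact cj_le (L.inv_mem hlL) c.hAL

end Cfsg.Agent.H34.Para
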